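import Cfsg.Agent.O8Standard47.Bridge
import Cfsg.Agent.ChevAut.OutStruct

/-!
The automorphisms of the double cover `I` of `PΩ⁺₈(2)` (helper97, for helper47's S3144).
-/

set_option autoImplicit false

namespace Cfsg.Agent.O8Standard47

open Matrix Cfsg Cfsg.Lie Cfsg.Agent.ChevCore Cfsg.Agent.ChevGroup Cfsg.Agent.O8Two50
open scoped commutatorElement

universe v

namespace Bridge

theorem wRefl_val : wRefl.val = BridgeData.wMat := by
  funext a b
  show monoMat 1 1 a b = BridgeData.wMat a b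
  exact (by decide +kernel : ∀ p : Fin 8 × Fin 8,
    monoMat 1 1 p.1 p.2 = BridgeData.wMat p.1 p.2) (a, b)

theorem wRefl_mul_self : wRefl * wRefl = 1 := by
  refine Units.ext ?_
  rw [Units.val_mul, wRefl_val, Units.val_one, BridgeData.wMat, Matrix.diagonal_mul_diagonal,
    ← Matrix.diagonal_one]
  congr 1
  funext a
  by_cases h : a = 0 <;> simp [h]

theorem wRefl_conj_gen (r : Fin 24) : wRefl * unitY 0 r * wRefl ∈ I := by
  have h : wRefl * unitY 0 r * wRefl =
      unitY 0 (BridgeData.conjT r).1 * unitY 0 (BridgeData.conjT r).2.1 *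
        unitY 0 (BridgeData.conjT r).2.2 * unitY 0 (BridgeData.conjT r).2.1 *
        unitY 0 (BridgeData.conjT r).1 := by
    refine Units.ext ?_
    simp only [Units.val_mul, wRefl_val]
    exact BridgeData.conj_ok r
  rw [h]
  exact mul_mem (mul_mem (mul_mem (mul_mem (unitY_mem 0 _) (unitY_mem 0 _)) (unitY_mem 0 _))
    (unitY_mem 0 _)) (unitY_mem 0 _)

end Bridge

/-- The reflection normalizes `I`. -/
theorem wRefl_normalizes : ∀ x ∈ I, wRefl * x * wRefl ∈ I := by
  intro x hx
  induction hx using Subgroup.closure_induction with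
  | mem y hy => obtain ⟨r, rfl⟩ := hy; exact Bridge.wRefl_conj_gen r
  | one => rw [mul_one, Bridge.wRefl_mul_self]; exact one_mem _
  | mul a b _ _ ha hb =>
    have h := mul_mem ha hb
    rwa [show wRefl * a * wRefl * (wRefl * b * wRefl) = wRefl * (a * b) * wRefl by
      simp only [mul_assoc]; rw [← mul_assoc wRefl wRefl, Bridge.wRefl_mul_self, one_mul]] at h
  | inv a _ ha =>
    have h := inv_mem ha
    have hw : wRefl⁻¹ = wRefl := inv_eq_of_mul_eq_one_right Bridge.wRefl_mul_self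
    rwa [_root_.mul_inv_rev, _root_.mul_inv_rev, hw, ← mul_assoc] at h

namespace Bridge

/-- The automorphism of `I` given by the reflection. -/
def wAut : MulAut I where
  toFun x := ⟨wRefl * x * wRefl, wRefl_normalizes x x.2⟩
  invFun x := ⟨wRefl * x * wRefl, wRefl_normalizes x x.2⟩
  left_inv x := Subtype.ext (by
    show wRefl * (wRefl * (x : UM) * wRefl) * wRefl = x
    simp only [mul_assoc, wRefl_mul_self, mul_one]
    rw [← mul_assoc, wRefl_mul_self, one_mul])
  right_inv x := Subtype.ext (by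
    show wRefl * (wRefl * (x : UM) * wRefl) * wRefl = x
    simp only [mul_assoc, wRefl_mul_self, mul_one]
    rw [← mul_assoc, wRefl_mul_self, one_mul])
  map_mul' x y := Subtype.ext (by
    show wRefl * ((x : UM) * (y : UM)) * wRefl =
      wRefl * (x : UM) * wRefl * (wRefl * (y : UM) * wRefl)
    simp only [mul_assoc]
    rw [← mul_assoc wRefl wRefl, wRefl_mul_self, one_mul])

theorem wAut_val (x : I) : ((wAut x : I) : UM) = wRefl * x * wRefl := rfl

variable {F : Type v} [Field F] [Fintype F] (hF : Fintype.card F = 2)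

include hF in
theorem perfect_I : Group.IsPerfect I := by
  refine ⟨eq_top_iff.2 ?_⟩
  rintro y -
  obtain ⟨x, rfl⟩ := pj_surjective hF 0 y
  have hx : pj 0 x ∈ (commutator (cov F)).map (pj 0) :=
    Subgroup.mem_map_of_mem _ (Group.IsPerfect.mem_commutator (hP := perfect_cov hF))
  rw [_root_.commutator_def, Subgroup.map_commutator] at hx
  exact Subgroup.commutator_mono le_top le_top hx

/-- The projection of `I` onto the simple group. -/
noncomputable def qI : I →* ↥(chevD4.group F) :=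
  (pj 0).liftOfSurjective (pj_surjective hF 0) ⟨covPi F, ker_pj_le hF 0⟩

theorem qI_pj (x : cov F) : qI hF (pj 0 x) = covPi F x :=
  MonoidHom.liftOfRightInverse_comp_apply _ _ _ _ x

theorem qI_surjective : Function.Surjective (qI hF) := fun y => by
  obtain ⟨x, rfl⟩ := covPi_surjective hF y
  exact ⟨_, qI_pj hF x⟩

theorem qI_ker : (qI hF).ker ≤ Subgroup.center I := by
  intro y hy
  obtain ⟨x, rfl⟩ := pj_surjective hF 0 y
  have hx : x ∈ Subgroup.center (cov F) :=
    (covPi_stem hF).2.1 (show covPi F x = 1 from (qI_pj hF x).symm.trans hy)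
  rw [Subgroup.mem_center_iff]
  intro z
  obtain ⟨w, rfl⟩ := pj_surjective hF 0 z
  rw [← map_mul, ← map_mul, Subgroup.mem_center_iff.1 hx w]

theorem center_le_qI_ker : Subgroup.center I ≤ (qI hF).ker := by
  intro y hy
  obtain ⟨hs, hna⟩ := TypeD4.isSimple F
  have hc : qI hF y ∈ Subgroup.center ↥(chevD4.group F) := by
    rw [Subgroup.mem_center_iff]
    intro g
    obtain ⟨z, rfl⟩ := qI_surjective hF g
    rw [← map_mul, ← map_mul, Subgroup.mem_center_iff.1 hy z]
  haveI := hs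
  rcases (inferInstance : (Subgroup.center ↥(chevD4.group F)).Normal).eq_bot_or_eq_top with h | h
  · exact Subgroup.mem_bot.1 (h ▸ hc)
  · exact absurd ⟨⟨fun a b => (Subgroup.mem_center_iff.1 (h ▸ Subgroup.mem_top b) a)⟩⟩ hna

theorem exists_cover (φ : MulAut I) :
    ∃ ψ : MulAut ↥(chevD4.group F), ∀ x, qI hF (φ x) = ψ (qI hF x) := by
  haveI : Finite ↥(cov F) := inferInstance
  haveI : Finite ↥(chevD4.group F) := Finite.of_surjective _ (covPi_surjective hF)
  have hle : (qI hF).ker ≤ ((qI hF).comp φ.toMonoidHom).ker := by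
    intro y hy
    refine center_le_qI_ker hF ?_
    have hy' := qI_ker hF hy
    rw [Subgroup.mem_center_iff] at hy' ⊢
    intro g
    obtain ⟨z, rfl⟩ := φ.surjective g
    show φ z * φ y = φ y * φ z
    rw [← map_mul, ← map_mul, hy' z]
  let f := (qI hF).liftOfSurjective (qI_surjective hF) ⟨(qI hF).comp φ.toMonoidHom, hle⟩
  have hf : ∀ x, f (qI hF x) = qI hF (φ x) := fun x =>
    MonoidHom.liftOfRightInverse_comp_apply _ _ _ _ x
  have hs : Function.Surjective f := fun y => by
    obtain ⟨z, rfl⟩ := qI_surjective hF y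
    obtain ⟨x, rfl⟩ := φ.surjective z
    exact ⟨qI hF x, hf x⟩
  exact ⟨MulEquiv.ofBijective f (hs.bijective_of_nat_card_le le_rfl), fun x => (hf x).symm⟩

theorem cover_unique {φ φ' : MulAut I} (h : ∀ x, qI hF (φ x) = qI hF (φ' x)) : φ = φ' := by
  have e := Schur.hom_ext_of_perfect (perfect_I hF) (qI hF) (qI_ker hF) φ.toMonoidHom
    φ'.toMonoidHom (MonoidHom.ext h)
  exact MulEquiv.ext fun x => DFunLike.congr_fun e x

/-- The automorphisms of the simple group lifting to `I`. -/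
def liftable : Subgroup (MulAut ↥(chevD4.group F)) where
  carrier := {ψ | ∃ φ : MulAut I, ∀ x, qI hF (φ x) = ψ (qI hF x)}
  one_mem' := ⟨1, fun _ => rfl⟩
  mul_mem' := by
    rintro a b ⟨φ, hφ⟩ ⟨φ', hφ'⟩
    exact ⟨φ * φ', fun x => by rw [MulAut.mul_apply, hφ, hφ', MulAut.mul_apply]⟩
  inv_mem' := by
    rintro a ⟨φ, hφ⟩
    refine ⟨φ⁻¹, fun x => a.injective ?_⟩
    rw [MulAut.apply_inv_self, ← hφ, MulAut.apply_inv_self]

theorem inn_le_liftable : Cfsg.Inn ↥(chevD4.group F) ≤ liftable hF := by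
  rintro _ ⟨g, rfl⟩
  obtain ⟨b, rfl⟩ := qI_surjective hF g
  exact ⟨MulAut.conj b, fun x => by
    simp only [MulAut.conj_apply, map_mul, map_inv]⟩

include hF in
theorem index_inn : (Cfsg.Inn ↥(chevD4.group F)).index = 6 := by
  classical
  haveI : Fact (Nat.Prime 2) := ⟨Nat.prime_two⟩
  haveI hp : CharP F 2 := charP_of_card_eq_prime hF
  have hf : Fintype.card F = 2 ^ ((1 : ℕ+) : ℕ) := by simpa using hF
  haveI hu : Subsingleton Fˣ := Fintype.card_le_one_iff_subsingleton.1 (by
    rw [Fintype.card_units, hF])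
  have hre : ∀ s : F ≃+* F, s = RingEquiv.refl F := fun s => RingEquiv.ext fun t => by
    rcases (two_facts hF).2 t with rfl | rfl <;> simp
  have hD : ChevAut.Seven chevD4 := by simp
  have hone : ChevAut.Form (1 : MulAut ↥(chevD4.group F)) 1 (fun _ => RingEquiv.refl F) 1 :=
    fun i g t => ⟨fun h => by simpa using h, fun h => by simpa using h⟩
  have hbot : ∀ φ : MulAut ↥(chevD4.group F),
      chevD4.IsDiagonalAut φ ∨ chevD4.IsFieldAut φ → φ = 1 := by
    rintro φ (h | h)
    · obtain ⟨-, a, ha⟩ := ChevAut.diag_form hD h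
      rw [Subsingleton.elim a 1] at ha
      exact ChevAut.Form.unique hD ha hone
    · obtain ⟨-, s, hs⟩ := ChevAut.field_form hD h
      rw [hre s] at hs
      exact ChevAut.Form.unique hD hs hone
  set Dbar := (Subgroup.closure {φ : MulAut ↥(chevD4.group F) | chevD4.IsDiagonalAut φ}).map
    (QuotientGroup.mk' (Cfsg.Inn ↥(chevD4.group F))) with hDbar
  set Fbar := (Subgroup.closure {φ : MulAut ↥(chevD4.group F) | chevD4.IsFieldAut φ}).map
    (QuotientGroup.mk' (Cfsg.Inn ↥(chevD4.group F))) with hFbar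
  have h6 := (ChevAut.index_D4 2 1 hf ChevAut.connD4 Dbar Fbar hDbar hFbar).1
  have hb : Dbar ⊔ Fbar = ⊥ := by
    rw [hDbar, hFbar, ← Subgroup.map_sup, eq_bot_iff, Subgroup.map_le_iff_le_comap, sup_le_iff,
      Subgroup.closure_le, Subgroup.closure_le]
    exact ⟨fun φ h => by rw [hbot φ (Or.inl h)]; exact one_mem _,
      fun φ h => by rw [hbot φ (Or.inr h)]; exact one_mem _⟩
  rw [hb, Subgroup.index_bot] at h6
  exact h6

theorem liftable_index_ge : 3 ≤ (liftable hF).index := by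
  obtain ⟨α, A, hA, h13, h32, -⟩ := exists_triality hF
  obtain ⟨⟨a1, -⟩, ⟨a2, -⟩, ⟨a3, -⟩⟩ := k_val hF
  have key : ∀ (ψ : MulAut ↥(chevD4.group F)) (Ψ : MulAut (cov F)),
      (∀ x, covPi F (Ψ x) = ψ (covPi F x)) → (pj 0 (Ψ (k1 hF)) : UM) = -1 →
        ψ ∉ liftable hF := by
    rintro ψ Ψ hΨ hneg ⟨φ, hφ⟩
    have e := Schur.hom_ext_of_perfect (perfect_cov hF) (qI hF) (qI_ker hF)
      (φ.toMonoidHom.comp (pj 0)) ((pj 0).comp Ψ.toMonoidHom) (MonoidHom.ext fun x => by
        show qI hF (φ (pj 0 x)) = qI hF (pj 0 (Ψ x))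
        rw [hφ, qI_pj, qI_pj, hΨ])
    have e1 : φ (pj 0 (k1 hF)) = pj 0 (Ψ (k1 hF)) := DFunLike.congr_fun e (k1 hF)
    rw [show pj 0 (k1 hF) = 1 from Subtype.ext a1, map_one] at e1
    rw [← e1] at hneg
    exact neg_one_ne_one hneg.symm
  have h1 : α ∉ liftable hF := key α A hA (by rw [h13]; exact a3)
  have h2 : α * α ∉ liftable hF := key (α * α) (A * A)
    (fun x => by rw [MulAut.mul_apply, hA, hA, MulAut.mul_apply])
    (by rw [MulAut.mul_apply, h13, h32]; exact a2)
  by_contra hlt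
  have h0 : (liftable hF).index ≠ 0 := fun h => by
    have hdvd := Subgroup.index_dvd_of_le (inn_le_liftable hF)
    rw [h, index_inn hF] at hdvd
    omega
  rcases (by omega : (liftable hF).index = 1 ∨ (liftable hF).index = 2) with h | h
  · exact h1 (Subgroup.index_eq_one.1 h ▸ Subgroup.mem_top _)
  · exact h2 (Subgroup.mul_self_mem_of_index_two h α)

include hF in
theorem det_eq_one (x : I) : (x : UM).val.det = 1 := by
  let d : I →* (ZMod 3)ˣ :=
    (Units.map (Matrix.detMonoidHom : Matrix (Fin 8) (Fin 8) (ZMod 3) →* ZMod 3)).comp I.subtype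
  have h := congrArg Units.val (Schur.monoidHom_eq_one_of_perfect (perfect_I hF) d x)
  rwa [MonoidHom.comp_apply, Units.coe_map, Matrix.coe_detMonoidHom, Units.val_one] at h

include hF in
theorem neg_one_mem : (-1 : UM) ∈ I :=
  (k_val hF).2.1.1 ▸ (pj 0 (k2 hF)).2

theorem wAut_not_inner {ψ : MulAut ↥(chevD4.group F)}
    (h : ∀ x, qI hF (wAut x) = ψ (qI hF x)) : ψ ∉ Cfsg.Inn ↥(chevD4.group F) := by
  rintro ⟨g, rfl⟩
  obtain ⟨b, rfl⟩ := qI_surjective hF g
  have e : wAut = MulAut.conj b := cover_unique hF fun x => by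
    rw [h]
    simp only [MulAut.conj_apply, map_mul, map_inv]
  have hc : ∀ r, unitY 0 r * ((b : UM)⁻¹ * wRefl) = (b : UM)⁻¹ * wRefl * unitY 0 r := by
    intro r
    have e1 := congrArg Subtype.val (DFunLike.congr_fun e (⟨unitY 0 r, unitY_mem 0 r⟩ : I))
    change wRefl * unitY 0 r * wRefl = (b : UM) * unitY 0 r * (b : UM)⁻¹ at e1
    have e2 : wRefl * unitY 0 r = (b : UM) * unitY 0 r * (b : UM)⁻¹ * wRefl := by
      rw [← e1, mul_assoc (wRefl * unitY 0 r), wRefl_mul_self, mul_one]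
    rw [mul_assoc (b : UM)⁻¹ wRefl, e2]
    group
  have hw : wRefl = (b : UM) * ((b : UM)⁻¹ * wRefl) := (mul_inv_cancel_left _ _).symm
  have hmem : wRefl ∈ I := by
    rcases comm_scalar hc with h' | h' <;> rw [hw, h']
    · rw [mul_one]; exact b.2
    · exact mul_mem b.2 (neg_one_mem hF)
  have hd := det_eq_one hF ⟨wRefl, hmem⟩
  rw [show ((⟨wRefl, hmem⟩ : I) : UM) = wRefl from rfl, wRefl_val, BridgeData.det_wMat] at hd
  exact absurd hd (by decide)

theorem liftable_cases {ψ ψw : MulAut ↥(chevD4.group F)} (hψ : ψ ∈ liftable hF)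
    (hw : ψw ∈ liftable hF) (hwn : ψw ∉ Cfsg.Inn ↥(chevD4.group F)) :
    ψ ∈ Cfsg.Inn ↥(chevD4.group F) ∨ ψ * ψw ∈ Cfsg.Inn ↥(chevD4.group F) := by
  set N := Cfsg.Inn ↥(chevD4.group F) with hN
  have hmul := Subgroup.relIndex_mul_index (inn_le_liftable hF)
  rw [index_inn hF] at hmul
  have hge := liftable_index_ge hF
  have h1 : N.relIndex (liftable hF) ≠ 1 := fun h => hwn (Subgroup.relIndex_eq_one.1 h hw)
  have h2 : N.relIndex (liftable hF) = 2 := by
    rw [hN] at h1 ⊢
    rcases Nat.lt_or_ge ((Cfsg.Inn ↥(chevD4.group F)).relIndex (liftable hF)) 3 with h | h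
    · interval_cases hr : (Cfsg.Inn ↥(chevD4.group F)).relIndex (liftable hF) <;> omega
    · nlinarith
  have h3 := Subgroup.mul_mem_iff_of_index_two (H := N.subgroupOf (liftable hF)) h2
    (a := ⟨ψ, hψ⟩) (b := ⟨ψw, hw⟩)
  simp only [Subgroup.mem_subgroupOf, Subgroup.coe_mul] at h3
  tauto

end Bridge

open Bridge in
/-- The automorphisms of `I`: conjugations in `W(E8)`. -/
theorem aut_I (φ : MulAut I) : ∃ b : I, (∀ x, φ x = b * x * b⁻¹) ∨
    (∀ x : I, ((φ x : I) : UM) = (b : UM) * (wRefl * (x : UM) * wRefl) * (b : UM)⁻¹) := by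
  haveI : Fact (Nat.Prime 2) := ⟨Nat.prime_two⟩
  have hF : Fintype.card (ZMod 2) = 2 := ZMod.card 2
  obtain ⟨ψ, hψ⟩ := exists_cover hF φ
  obtain ⟨ψw, hψw⟩ := exists_cover hF wAut
  rcases liftable_cases hF ⟨φ, hψ⟩ ⟨wAut, hψw⟩ (wAut_not_inner hF hψw) with h | h
  · obtain ⟨g, hg⟩ := h
    obtain ⟨b, rfl⟩ := qI_surjective hF g
    have e : φ = MulAut.conj b := cover_unique hF fun x => by
      rw [hψ, ← hg]
      simp only [MulAut.conj_apply, map_mul, map_inv]
    exact ⟨b, Or.inl fun x => by rw [e, MulAut.conj_apply]⟩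
  · obtain ⟨g, hg⟩ := h
    obtain ⟨b, rfl⟩ := qI_surjective hF g
    have e : φ * wAut = MulAut.conj b := cover_unique hF fun x => by
      rw [MulAut.mul_apply, hψ, hψw, ← MulAut.mul_apply, ← hg]
      simp only [MulAut.conj_apply, map_mul, map_inv]
    refine ⟨b, Or.inr fun x => ?_⟩
    have e1 := DFunLike.congr_fun e (wAut x)
    rw [MulAut.mul_apply, MulAut.conj_apply,
      show wAut (wAut x) = x from wAut.left_inv x] at e1
    rw [e1]
    rfl

end Cfsg.Agent.O8Standard47
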