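import Cfsg.Agent.O8Standard47.Quat
import Mathlib.GroupTheory.Commutator.Basic

/-!
The quaternion witnesses lie in the derived subgroup of the centralizer of a block element.
-/

set_option autoImplicit false

namespace Cfsg.Agent.O8Standard47

open Cfsg.Agent.O8Two50 (UM unitY mtx)
open scoped commutatorElement

/-- The monomial generators of the block stabiliser as code and mask. -/
def bGen (r : Fin 24) : ℕ × ℕ :=
  match r.val with
  | 5 => (15918602, 95)
  | 11 => (2206526, 235)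
  | 13 => (2206526, 105)
  | 14 => (11788826, 175)
  | 15 => (11789960, 245)
  | 16 => (16434824, 85)
  | 17 => (11788826, 165)
  | 18 => (16405704, 63)
  | 19 => (14570689, 207)
  | 20 => (14571144, 3)
  | 22 => (14570689, 51)
  | _ => (0, 0)

theorem bGen_val : ∀ r ∈ [5, 11, 13, 14, 15, 16, 17, 18, 19, 20, 22],
    mtx 0 (Fin.ofNat 24 r) = cm (bGen (Fin.ofNat 24 r)).1 (bGen (Fin.ofNat 24 r)).2 := by
  decide +kernel

/-- The monomial form of a word. -/
def bEval : List ℕ → (Fin 8 → Fin 8) × (Fin 8 → Bool)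
  | [] => (id, fun _ => false)
  | r :: w =>
    (pI (bGen (Fin.ofNat 24 r)).1 ∘ (bEval w).1,
      fun b => xor (bits (bGen (Fin.ofNat 24 r)).2 ((bEval w).1 b)) ((bEval w).2 b))

theorem bWord (w : List ℕ) (h : ∀ r ∈ w, r ∈ [5, 11, 13, 14, 15, 16, 17, 18, 19, 20, 22]) :
    ∃ u ∈ I, u.val = mf (bEval w).1 (bEval w).2 := by
  induction w with
  | nil => exact ⟨1, I.one_mem, by rw [Units.val_one]; exact mf_one.symm⟩
  | cons r w ih =>
    obtain ⟨u, hu, huv⟩ := ih fun s hs => h s (List.mem_cons_of_mem _ hs)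
    refine ⟨unitY 0 (Fin.ofNat 24 r) * u,
      I.mul_mem (Subgroup.subset_closure ⟨_, rfl⟩) hu, ?_⟩
    rw [Units.val_mul, huv]
    show mtx 0 (Fin.ofNat 24 r) * _ = _
    rw [bGen_val r (h r List.mem_cons_self), cm, mf_mul]
    rfl

/-- The monomial form of a product. -/
def bMul (f g : (Fin 8 → Fin 8) × (Fin 8 → Bool)) : (Fin 8 → Fin 8) × (Fin 8 → Bool) :=
  (f.1 ∘ g.1, fun b => xor (f.2 (g.1 b)) (g.2 b))

theorem bMul_val {u v : UM} {f g : (Fin 8 → Fin 8) × (Fin 8 → Bool)} (hu : u.val = mf f.1 f.2)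
    (hv : v.val = mf g.1 g.2) : (u * v).val = mf (bMul f g).1 (bMul f g).2 :=
  qMul hu hv

theorem bEq {x y : UM} {f g : (Fin 8 → Fin 8) × (Fin 8 → Bool)} (hx : x.val = mf f.1 f.2)
    (hy : y.val = mf g.1 g.2) (h : f = g) : x = y :=
  Units.ext (by rw [hx, hy, h])

/-- The centralizer in `I` of the first block element. -/
def blockCent : Subgroup UM := I ⊓ Subgroup.centralizer ({diagS 15} : Set UM)

/-- A word commuting with the block element is in its centralizer. -/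
theorem bMem {u : UM} {f : (Fin 8 → Fin 8) × (Fin 8 → Bool)} (hu : u ∈ I) (hv : u.val = mf f.1 f.2)
    (h : bMul f (id, bits 15) = bMul (id, bits 15) f) : u ∈ blockCent :=
  ⟨hu, Subgroup.mem_centralizer_singleton_iff.2 (bEq (bMul_val hv (diagS_val 15))
    (bMul_val (f := (id, bits 15)) (diagS_val 15) hv) h)⟩

/-- A word equal to a commutator of two words of the block centralizer lies in the derived group. -/
theorem bComm (a b c : List ℕ)
    (ha : ∀ r ∈ a, r ∈ [5, 11, 13, 14, 15, 16, 17, 18, 19, 20, 22])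
    (hb : ∀ r ∈ b, r ∈ [5, 11, 13, 14, 15, 16, 17, 18, 19, 20, 22])
    (hc : ∀ r ∈ c, r ∈ [5, 11, 13, 14, 15, 16, 17, 18, 19, 20, 22])
    (hca : bMul (bEval a) (id, bits 15) = bMul (id, bits 15) (bEval a))
    (hcb : bMul (bEval b) (id, bits 15) = bMul (id, bits 15) (bEval b))
    (h : bMul (bEval a) (bEval b) = bMul (bMul (bEval c) (bEval b)) (bEval a)) :
    ∃ u ∈ ⁅blockCent, blockCent⁆, u.val = mf (bEval c).1 (bEval c).2 := by
  obtain ⟨x, hx, vx⟩ := bWord a ha
  obtain ⟨y, hy, vy⟩ := bWord b hb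
  obtain ⟨z, -, vz⟩ := bWord c hc
  have e : x * y = z * y * x := bEq (bMul_val vx vy) (bMul_val (bMul_val vz vy) vx) h
  refine ⟨z, ?_, vz⟩
  have hz : ⁅x, y⁆ = z := by rw [commutatorElement_def, e]; group
  exact hz ▸ Subgroup.commutator_mem_commutator (bMem hx vx hca) (bMem hy vy hcb)

theorem block_commutators : ∃ i j i' j' p : UM,
    i ∈ ⁅blockCent, blockCent⁆ ∧ j ∈ ⁅blockCent, blockCent⁆ ∧ i' ∈ ⁅blockCent, blockCent⁆ ∧
    j' ∈ ⁅blockCent, blockCent⁆ ∧ p ∈ ⁅blockCent, blockCent⁆ ∧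
    i * i = diagS 15 ∧ j * j = diagS 15 ∧ i' * i' = diagS 15 ∧ j' * j' = diagS 15 ∧
    j * i = i * j * diagS 15 ∧ j' * i' = i' * j' * diagS 15 ∧
    i * i' = i' * i ∧ i * j' = j' * i ∧ j * i' = i' * j ∧ j * j' = j' * j ∧
    p * i = i * p ∧ p * j = j * p ∧ p * i' = i' * p ∧ p * j' = j' * p ∧ p * p = diagS 240 := by
  obtain ⟨i, hi, vi⟩ := bComm [11, 13, 18] [15, 16, 17]
    [11, 13, 18, 15, 16, 17, 18, 13, 11, 17, 16, 15] (by decide) (by decide) (by decide)
    (by decide +kernel) (by decide +kernel) (by decide +kernel)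
  obtain ⟨j₁, hj₁, vj₁⟩ := bComm [5] [20] [5, 20, 5, 20] (by decide) (by decide) (by decide)
    (by decide +kernel) (by decide +kernel) (by decide +kernel)
  obtain ⟨j₂, hj₂, vj₂⟩ := bComm [5, 19, 20] [11, 13, 19]
    [5, 19, 20, 11, 13, 19, 20, 19, 5, 19, 13, 11] (by decide) (by decide) (by decide)
    (by decide +kernel) (by decide +kernel) (by decide +kernel)
  obtain ⟨k, hk, vk⟩ := bComm [14, 15, 16] [11, 13, 18]
    [14, 15, 16, 11, 13, 18, 16, 15, 14, 18, 13, 11] (by decide) (by decide) (by decide)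
    (by decide +kernel) (by decide +kernel) (by decide +kernel)
  obtain ⟨l₂, hl₂, vl₂⟩ := bComm [5, 19, 20] [11, 13, 22]
    [5, 19, 20, 11, 13, 22, 20, 19, 5, 22, 13, 11] (by decide) (by decide) (by decide)
    (by decide +kernel) (by decide +kernel) (by decide +kernel)
  obtain ⟨p, hp, vp⟩ := bComm [15, 16] [11, 13, 18]
    [15, 16, 11, 13, 18, 16, 15, 18, 13, 11] (by decide) (by decide) (by decide)
    (by decide +kernel) (by decide +kernel) (by decide +kernel)
  have vj := bMul_val vj₁ vj₂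
  have vl := bMul_val vj₁ vl₂
  have d : ∀ v, (diagS v).val = mf ((id : Fin 8 → Fin 8), bits v).1
      ((id : Fin 8 → Fin 8), bits v).2 := diagS_val
  refine ⟨i, j₁ * j₂, k, j₁ * l₂, p, hi, mul_mem hj₁ hj₂, hk, mul_mem hj₁ hl₂, hp,
    bEq (bMul_val vi vi) (d 15) ?_, bEq (bMul_val vj vj) (d 15) ?_,
    bEq (bMul_val vk vk) (d 15) ?_, bEq (bMul_val vl vl) (d 15) ?_,
    bEq (bMul_val vj vi) (bMul_val (bMul_val vi vj) (d 15)) ?_,
    bEq (bMul_val vl vk) (bMul_val (bMul_val vk vl) (d 15)) ?_,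
    bEq (bMul_val vi vk) (bMul_val vk vi) ?_, bEq (bMul_val vi vl) (bMul_val vl vi) ?_,
    bEq (bMul_val vj vk) (bMul_val vk vj) ?_, bEq (bMul_val vj vl) (bMul_val vl vj) ?_,
    bEq (bMul_val vp vi) (bMul_val vi vp) ?_, bEq (bMul_val vp vj) (bMul_val vj vp) ?_,
    bEq (bMul_val vp vk) (bMul_val vk vp) ?_, bEq (bMul_val vp vl) (bMul_val vl vp) ?_,
    bEq (bMul_val vp vp) (d 240) ?_⟩ <;> decide +kernel

end Cfsg.Agent.O8Standard47
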