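import Cfsg.Agent.O8Two50.CoverMat
import Mathlib.LinearAlgebra.Matrix.Determinant.Basic

/-!
Finite facts on the lifted root elements of `W(E8)⁺` modulo three (helper97, for helper47's S3144).
-/

set_option autoImplicit false

namespace Cfsg.Agent.O8Standard47.BridgeData

open Matrix Cfsg.Agent.O8Two50

/-- The reflection in the first axis, as a matrix. -/
def wMat : Matrix (Fin 8) (Fin 8) (ZMod 3) := Matrix.diagonal fun a => if a = 0 then -1 else 1

/-- Conjugation of a generator by the reflection, as a word `A B R B A`. -/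
def conjTab : List (Fin 24 × Fin 24 × Fin 24) := [(22, (19, 0)), (4, (19, 19)), (22, (19, 2)), (22, (19, 3)), (1, (22, 22)), (22, (19, 5)), (19, (9, 9)), (0, (0, 7)), (0, (0, 8)), (22, (6, 6)), (19, (12, 12)), (19, (13, 13)), (22, (10, 10)), (22, (11, 11)), (19, (17, 17)), (0, (0, 15)), (0, (0, 16)), (22, (14, 14)), (0, (0, 18)), (7, (22, 22)), (0, (0, 20)), (0, (0, 21)), (7, (19, 19)), (0, (0, 23))]

/-- The entry of the table. -/
def conjT (r : Fin 24) : Fin 24 × Fin 24 × Fin 24 := conjTab.getD r.val (0, 0, 0)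

set_option maxHeartbeats 2000000 in
theorem conj_ok : ∀ r : Fin 24, wMat * mtx 0 r * wMat =
    mtx 0 (conjT r).1 * mtx 0 (conjT r).2.1 * mtx 0 (conjT r).2.2 * mtx 0 (conjT r).2.1 *
      mtx 0 (conjT r).1 := by
  decide +kernel

set_option maxHeartbeats 2000000 in
theorem sign_ok : mtx 0 0 * mtx 0 11 = -(mtx 0 11 * mtx 0 0) := by decide +kernel

theorem diag_ok : ∀ r ∈ ([16, 21, 23] : List (Fin 24)),
    ∀ p : Fin 8 × Fin 8, p.1 = p.2 ∨ mtx 0 r p.1 p.2 = 0 := by
  decide +kernel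

theorem sep_ok : ∀ p : Fin 8 × Fin 8, p.1 = p.2 ∨
    ∃ r ∈ ([16, 21, 23] : List (Fin 24)), mtx 0 r p.1 p.1 ≠ mtx 0 r p.2 p.2 := by
  decide +kernel

theorem edge_ok : mtx 0 19 1 0 ≠ 0 ∧ mtx 0 17 2 0 ≠ 0 ∧ mtx 0 19 3 2 ≠ 0 ∧ mtx 0 3 6 0 ≠ 0 ∧
    mtx 0 19 7 6 ≠ 0 ∧ mtx 0 17 4 6 ≠ 0 ∧ mtx 0 19 5 4 ≠ 0 := by
  decide +kernel

/-- A matrix commuting with all generators is a scalar. -/
theorem comm_scalar (c : Matrix (Fin 8) (Fin 8) (ZMod 3))
    (h : ∀ r, c * mtx 0 r = mtx 0 r * c) : c = c 0 0 • 1 := by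
  haveI : Fact (Nat.Prime 3) := ⟨Nat.prime_three⟩
  have hd : ∀ a b, a ≠ b → c a b = 0 := by
    intro a b hab
    obtain ⟨r, hr, hne⟩ := (sep_ok (a, b)).resolve_left hab
    have h1 := congrFun (congrFun (h r) a) b
    rw [Matrix.mul_apply, Matrix.mul_apply,
      Finset.sum_eq_single b (fun x _ hx => by rw [(diag_ok r hr (x, b)).resolve_left hx, mul_zero])
        (fun hx => absurd (Finset.mem_univ b) hx),
      Finset.sum_eq_single a (fun x _ hx => by rw [(diag_ok r hr (a, x)).resolve_left (Ne.symm hx), zero_mul])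
        (fun hx => absurd (Finset.mem_univ a) hx)] at h1
    by_contra hc
    exact hne (mul_right_cancel₀ hc (h1.symm.trans (mul_comm _ _)))
  have hc : c = Matrix.diagonal fun a => c a a := by
    ext a b
    by_cases e : a = b
    · subst e; simp
    · rw [hd a b e, Matrix.diagonal_apply_ne _ e]
  have key : ∀ r a p, mtx 0 r a p ≠ 0 → c a a = c p p := by
    intro r a p hne
    have h1 := congrFun (congrFun (h r) a) p
    rw [hc, Matrix.diagonal_mul, Matrix.mul_diagonal] at h1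
    exact mul_right_cancel₀ hne (h1.trans (mul_comm _ _))
  obtain ⟨e1, e2, e3, e6, e7, e4, e5⟩ := edge_ok
  have c1 := key _ _ _ e1
  have c2 := key _ _ _ e2
  have c3 := (key _ _ _ e3).trans c2
  have c6 := key _ _ _ e6
  have c7 := (key _ _ _ e7).trans c6
  have c4 := (key _ _ _ e4).trans c6
  have c5 := (key _ _ _ e5).trans c4
  ext a b
  rw [Matrix.smul_apply, Matrix.one_apply, smul_eq_mul]
  by_cases e : a = b
  · subst e
    rw [if_pos rfl, mul_one]
    fin_cases a
    exacts [rfl, c1, c2, c3, c4, c5, c6, c7]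
  · rw [if_neg e, mul_zero, hd a b e]

theorem det_wMat : wMat.det = -1 := by
  rw [wMat, Matrix.det_diagonal]
  decide

end Cfsg.Agent.O8Standard47.BridgeData
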