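import Cfsg.Agent.O8Standard47.Defs
import Cfsg.Agent.O8Standard47.BridgeData
import Cfsg.Agent.O8Two50.Cover
import Cfsg.Agent.Lib.UnitaryOrthogonal.AdjointIsoD4
import Cfsg.Agent.ChevGroup.Mat.SimpleD4
import Cfsg.Agent.ChevGroup.Mat.OrderD4
import Cfsg.Agent.ChevGroup.Mat.Inst
import Cfsg.Agent.Lib.ChevCore.CommAll

/-!
Every perfect double cover of `PΩ⁺₈(2)` is the group `I` (helper97, for helper47's S3144).
-/

set_option autoImplicit false

namespace Cfsg.Agent.O8Standard47

open Matrix Cfsg Cfsg.Lie Cfsg.Agent.ChevCore Cfsg.Agent.ChevGroup Cfsg.Agent.O8Two50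
open scoped commutatorElement

universe u v w

namespace Bridge

instance : Fact (Nat.Prime 3) := ⟨Nat.prime_three⟩

theorem eq_one_or_neg (x : UM) (d : ZMod 3) (h : x.val = d • 1) : x = 1 ∨ x = -1 := by
  rcases (by decide : ∀ d : ZMod 3, d = 0 ∨ d = 1 ∨ d = -1) d with rfl | rfl | rfl
  · have h1 := x.mul_inv
    rw [h, zero_smul, zero_mul] at h1
    exact absurd h1 zero_ne_one
  · exact Or.inl (Units.ext (by rw [h, one_smul, Units.val_one]))
  · exact Or.inr (Units.ext (by rw [h, neg_one_smul, Units.val_neg, Units.val_one]))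

theorem neg_one_ne_one : (-1 : UM) ≠ 1 := fun h => by
  have h' : (-1 : ZMod 3) = 1 := by
    simpa [Matrix.neg_apply] using congrArg (fun u : UM => u.val 0 0) h
  exact absurd h' (by decide)

theorem comm_scalar {x : UM} (h : ∀ r, unitY 0 r * x = x * unitY 0 r) : x = 1 ∨ x = -1 :=
  eq_one_or_neg x _ (BridgeData.comm_scalar x.val fun r => congrArg Units.val (h r).symm)

theorem two_cases : ∀ j : Fin 2, j = 0 ∨ j = 1 := by decide

/-- The triality permutation of the root elements. -/
def rhoF (r : Fin 24) : Fin 24 := Fin.ofNat 24 (rhoTab.getD r.val 0)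

theorem rhoF_val : ∀ r : Fin 24, (rhoF r).val = rhoTab.getD r.val 0 := by decide +kernel

theorem rhoF_surj : ∀ s : Fin 24, ∃ r, rhoF r = s := by decide +kernel

theorem unitY_one (r : Fin 24) : unitY 1 r = unitY 0 (rhoF r) := by
  refine Units.ext ?_
  show mtx 1 r = mtx 0 (rhoF r)
  funext a b
  show ((entN (matTab.getD (rhoTab.getD r.val 0) 0) (8 * a + b) : ℕ) : ZMod 3) =
    ((entN (matTab.getD (rhoF r).val 0) (8 * a + b) : ℕ) : ZMod 3)
  rw [rhoF_val]

theorem perm_one (r : Fin 24) : perm 1 r = perm 0 (rhoF r) := by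
  refine Equiv.ext fun i => Fin.ext ?_
  show pImg 1 r i = pImg 0 (rhoF r) i
  simp only [pImg, tw, rhoF_val, if_neg (show (1 : Fin 2) ≠ 0 by decide), if_true]

theorem unitY_mem (j : Fin 2) (r : Fin 24) : unitY j r ∈ I := by
  fin_cases j
  · exact Subgroup.subset_closure ⟨r, rfl⟩
  · show unitY 1 r ∈ I
    rw [unitY_one]
    exact Subgroup.subset_closure ⟨_, rfl⟩

section Field

variable {F : Type v} [Field F] [Fintype F] (hF : Fintype.card F = 2)

include hF in
theorem perfect_D4 : Group.IsPerfect ↥(chevD4.group F) := ⟨isPerfect_D4 hF⟩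

include hF in
theorem perfect_cov : Group.IsPerfect ↥(cov F) :=
  Schur.isPerfect_of_stem (perfect_D4 hF) (covPi F) (covPi_stem hF)

/-- The two representations on the cover of the derived group. -/
noncomputable def val (j : Fin 2) : cov0 F →* UM :=
  (prU j).comp ((MonoidHom.fst _ _).comp (cov0 F).subtype)

theorem val_genC (j : Fin 2) (r : Fin 24) : val j (genC F r) = unitY j r := by
  fin_cases j <;> rfl

theorem val_mem (j : Fin 2) (x : cov0 F) : val j x ∈ I := by
  have h : cov0 F ≤ I.comap ((prU j).comp (MonoidHom.fst _ ↥(chevD4.group F))) := by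
    refine (Subgroup.closure_le _).2 ?_
    rintro _ ⟨r, rfl⟩
    show prU j (gen F r).1 ∈ I
    have := val_genC (F := F) j r
    exact (show prU j (gen F r).1 = unitY j r from this) ▸ unitY_mem j r
  exact h x.2

/-- The two maps of the cover onto `I`. -/
noncomputable def pj (j : Fin 2) : cov F →* I :=
  ((val j).comp (cov F).subtype).codRestrict I fun x => val_mem j _

theorem pj_val (j : Fin 2) (x : cov F) : (pj j x : UM) = val j (x : cov0 F) := rfl

include hF in
theorem val_ker (j : Fin 2) (x : cov0 F) (hx : covMap F x = 1) : val j x = 1 ∨ val j x = -1 := by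
  obtain ⟨d, hd⟩ := eq_scalar_of_lines (prU j x.1.1).val fun i => by
    obtain ⟨c, -, h⟩ := cov0_le hF x.2 j i
    rw [show x.1.2 = 1 from hx, map_one, Equiv.Perm.one_apply] at h
    exact ⟨c, h⟩
  exact eq_one_or_neg _ d hd

/-- A lift of a root element in the cover. -/
noncomputable def cl (r : Fin 24) : cov F :=
  Function.surjInv (covPi_surjective hF) (xroot F r)

theorem covPi_cl (r : Fin 24) : covPi F (cl hF r) = xroot F r :=
  Function.surjInv_eq (covPi_surjective hF) _

/-- A commutator of two lifts. -/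
noncomputable def kk (r s : Fin 24) : cov F := ⁅cl hF r, cl hF s⁆

theorem cl_central (r : Fin 24) :
    (genC F r)⁻¹ * (cl hF r : cov0 F) ∈ Subgroup.center (cov0 F) := by
  refine cov_ker_central hF ?_
  have h1 : covMap F (cl hF r : cov0 F) = xroot F r := covPi_cl hF r
  rw [MonoidHom.mem_ker, map_mul, map_inv, h1]
  exact inv_mul_cancel _

theorem pj_kk (j : Fin 2) (r s : Fin 24) :
    (pj j (kk hF r s) : UM) = ⁅unitY j r, unitY j s⁆ := by
  rw [pj_val, kk, show ((⁅cl hF r, cl hF s⁆ : cov F) : cov0 F) =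
    ⁅(cl hF r : cov0 F), (cl hF s : cov0 F)⁆ from rfl]
  have h := Schur.commutatorElement_mul_central (cl_central hF r) (cl_central hF s)
    (genC F r) (genC F s)
  rw [mul_inv_cancel_left, mul_inv_cancel_left] at h
  rw [h, map_commutatorElement, val_genC, val_genC]

theorem kk_ker {r s : Fin 24} (h : s.val ≠ chevD4.neg r.val)
    (he : chevD4.commTerms r.val s.val = []) : covPi F (kk hF r s) = 1 := by
  rw [kk, map_commutatorElement, covPi_cl, covPi_cl, commutatorElement_eq_one_iff_commute]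
  exact xroot_commute h he

theorem three_facts : ∀ s : Fin 24, s = 5 ∨ s = 10 ∨ s = 11 →
    s.val ≠ chevD4.neg (0 : Fin 24).val ∧ chevD4.commTerms (0 : Fin 24).val s.val = [] := by
  decide +kernel

/-- The three nontrivial elements of the kernel. -/
noncomputable def k1 : cov F := kk hF 0 5

/-- The second one. -/
noncomputable def k2 : cov F := kk hF 0 10

/-- The third one. -/
noncomputable def k3 : cov F := kk hF 0 11

theorem k_mem : k1 hF ∈ (covPi F).ker ∧ k2 hF ∈ (covPi F).ker ∧ k3 hF ∈ (covPi F).ker :=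
  ⟨kk_ker hF (three_facts 5 (Or.inl rfl)).1 (three_facts 5 (Or.inl rfl)).2,
    kk_ker hF (three_facts 10 (Or.inr (Or.inl rfl))).1 (three_facts 10 (Or.inr (Or.inl rfl))).2,
    kk_ker hF (three_facts 11 (Or.inr (Or.inr rfl))).1 (three_facts 11 (Or.inr (Or.inr rfl))).2⟩

theorem k_val : ((pj 0 (k1 hF) : UM) = 1 ∧ (pj 1 (k1 hF) : UM) = -1) ∧
    ((pj 0 (k2 hF) : UM) = -1 ∧ (pj 1 (k2 hF) : UM) = 1) ∧
    ((pj 0 (k3 hF) : UM) = -1 ∧ (pj 1 (k3 hF) : UM) = -1) := by
  obtain ⟨s1, s2, s3, s4⟩ := mtx_signs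
  simp only [k1, k2, k3, pj_kk]
  have r0 : rhoF 0 = 0 := by decide
  have r11 : rhoF 11 = 10 := by decide
  refine ⟨⟨?_, ?_⟩, ⟨?_, ?_⟩, ?_, ?_⟩
  · exact comm_unit_eq_one (A := unitY 0 0) (B := unitY 0 5) s1
  · exact comm_unit_eq_neg (A := unitY 1 0) (B := unitY 1 5) s3
  · exact comm_unit_eq_neg (A := unitY 0 0) (B := unitY 0 10) s2
  · exact comm_unit_eq_one (A := unitY 1 0) (B := unitY 1 10) s4
  · exact comm_unit_eq_neg (A := unitY 0 0) (B := unitY 0 11) BridgeData.sign_ok
  · rw [unitY_one 0, unitY_one 11, r0, r11]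
    exact comm_unit_eq_neg (A := unitY 0 0) (B := unitY 0 10) s2

include hF in
theorem card_ker : Nat.card (covPi F).ker = 4 := by
  haveI : Finite ↥(cov F) := inferInstance
  exact (covPi_ker_klein hF).1

theorem ker_cases {x : cov F} (hx : covPi F x = 1) :
    x = 1 ∨ x = k1 hF ∨ x = k2 hF ∨ x = k3 hF := by
  classical
  obtain ⟨m1, m2, m3⟩ := k_mem hF
  obtain ⟨⟨a1, b1⟩, ⟨a2, b2⟩, ⟨a3, b3⟩⟩ := k_val hF
  let f : Fin 4 → (covPi F).ker := ![1, ⟨_, m1⟩, ⟨_, m2⟩, ⟨_, m3⟩]
  let V : (covPi F).ker → UM × UM := fun y => ((pj 0 (y : cov F) : UM), (pj 1 (y : cov F) : UM))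
  have hv : ∀ i, V (f i) = (![(1, 1), (1, -1), (-1, 1), (-1, -1)] : Fin 4 → UM × UM) i := by
    intro i
    fin_cases i <;> simp [V, f, a1, b1, a2, b2, a3, b3]
  have hf : Function.Injective f := by
    intro a b e
    have e' := congrArg V e
    rw [hv, hv] at e'
    have := neg_one_ne_one
    fin_cases a <;> fin_cases b <;> simp_all [Prod.ext_iff, this.symm]
  have hsurj : Function.Surjective f :=
    (hf.bijective_of_nat_card_le (by rw [card_ker hF, Nat.card_fin])).2
  obtain ⟨i, hi⟩ := hsurj ⟨x, hx⟩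
  have hi' : ((f i : (covPi F).ker) : cov F) = x := congrArg Subtype.val hi
  subst hi'
  fin_cases i <;> simp [f]

include hF in
theorem range_pj (j : Fin 2) : (pj (F := F) j).range = ⊤ := by
  rw [eq_top_iff]
  rintro ⟨y, hy⟩ -
  obtain ⟨⟨a0, a1⟩, ⟨b0, b1⟩, -⟩ := k_val hF
  have hneg : (-1 : UM) ∈ (pj (F := F) j).range.map I.subtype := by
    rcases two_cases j with rfl | rfl
    · exact ⟨pj 0 (k2 hF), ⟨_, rfl⟩, b0⟩
    · exact ⟨pj 1 (k1 hF), ⟨_, rfl⟩, a1⟩
  have hgen : ∀ r, unitY j r ∈ (pj (F := F) j).range.map I.subtype := by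
    intro r
    set z : cov0 F := (cl hF r : cov0 F)⁻¹ * genC F r with hz
    have hzk : covMap F z = 1 := by
      have h1 : covMap F (cl hF r : cov0 F) = xroot F r := covPi_cl hF r
      rw [hz, map_mul, map_inv, h1]
      exact inv_mul_cancel _
    have hc : val j (cl hF r : cov0 F) ∈ (pj (F := F) j).range.map I.subtype :=
      ⟨pj j (cl hF r), ⟨_, rfl⟩, rfl⟩
    rw [show unitY j r = val j (cl hF r : cov0 F) * val j z by
      rw [← map_mul, hz, mul_inv_cancel_left, val_genC]]
    rcases val_ker hF j z hzk with h | h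
    · rw [h, mul_one]; exact hc
    · rw [h]; exact mul_mem hc hneg
  have hle : I ≤ (pj (F := F) j).range.map I.subtype := by
    refine (Subgroup.closure_le _).2 ?_
    rintro _ ⟨s, rfl⟩
    rcases two_cases j with rfl | rfl
    · exact hgen s
    · obtain ⟨r, rfl⟩ := rhoF_surj s
      exact unitY_one r ▸ hgen r
  obtain ⟨z, hz, e⟩ := hle hy
  exact (Subtype.ext e : z = ⟨y, hy⟩) ▸ hz

include hF in
theorem pj_surjective (j : Fin 2) : Function.Surjective (pj (F := F) j) :=
  MonoidHom.range_eq_top.1 (range_pj hF j)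

include hF in
theorem ker_pj_le (j : Fin 2) : (pj (F := F) j).ker ≤ (covPi F).ker := by
  haveI := (TypeD4.isSimple F).1
  have hn : ((pj (F := F) j).ker.map (covPi F)).Normal :=
    Subgroup.Normal.map inferInstance _ (covPi_surjective hF)
  rcases hn.eq_bot_or_eq_top with h | h
  · intro x hx
    exact Subgroup.mem_bot.1 (h ▸ Subgroup.mem_map_of_mem _ hx : covPi F x ∈ (⊥ : Subgroup _))
  exfalso
  have hdec : ∀ x : cov F, ∃ z ∈ Subgroup.center (cov F), pj j x = pj j z := by
    intro x
    obtain ⟨a, ha, e⟩ : covPi F x ∈ (pj j).ker.map (covPi F) := h ▸ Subgroup.mem_top _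
    refine ⟨a⁻¹ * x, (covPi_stem hF).2.1 ?_, ?_⟩
    · rw [MonoidHom.mem_ker, map_mul, map_inv, e, inv_mul_cancel]
    · rw [map_mul, map_inv, MonoidHom.mem_ker.1 ha, inv_one, one_mul]
  have hone : ∀ x : cov F, pj j x = 1 := by
    intro x
    have hx : x ∈ commutator (cov F) := Group.IsPerfect.mem_commutator (hP := perfect_cov hF)
    refine MonoidHom.mem_ker.1 ((Subgroup.commutator_le.2 fun a _ b _ => ?_) hx)
    obtain ⟨za, hza, ea⟩ := hdec a
    obtain ⟨zb, -, eb⟩ := hdec b
    rw [MonoidHom.mem_ker, map_commutatorElement, ea, eb, commutatorElement_eq_one_iff_mul_comm,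
      ← map_mul, ← map_mul, (Subgroup.mem_center_iff.1 hza zb)]
  obtain ⟨⟨-, b1⟩, ⟨a2, -⟩, -⟩ := k_val hF
  rcases two_cases j with rfl | rfl
  · rw [hone] at a2
    exact neg_one_ne_one a2.symm
  · rw [hone] at b1
    exact neg_one_ne_one b1.symm

theorem mem_ker_pj_zero {x : cov F} : x ∈ (pj 0).ker ↔ x = 1 ∨ x = k1 hF := by
  obtain ⟨⟨a1, -⟩, ⟨a2, -⟩, ⟨a3, -⟩⟩ := k_val hF
  constructor
  · intro hx
    have e : (pj 0 x : UM) = 1 := by rw [MonoidHom.mem_ker.1 hx]; rfl
    rcases ker_cases hF (ker_pj_le hF 0 hx) with rfl | rfl | rfl | rfl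
    · exact Or.inl rfl
    · exact Or.inr rfl
    · exact absurd (a2.symm.trans e) neg_one_ne_one
    · exact absurd (a3.symm.trans e) neg_one_ne_one
  · rintro (rfl | rfl)
    · exact one_mem _
    · exact MonoidHom.mem_ker.2 (Subtype.ext a1)

include hF in
theorem card_ker_pj_zero : Nat.card (pj (F := F) 0).ker = 2 := by
  classical
  obtain ⟨⟨-, b1⟩, -⟩ := k_val hF
  have h : ((pj (F := F) 0).ker : Set (cov F)) = {1, k1 hF} := by
    ext x; exact mem_ker_pj_zero hF
  rw [← SetLike.coe_sort_coe, h, Nat.card_coe_set_eq, Set.ncard_pair]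
  intro e
  rw [← e, map_one] at b1
  exact neg_one_ne_one b1.symm

include hF in
theorem card_cov : Nat.card (cov F) = 4 * Nat.card ↥(chevD4.group F) := by
  rw [← Subgroup.card_mul_index (covPi F).ker, Subgroup.index_ker, card_ker hF,
    MonoidHom.range_eq_top.2 (covPi_surjective hF), Subgroup.card_top]

include hF in
theorem card_I : Nat.card I = 2 * Nat.card ↥(chevD4.group F) := by
  have h := Subgroup.card_mul_index (pj (F := F) 0).ker
  rw [card_ker_pj_zero hF, Subgroup.index_ker, MonoidHom.range_eq_top.2 (pj_surjective hF 0),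
    Subgroup.card_top, card_cov hF] at h
  omega

include hF in
/-- The cover is universal. -/
theorem exists_lift {X : Type w} [Group X] (ξ : X →* ↥(chevD4.group F))
    (hξ : Function.Surjective ξ) (hc : ξ.ker ≤ Subgroup.center X) :
    ∃ f : cov F →* X, ξ.comp f = covPi F := by
  classical
  haveI : Finite ↥(cov F) := inferInstance
  haveI : Finite ↥(chevD4.group F) := Finite.of_surjective _ (covPi_surjective hF)
  obtain ⟨U, hUg, hUf, π, hUp, hUs, huniv⟩ :=
    Schur.exists_universal.{v, max v w} (perfect_D4 hF)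
  let dC : ULift.{w} ↥(cov F) ≃* ↥(cov F) := MulEquiv.ulift
  let dX : ULift.{v} X ≃* X := MulEquiv.ulift
  obtain ⟨η, hη, -⟩ := huniv (ULift.{w} ↥(cov F)) ((covPi F).comp dC.toMonoidHom)
    ((covPi_surjective hF).comp dC.surjective) (by
      intro a ha
      rw [Subgroup.mem_center_iff]
      intro b
      refine dC.injective ?_
      rw [map_mul, map_mul]
      exact Subgroup.mem_center_iff.1 ((covPi_stem hF).2.1
        (show dC a ∈ (covPi F).ker from ha)) (dC b))
  let e : U →* cov F := dC.toMonoidHom.comp η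
  have he : (covPi F).comp e = π := by rw [← hη]; rfl
  have hes : Function.Surjective e := by
    intro x
    have hx : x ∈ commutator (cov F) := Group.IsPerfect.mem_commutator (hP := perfect_cov hF)
    rw [Schur.commutator_eq_map (covPi F) (covPi_stem hF).2.1 e (he ▸ hUs.1)] at hx
    obtain ⟨u, -, hu⟩ := hx
    exact ⟨u, hu⟩
  have hcard : Nat.card U ≤ Nat.card (cov F) := by
    rw [← Subgroup.card_mul_index π.ker, Subgroup.index_ker, MonoidHom.range_eq_top.2 hUs.1,
      Subgroup.card_top, card_cov hF]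
    exact Nat.mul_le_mul_right _ (card_ker_le_four hF π hUs)
  have heb : Function.Bijective e :=
    hes.bijective_of_nat_card_le hcard
  obtain ⟨ζ, hζ, -⟩ := huniv (ULift.{v} X) (ξ.comp dX.toMonoidHom) (hξ.comp dX.surjective) (by
      intro a ha
      rw [Subgroup.mem_center_iff]
      intro b
      refine dX.injective ?_
      rw [map_mul, map_mul]
      exact Subgroup.mem_center_iff.1 (hc (show dX a ∈ ξ.ker from ha)) (dX b))
  let E := MulEquiv.ofBijective e heb
  refine ⟨(dX.toMonoidHom.comp ζ).comp E.symm.toMonoidHom, ?_⟩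
  refine MonoidHom.ext fun x => ?_
  obtain ⟨u, rfl⟩ := E.surjective x
  show ξ (dX (ζ (E.symm (E u)))) = covPi F (E u)
  rw [E.symm_apply_apply]
  have e1 : ξ (dX (ζ u)) = π u := DFunLike.congr_fun hζ u
  exact e1.trans (DFunLike.congr_fun he u).symm

include hF in
theorem exists_triality_D4 :
    ∃ α : MulAut ↥(chevD4.group F), ∀ r, α (xroot F r) = xroot F (rhoF r) := by
  haveI := (TypeD4.isSimple F).1
  have hinj : ∀ j, Function.Injective (lineAct hF j) := by
    intro j
    rw [← MonoidHom.ker_eq_bot_iff]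
    refine (MonoidHom.normal_ker _).eq_bot_or_eq_top.resolve_right fun h => ?_
    have h1 : lineAct hF j (xroot F 0) = 1 := MonoidHom.mem_ker.1 (h ▸ Subgroup.mem_top _)
    rw [lineAct_xroot] at h1
    exact (by decide +kernel : ∀ j : Fin 2, perm j 0 ≠ 1) j h1
  have hgen : Subgroup.closure (Set.range (xroot F)) = ⊤ := by
    rw [eq_top_iff]
    intro x _
    obtain ⟨y, rfl⟩ := covMap_surjective hF x
    have h : cov0 F ≤ (Subgroup.closure (Set.range (xroot F))).comap
        (MonoidHom.snd (UM × UM) ↥(chevD4.group F)) :=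
      (Subgroup.closure_le _).2 fun _ ⟨r, hr⟩ => hr ▸ Subgroup.subset_closure ⟨r, rfl⟩
    exact h y.2
  have hrange : ∀ j, (lineAct hF j).range = Subgroup.closure (Set.range (perm j)) := by
    intro j
    rw [MonoidHom.range_eq_map, ← hgen, MonoidHom.map_closure, ← Set.range_comp]
    congr 1
    ext σ
    simp [lineAct_xroot]
  have he : (lineAct hF 1).range = (lineAct hF 0).range := by
    rw [hrange, hrange]
    congr 1
    ext σ
    constructor
    · rintro ⟨r, rfl⟩; exact ⟨rhoF r, (perm_one r).symm⟩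
    · rintro ⟨s, rfl⟩
      obtain ⟨r, rfl⟩ := rhoF_surj s
      exact ⟨r, perm_one r⟩
  let α : MulAut ↥(chevD4.group F) :=
    ((MonoidHom.ofInjective (hinj 1)).trans (MulEquiv.subgroupCongr he)).trans
      (MonoidHom.ofInjective (hinj 0)).symm
  refine ⟨α, fun r => hinj 0 ?_⟩
  have h : ∀ x, lineAct hF 0 (α x) = lineAct hF 1 x := fun x =>
    congrArg Subtype.val ((MonoidHom.ofInjective (hinj 0)).apply_symm_apply
      ((MulEquiv.subgroupCongr he) ((MonoidHom.ofInjective (hinj 1)) x)))
  rw [h, lineAct_xroot, lineAct_xroot, perm_one]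

theorem exists_triality :
    ∃ (α : MulAut ↥(chevD4.group F)) (A : MulAut (cov F)),
      (∀ x, covPi F (A x) = α (covPi F x)) ∧
      A (k1 hF) = k3 hF ∧ A (k3 hF) = k2 hF ∧ A (k2 hF) = k1 hF := by
  haveI : Finite ↥(cov F) := inferInstance
  obtain ⟨α, hα⟩ := exists_triality_D4 hF
  obtain ⟨f, hf⟩ := exists_lift hF ((α.symm.toMonoidHom).comp (covPi F))
    (α.symm.surjective.comp (covPi_surjective hF)) (by
      intro x hx
      exact (covPi_stem hF).2.1 (α.symm.map_eq_one_iff.1 hx))
  have hfα : ∀ x, covPi F (f x) = α (covPi F x) := fun x => by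
    have h := DFunLike.congr_fun hf x
    change α.symm (covPi F (f x)) = covPi F x at h
    rw [← h, α.apply_symm_apply]
  have hfs : Function.Surjective f := by
    intro x
    have hx : x ∈ commutator (cov F) := Group.IsPerfect.mem_commutator (hP := perfect_cov hF)
    rw [Schur.commutator_eq_map (covPi F) (covPi_stem hF).2.1 f (fun y => by
      obtain ⟨z, hz⟩ := covPi_surjective hF (α.symm y)
      exact ⟨z, by rw [MonoidHom.comp_apply, hfα, hz, α.apply_symm_apply]⟩)] at hx
    obtain ⟨u, -, hu⟩ := hx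
    exact ⟨u, hu⟩
  let A : MulAut (cov F) := MulEquiv.ofBijective f (hfs.bijective_of_nat_card_le le_rfl)
  have hkk : ∀ r s, A (kk hF r s) = kk hF (rhoF r) (rhoF s) := by
    intro r s
    have hc : ∀ r, (cl hF (rhoF r))⁻¹ * f (cl hF r) ∈ Subgroup.center (cov F) := fun r =>
      (covPi_stem hF).2.1 (by
        rw [MonoidHom.mem_ker, map_mul, map_inv, hfα, covPi_cl, covPi_cl, hα, inv_mul_cancel])
    have h := Schur.commutatorElement_mul_central (hc r) (hc s)
      (cl hF (rhoF r)) (cl hF (rhoF s))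
    rw [mul_inv_cancel_left, mul_inv_cancel_left] at h
    show f ⁅cl hF r, cl hF s⁆ = _
    rw [map_commutatorElement, h]
    rfl
  refine ⟨α, A, hfα, ?_, ?_, ?_⟩
  · simp only [k1, k3, hkk, (by decide : rhoF 0 = 0), (by decide : rhoF 5 = 11)]
  · simp only [k3, k2, hkk, (by decide : rhoF 0 = 0), (by decide : rhoF 11 = 10)]
  · simp only [k2, k1, hkk, (by decide : rhoF 0 = 0), (by decide : rhoF 10 = 5)]

include hF in
/-- Every order-two subgroup of the kernel is the kernel of a map onto `I`. -/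
theorem exists_map_ker {k : cov F} (hk : k = k1 hF ∨ k = k2 hF ∨ k = k3 hF) :
    ∃ g : cov F →* I, Function.Surjective g ∧ g k = 1 := by
  obtain ⟨α, A, -, -, hA3, -⟩ := exists_triality hF
  obtain ⟨⟨a1, -⟩, ⟨-, b2⟩, -⟩ := k_val hF
  rcases hk with rfl | rfl | rfl
  · exact ⟨pj 0, pj_surjective hF 0, Subtype.ext a1⟩
  · exact ⟨pj 1, pj_surjective hF 1, Subtype.ext b2⟩
  · refine ⟨(pj 1).comp A.toMonoidHom, (pj_surjective hF 1).comp A.surjective, ?_⟩
    show pj 1 (A (k3 hF)) = 1
    rw [hA3]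
    exact Subtype.ext b2

end Field

theorem card_ker_of_surjective {G H : Type*} [Group G] [Group H] [Finite G] (f : G →* H)
    (hf : Function.Surjective f) : Nat.card f.ker * Nat.card H = Nat.card G := by
  rw [← Subgroup.card_mul_index f.ker, Subgroup.index_ker, MonoidHom.range_eq_top.2 hf,
    Subgroup.card_top]

theorem eq_zpowers_of_card_two {G : Type*} [Group G] [Finite G] {K : Subgroup G}
    (h : Nat.card K = 2) {k : G} (hk : k ∈ K) (h1 : k ≠ 1) : K = Subgroup.zpowers k := by
  refine (Subgroup.eq_of_le_of_card_ge (Subgroup.zpowers_le.2 hk) ?_).symm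
  rw [h, Nat.card_zpowers]
  have h0 : 0 < orderOf k := orderOf_pos k
  have : orderOf k ≠ 1 := fun e => h1 (orderOf_eq_one_iff.1 e)
  omega

end Bridge

open Bridge in
/-- Every perfect double cover of `PΩ⁺₈(2)` is `I`. -/
theorem nonempty_equiv_I {L : Type u} [Group L] [Finite L] (hperf : Group.IsPerfect L)
    {F : Type v} [Field F] [Fintype F] (hF : Fintype.card F = 2)
    (hZ : Nat.card (Subgroup.center L) = 2)
    (hX : Nonempty ((L ⧸ Subgroup.center L) ≃* Cfsg.POmega F (Cfsg.quadFormPlus 4 F))) :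
    Nonempty (L ≃* I) := by
  classical
  haveI : Finite ↥(cov F) := inferInstance
  obtain ⟨e⟩ := hX
  obtain ⟨d⟩ := Cfsg.Agent.UnitaryOrthogonal.Adjoint.chevD4_equiv (F := F)
  let σ : L →* ↥(chevD4.group F) :=
    (e.trans d.symm).toMonoidHom.comp (QuotientGroup.mk' (Subgroup.center L))
  have hσs : Function.Surjective σ :=
    (e.trans d.symm).surjective.comp (QuotientGroup.mk'_surjective _)
  have hσk : σ.ker = Subgroup.center L := by
    ext x
    rw [MonoidHom.mem_ker]
    exact ((e.trans d.symm).map_eq_one_iff).trans (QuotientGroup.eq_one_iff x)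
  obtain ⟨f, hf⟩ := exists_lift hF σ hσs hσk.le
  have hfs : Function.Surjective f := by
    intro x
    have hx : x ∈ commutator L := Group.IsPerfect.mem_commutator (hP := hperf)
    rw [Schur.commutator_eq_map σ hσk.le f (hf ▸ covPi_surjective hF)] at hx
    obtain ⟨u, -, hu⟩ := hx
    exact ⟨u, hu⟩
  have hker : f.ker ≤ (covPi F).ker := fun x hx => by
    rw [MonoidHom.mem_ker, ← hf, MonoidHom.comp_apply, MonoidHom.mem_ker.1 hx, map_one]
  have hcardL : Nat.card L = 2 * Nat.card ↥(chevD4.group F) := by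
    rw [← card_ker_of_surjective σ hσs, hσk, hZ]
  have hk2 : ∀ {H : Type _} [Group H] (g : cov F →* H), Function.Surjective g →
      Nat.card H = 2 * Nat.card ↥(chevD4.group F) → Nat.card g.ker = 2 := by
    intro H _ g hg hH
    have h := card_ker_of_surjective g hg
    rw [hH, card_cov hF] at h
    haveI : Finite ↥(chevD4.group F) := Finite.of_surjective _ (covPi_surjective hF)
    have hpos : 0 < Nat.card ↥(chevD4.group F) := Nat.card_pos
    nlinarith
  have hf2 := hk2 f hfs hcardL
  haveI : Nontrivial f.ker := Finite.one_lt_card_iff_nontrivial.1 (by omega)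
  obtain ⟨⟨k, hk⟩, hk1⟩ := exists_ne (1 : f.ker)
  have hk1' : k ≠ 1 := fun h => hk1 (Subtype.ext h)
  obtain ⟨g, hgs, hgk⟩ := exists_map_ker hF ((ker_cases hF (hker hk)).resolve_left hk1')
  have hg2 : Nat.card g.ker = 2 := by
    have h := card_ker_of_surjective g hgs
    rw [card_I hF, card_cov hF] at h
    haveI : Finite ↥(chevD4.group F) := Finite.of_surjective _ (covPi_surjective hF)
    have hpos : 0 < Nat.card ↥(chevD4.group F) := Nat.card_pos
    nlinarith
  have hkeq : f.ker = g.ker := by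
    rw [eq_zpowers_of_card_two hf2 hk hk1', eq_zpowers_of_card_two hg2 (k := k) hgk hk1']
  exact ⟨((QuotientGroup.quotientKerEquivOfSurjective f hfs).symm.trans
    (QuotientGroup.quotientMulEquivOfEq hkeq)).trans
    (QuotientGroup.quotientKerEquivOfSurjective g hgs)⟩

/-- The elements of `I` centralizing `I`. -/
theorem center_I : ∀ x ∈ I, (∀ y ∈ I, y * x = x * y) → x = 1 ∨ x = -1 :=
  fun _ _ h => Bridge.comm_scalar fun r => h _ (Bridge.unitY_mem 0 r)

theorem card_I_eq : Nat.card I = 348364800 := by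
  have hF : Fintype.card (ZMod 2) = 2 := ZMod.card 2
  haveI : Fact (Nat.Prime 2) := ⟨Nat.prime_two⟩
  rw [Bridge.card_I hF]
  have h := ChevGroup.TypeD4.card_group (F := ZMod 2)
    (ChevGroup.torusFacts_of_good ChevCore.commGoodD4.toGood)
    (ChevGroup.relsOfCommGood ChevCore.commGoodD4 (ZMod 2)) hF
  norm_num at h
  omega

theorem card_I_factorization : (Nat.card I).factorization 2 = 13 := by
  rw [card_I_eq, show (348364800 : ℕ) = 2 ^ 13 * 42525 by norm_num,
    Nat.factorization_mul (by norm_num) (by norm_num), Finsupp.add_apply,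
    Nat.Prime.factorization_pow Nat.prime_two, Finsupp.single_eq_same,
    Nat.factorization_eq_zero_of_not_dvd (by norm_num)]

end Cfsg.Agent.O8Standard47
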