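import Cfsg.Agent.O8Standard47.Mono
import Mathlib.GroupTheory.PGroup

/-!
Diagonal sign matrices: the groups `E` and `E0`, their centralisers, and square roots supported on
two-point blocks.
-/

set_option autoImplicit false

namespace Cfsg.Agent.O8Standard47

open Cfsg.Agent.O8Two50 (UM)

theorem diagS_val (v : ℕ) : (diagS v).val = mf id (bits v) := rfl

theorem diagS_mul (v w : ℕ) : diagS v * diagS w = diagS (v ^^^ w) := by
  refine Units.ext ?_
  rw [Units.val_mul, diagS_val, diagS_val, diagS_val, mf_mul, bits_xor]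
  rfl

theorem diagS_zero : diagS 0 = 1 := by
  refine Units.ext ?_
  rw [diagS_val, Units.val_one, show bits 0 = fun _ => false from funext fun b => Nat.zero_testBit _,
    mf_one]

theorem diagS_sq (v : ℕ) : diagS v * diagS v = 1 := by rw [diagS_mul, Nat.xor_self, diagS_zero]

theorem diagS_inv (v : ℕ) : (diagS v)⁻¹ = diagS v := inv_eq_of_mul_eq_one_right (diagS_sq v)

theorem diagS_inj {v w : ℕ} (hv : v < 256) (hw : w < 256) (h : diagS v = diagS w) : v = w :=
  bits_inj hv hw (mf_inj (congrArg Units.val h)).2

theorem diagS_255 : diagS 255 = -1 := by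
  refine Units.ext ?_
  rw [diagS_val, Units.val_neg, Units.val_one]
  ext a b
  have h : ∀ b : Fin 8, bits 255 b = true := by decide
  by_cases e : a = b
  · subst e; simp [mf, h]
  · simp [mf, Matrix.one_apply, e]

theorem evenB_xor (v w : ℕ) : evenB (v ^^^ w) = (evenB v == evenB w) := by
  simp only [evenB, Nat.testBit_xor]
  generalize v.testBit 0 = a0; generalize v.testBit 1 = a1; generalize v.testBit 2 = a2
  generalize v.testBit 3 = a3; generalize v.testBit 4 = a4; generalize v.testBit 5 = a5
  generalize v.testBit 6 = a6; generalize v.testBit 7 = a7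
  generalize w.testBit 0 = b0; generalize w.testBit 1 = b1; generalize w.testBit 2 = b2
  generalize w.testBit 3 = b3; generalize w.testBit 4 = b4; generalize w.testBit 5 = b5
  generalize w.testBit 6 = b6; generalize w.testBit 7 = b7
  cases a0 <;> cases a1 <;> cases a2 <;> cases a3 <;> cases a4 <;> cases a5 <;> cases a6 <;>
    cases a7 <;> simp

/-- All sign changes. -/
def E : Subgroup UM where
  carrier := {u | ∃ v < 256, u = diagS v}
  one_mem' := ⟨0, by norm_num, diagS_zero.symm⟩
  mul_mem' := by
    rintro _ _ ⟨v, hv, rfl⟩ ⟨w, hw, rfl⟩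
    exact ⟨_, xor_lt hv hw, diagS_mul v w⟩
  inv_mem' := by
    rintro _ ⟨v, hv, rfl⟩
    exact ⟨v, hv, diagS_inv v⟩

/-- The even sign changes. -/
def E0 : Subgroup UM where
  carrier := {u | ∃ v < 256, evenB v = true ∧ u = diagS v}
  one_mem' := ⟨0, by norm_num, by decide, diagS_zero.symm⟩
  mul_mem' := by
    rintro _ _ ⟨v, hv, hev, rfl⟩ ⟨w, hw, hew, rfl⟩
    exact ⟨_, xor_lt hv hw, by rw [evenB_xor, hev, hew]; rfl, diagS_mul v w⟩
  inv_mem' := by
    rintro _ ⟨v, hv, hev, rfl⟩
    exact ⟨v, hv, hev, diagS_inv v⟩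

theorem E0_le_E : E0 ≤ E := fun _ ⟨v, hv, _, h⟩ => ⟨v, hv, h⟩

theorem E_sq {u : UM} (h : u ∈ E) : u * u = 1 := by
  obtain ⟨v, -, rfl⟩ := h
  exact diagS_sq v

/-- An entry of an element commuting with a sign change. -/
theorem comm_entry {x : UM} {v : ℕ} (h : x * diagS v = diagS v * x) (a b : Fin 8)
    (hne : bits v a ≠ bits v b) : x.val a b = 0 := by
  have h1 : (x.val * (diagS v).val) a b = ((diagS v).val * x.val) a b := by
    rw [← Units.val_mul, ← Units.val_mul, h]
  rw [diagS_val, Matrix.mul_apply, Matrix.mul_apply, Finset.sum_eq_single b,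
    Finset.sum_eq_single a] at h1
  · simp only [mf, id, if_true] at h1
    have key : ∀ (t : ZMod 3) (p q : Bool), p ≠ q →
        t * (bif q then -1 else 1) = (bif p then -1 else 1) * t → t = 0 := by decide
    exact key _ _ _ hne h1
  · intro c _ hc; simp [mf, Ne.symm hc]
  · intro h; exact absurd (Finset.mem_univ _) h
  · intro c _ hc; simp [mf, hc]
  · intro h; exact absurd (Finset.mem_univ _) h

theorem sep_mask : ∀ a b : Fin 8, a ≠ b → ((List.range 256).any fun v =>
    evenB v && (v.testBit a.val != v.testBit b.val)) = true := by decide +kernel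

theorem two_mask : ∀ a c : Fin 8, a ≠ c → evenB (ofB fun i => i == a || i == c) = true := by
  decide +kernel

/-- The centraliser of the even sign changes consists of diagonal matrices. -/
theorem offdiag_zero {x : UM} (h : ∀ v < 256, evenB v = true → x * diagS v = diagS v * x)
    (a b : Fin 8) (hab : a ≠ b) : x.val a b = 0 := by
  obtain ⟨v, hv, hv'⟩ := List.any_eq_true.1 (sep_mask a b hab)
  rw [Bool.and_eq_true] at hv'
  exact comm_entry (h v (List.mem_range.1 hv) hv'.1) a b (by simpa [bits] using hv'.2)

/-- An orthogonal matrix commuting with the even sign changes is a sign change. -/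
theorem mem_E_of_comm {x : UM} (ho : x.val * x.val.transpose = 1)
    (h : ∀ v < 256, evenB v = true → x * diagS v = diagS v * x) : x ∈ E := by
  refine ⟨ofB fun b => decide (x.val b b = -1), (ofB_spec _).2, Units.ext ?_⟩
  rw [diagS_val, (ofB_spec _).1]
  ext a b
  by_cases e : a = b
  · subst e
    have h1 := congrFun (congrFun ho a) a
    rw [Matrix.mul_apply, Finset.sum_eq_single a, Matrix.transpose_apply, Matrix.one_apply_eq] at h1
    · have key : ∀ t : ZMod 3, t * t = 1 → t = (bif decide (t = -1) then -1 else 1) := by decide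
      simpa [mf] using key _ h1
    · intro c _ hc; rw [offdiag_zero h a c (Ne.symm hc), zero_mul]
    · intro h; exact absurd (Finset.mem_univ _) h
  · rw [offdiag_zero h a b e]; simp [mf, e]

theorem block_sq : ∀ p q r s : ZMod 3, p * p + q * q = 1 → r * r + s * s = 1 → p * r + q * s = 0 →
    r * p + s * r = 0 := by decide

/-- The square of an orthogonal matrix supported on two-point blocks is diagonal. -/
theorem sq_offdiag {x : UM} (ho : x.val * x.val.transpose = 1) {f : Fin 8 → Fin 8}
    (hf : ∀ b, f (f b) = b) (hne : ∀ b, f b ≠ b) (hsupp : ∀ a b, a ≠ b → a ≠ f b → x.val a b = 0)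
    (b : Fin 8) : (x * x).val (f b) b = 0 := by
  have hzero : ∀ a, (a = b ∨ a = f b) → ∀ k, k ∉ ({b, f b} : Finset (Fin 8)) → x.val a k = 0 := by
    intro a ha k hk
    simp only [Finset.mem_insert, Finset.mem_singleton, not_or] at hk
    refine hsupp a k ?_ ?_
    · rcases ha with rfl | rfl
      · exact Ne.symm hk.1
      · exact Ne.symm hk.2
    · rcases ha with rfl | rfl
      · exact fun e => hk.2 (by rw [e, hf])
      · exact fun e => hk.1 (by rw [← hf k, ← e, hf])
  have row : ∀ a c : Fin 8, (a = b ∨ a = f b) →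
      x.val a b * x.val c b + x.val a (f b) * x.val c (f b) = if a = c then 1 else 0 := by
    intro a c ha
    have h1 := congrFun (congrFun ho a) c
    rw [Matrix.mul_apply, ← Finset.sum_subset (Finset.subset_univ {b, f b}) (fun k _ hk => by
      rw [hzero a ha k hk, zero_mul]), Finset.sum_pair (Ne.symm (hne b)), Matrix.one_apply] at h1
    exact h1
  rw [Units.val_mul, Matrix.mul_apply, ← Finset.sum_subset (Finset.subset_univ {b, f b}) (fun k _ hk => by
    rw [hzero _ (Or.inr rfl) k hk, zero_mul]), Finset.sum_pair (Ne.symm (hne b))]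
  have r1 := row b b (Or.inl rfl)
  have r2 := row (f b) (f b) (Or.inr rfl)
  have r3 := row b (f b) (Or.inl rfl)
  rw [if_pos rfl] at r1 r2
  rw [if_neg (Ne.symm (hne b))] at r3
  exact block_sq _ _ _ _ r1 r2 r3

end Cfsg.Agent.O8Standard47
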