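import Cfsg.Agent.O8Standard47.OrbitData

/-!
The finite checks for the orbit lemma.
-/

set_option autoImplicit false
set_option maxRecDepth 100000
set_option Elab.async false

namespace Cfsg.Agent.O8Standard47

/-- One of the two generators. -/
def genP (b : Bool) : Equiv.Perm (Fin 8) := if b then gB else gA

/-- The class with a given index. -/
def clsB (i : ℕ) : ℕ := clsBits.getD i 0

/-- The representative of a class. -/
def repC (i : ℕ) : ℕ := ((clsPath.getD i []).getD 0 (0, 0, false)).1

/-- A candidate for the orbit as a bit set. -/
def candX (m : ℕ) : ℕ :=
  (List.range 7).foldl (fun a i => bif m.testBit i then a ||| clsB i else a) (2 ^ 255)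

/-- The number of members of a candidate. -/
def cntX (X : ℕ) : ℕ := ((List.range 256).filter fun v => X.testBit v).length

/-- The number of members whose sum with a given one is a member. -/
def cntN (X x : ℕ) : ℕ := ((List.range 256).filter fun y => X.testBit y && X.testBit (x ^^^ y)).length

/-- Primes dividing some `2 ^ k - 1` with `k ≤ 8`, and two. -/
def goodP : List ℕ := [2, 3, 5, 7, 17, 31, 127]

/-- The generators are bijections of the masks. -/
def genBij : Bool :=
  [true, false].all fun b => (List.range 256).all fun v =>
    decide (permMask (genP b) v < 256) && decide (permMask (genP b).symm (permMask (genP b) v) = v)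

/-- The paths stay inside and exhaust the classes. -/
def pathOK : Bool :=
  decide (clsPath.length = 7) && (List.range 7).all fun i =>
    let L := clsPath.getD i []
    ((List.range L.length).all fun j =>
      let e := L.getD j (0, 0, false)
      decide (j = 0) || (decide (e.2.1 < j) && decide (permMask (genP e.2.2) (L.getD e.2.1 (0, 0, false)).1 = e.1))) &&
    (List.range 256).all fun v => (clsB i).testBit v == (L.map Prod.fst).contains v

/-- Every mask is zero, a block, the top one, or in a class. -/
def coverOK : Bool :=
  (List.range 256).all fun v =>
    decide (v = 0) || blockL.contains v || decide (v = 255) || (List.range 7).any fun i => (clsB i).testBit v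

/-- No class contains zero, a block or the top mask. -/
def avoidOK : Bool :=
  (List.range 7).all fun i =>
    !(clsB i).testBit 0 && !(clsB i).testBit 255 && blockL.all fun v => !(clsB i).testBit v

/-- The witnesses against a candidate. -/
def witOK : Bool :=
  witTab.all fun e =>
    let X := candX e.1
    (decide (2 ≤ e.2.1) && decide (cntX X % e.2.1 = 0) &&
        (List.range e.2.1).all fun d => decide (d < 2) || decide (e.2.1 % d ≠ 0)) && !goodP.contains e.2.1 ||
      (decide (e.2.2 < 256) && X.testBit e.2.2 && decide (cntN X e.2.2 ≠ cntN X 255))

/-- Every candidate is trivial, has a witness, or is one of three. -/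
def allCand : Bool :=
  (List.range 128).all fun m => [0, 1, 64, 67].contains m || witTab.any fun e => e.1 == m

/-- The bit set of the first kept candidate. -/
def candA : ℕ := 57896044618658097711785492504343953926975274699741220483210613355466337616150

/-- The bit set of the second kept candidate. -/
def candB : ℕ := 105163620732621797825676529657995729446907606515868152847930213170537081864192

/-- The bit set of the third kept candidate. -/
def candC : ℕ := 105163620732621797831953631394843934243758277758923706315335365587942860330878

/-- The members of the first kept candidate. -/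
def memA : List ℕ := [1, 2, 4, 8, 16, 32, 64, 128, 255]

/-- The members of the second kept candidate. -/
def memB : List ℕ := [127, 191, 223, 239, 247, 251, 253, 254, 255]

/-- The members of the third kept candidate. -/
def memC : List ℕ := [1, 2, 3, 4, 5, 6, 8, 9, 10, 12, 16, 17, 18, 20, 24, 32, 33, 34, 36, 40, 48, 64, 65, 66,
  68, 72, 80, 96, 127, 128, 129, 130, 132, 136, 144, 160, 191, 192, 223, 239, 247, 251, 253, 254, 255]

/-- The coordinates. -/
def idx8 : List ℕ := [0, 1, 2, 3, 4, 5, 6, 7]

/-- The image of a mask, the images of the coordinates given one by one. -/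
def pm8 (a b c d e f g h v : ℕ) : ℕ :=
  (bif v.testBit 0 then 2 ^ a else 0) + ((bif v.testBit 1 then 2 ^ b else 0) + ((bif v.testBit 2 then 2 ^ c else 0) +
  ((bif v.testBit 3 then 2 ^ d else 0) + ((bif v.testBit 4 then 2 ^ e else 0) + ((bif v.testBit 5 then 2 ^ f else 0) +
  ((bif v.testBit 6 then 2 ^ g else 0) + ((bif v.testBit 7 then 2 ^ h else 0) + 0)))))))

/-- The image of a mask under the affine map with the given images of a frame. -/
def pmA (a b c e v : ℕ) : ℕ :=
  pm8 a b c (a ^^^ b ^^^ c) e (a ^^^ b ^^^ e) (a ^^^ c ^^^ e) (b ^^^ c ^^^ e) v

/-- The bit set of a list. -/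
def lBits : List ℕ → ℕ
  | [] => 0
  | v :: L => 2 ^ v ||| lBits L

/-- The blocks as a bit set. -/
def blkBits : ℕ := lBits blockL

/-- Four coordinates forming a block sum to zero. -/
def planeOK : Bool :=
  idx8.all fun a => idx8.all fun b => idx8.all fun c => idx8.all fun d =>
    !blkBits.testBit (2 ^ a + (2 ^ b + (2 ^ c + 2 ^ d))) || (d == a ^^^ b ^^^ c)

/-- The fixed sets of a given size among the listed ones. -/
def fixB (xs : List ℕ) (f : ℕ) (T : List (ℕ × ℕ × Bool)) (a b c e : ℕ) : Bool :=
  let F := xs.filter fun v => pmA a b c e v == v
  decide (F.length ≠ f) || T.any fun t => t.1 == lBits F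

/-- The fixed sets of all affine maps with a given image of the origin. -/
def fixAll (a : ℕ) : Bool :=
  idx8.all fun b => idx8.all fun c => idx8.all fun e =>
    (a == b || a == c || b == c || a == e || b == e || c == e || e == a ^^^ b ^^^ c) ||
      (fixB memA 5 fixTab1 a b c e && fixB memB 5 fixTab64 a b c e && fixB memC 17 fixTab67 a b c e)

/-- The listed fixed sets form a connected family containing the fixed set of one permutation. -/
def famB (X f : ℕ) (T : List (ℕ × ℕ × Bool)) (p : Equiv.Perm (Fin 8)) : Bool :=
  decide ((T.map Prod.fst).Nodup) &&
  (List.range 256).all fun v =>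
    ((T.getD 0 (0, 0, false)).1.testBit v == (X.testBit v && permMask p v == v)) &&
    ((List.range T.length).all fun j =>
      let e := T.getD j (0, 0, false)
      decide (e.1 < 2 ^ 256) && (!e.1.testBit v || X.testBit v) && (decide (v ≠ 255) || e.1.testBit v) &&
      (decide (j = 0) || (decide (e.2.1 < j) &&
        (e.1.testBit (permMask (genP e.2.2) v) == (T.getD e.2.1 (0, 0, false)).1.testBit v)))) &&
    (decide (v ≠ 0) || decide (((List.range 256).filter fun w => (T.getD 0 (0, 0, false)).1.testBit w).length = f))

theorem genBij_true : genBij = true := by decide +kernel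
theorem pathOK_true : pathOK = true := by decide +kernel
theorem coverOK_true : coverOK = true := by decide +kernel
theorem avoidOK_true : avoidOK = true := by decide +kernel
theorem witOK_true : witOK = true := by decide +kernel
theorem allCand_true : allCand = true := by decide +kernel
theorem planeOK_true : planeOK = true := by decide +kernel
theorem cand_keep : candX 1 = candA ∧ candX 64 = candB ∧ candX 67 = candC := by decide +kernel
theorem cntX_keep : cntX candA = 9 ∧ cntX candB = 9 ∧ cntX candC = 45 := by decide +kernel
theorem mem_keep : memA = ((List.range 256).filter fun v => candA.testBit v) ∧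
    memB = ((List.range 256).filter fun v => candB.testBit v) ∧
    memC = ((List.range 256).filter fun v => candC.testBit v) := by decide +kernel
theorem famB_1 : famB candA 5 fixTab1 fixP1 = true := by decide +kernel
theorem famB_64 : famB candB 5 fixTab64 fixP64 = true := by decide +kernel
theorem famB_67 : famB candC 17 fixTab67 fixP67 = true := by decide +kernel
theorem fixAll_0 : fixAll 0 = true := by decide +kernel
theorem fixAll_1 : fixAll 1 = true := by decide +kernel
theorem fixAll_2 : fixAll 2 = true := by decide +kernel
theorem fixAll_3 : fixAll 3 = true := by decide +kernel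
theorem fixAll_4 : fixAll 4 = true := by decide +kernel
theorem fixAll_5 : fixAll 5 = true := by decide +kernel
theorem fixAll_6 : fixAll 6 = true := by decide +kernel
theorem fixAll_7 : fixAll 7 = true := by decide +kernel

end Cfsg.Agent.O8Standard47
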