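import Cfsg.Agent.O8Standard47.Defs
import Cfsg.Agent.O8Standard47.OrbitCheck
import Mathlib.GroupTheory.PGroup
import Mathlib.GroupTheory.Perm.Cycle.Type
import Mathlib.Combinatorics.Colex
import Mathlib.Combinatorics.Enumerative.DoubleCounting

/-!
The orbit lemma: a group of automorphisms of a group of sign changes on eight coordinates that realizes
the affine group on eight points in the stabilizer of the central sign change, and moves it to no block,
fixes it.
-/

set_option autoImplicit false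
set_option maxRecDepth 100000
set_option linter.style.haveILetI false

namespace Cfsg.Agent.O8Standard47

theorem mem_blockL (v : ℕ) : v ∈ blockL ↔ v ∈ blocks := by
  have h1 : ∀ x ∈ blockL, x ∈ blocks := by decide +kernel
  have h2 : ∀ x ∈ blocks, x ∈ blockL := by decide +kernel
  exact ⟨h1 v, h2 v⟩

theorem permList_eq (p : Equiv.Perm (Fin 8)) :
    permList p = [((p 0 : Fin 8) : ℕ), ↑(p 1), ↑(p 2), ↑(p 3), ↑(p 4), ↑(p 5), ↑(p 6), ↑(p 7)] := rfl

theorem pm8_eq (p : Equiv.Perm (Fin 8)) (v : ℕ) :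
    permMask p v = pm8 (p 0 : Fin 8) (p 1 : Fin 8) (p 2 : Fin 8) (p 3 : Fin 8) (p 4 : Fin 8) (p 5 : Fin 8)
      (p 6 : Fin 8) (p 7 : Fin 8) v := by
  rw [permMask, permList_eq]
  rfl

/-- A permutation moves the bits of a mask. -/
theorem testBit_permMask (p : Equiv.Perm (Fin 8)) (v : ℕ) (i : Fin 8) :
    (permMask p v).testBit (p i : Fin 8) = v.testBit (i : ℕ) := by
  let s : Finset ℕ := ((Finset.univ.filter fun j : Fin 8 => v.testBit j = true).map
    ⟨fun j => ((p j : Fin 8) : ℕ), Fin.val_injective.comp p.injective⟩)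
  have e : permMask p v = ∑ k ∈ s, 2 ^ k := by
    rw [Finset.sum_map, Finset.sum_filter, Fin.sum_univ_eight, pm8_eq]
    simp [pm8, Bool.cond_eq_ite, add_assoc]
  rw [Bool.eq_iff_iff, e, ← Nat.mem_bitIndices, ← List.mem_toFinset, Finset.toFinset_bitIndices_sum_two_pow]
  simp [s, Fin.val_inj]

theorem testBit_lBits (L : List ℕ) (v : ℕ) : (lBits L).testBit v = true ↔ v ∈ L := by
  induction L with
  | nil => simp [lBits]
  | cons w L ih =>
    rw [lBits, Nat.testBit_or, Bool.or_eq_true, Nat.testBit_two_pow, decide_eq_true_eq, ih, List.mem_cons]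
    exact or_congr_left ⟨Eq.symm, Eq.symm⟩

theorem mem_orbit_testBit (a0 : ℕ) (m : ℕ) (L : List ℕ) (v : ℕ) :
    (L.foldl (fun a i => bif m.testBit i then a ||| clsB i else a) a0).testBit v =
      (a0.testBit v || L.any fun i => m.testBit i && (clsB i).testBit v) := by
  induction L generalizing a0 with
  | nil => simp
  | cons i L ih =>
    rw [List.foldl_cons, ih, List.any_cons]
    cases m.testBit i <;> simp [Nat.testBit_or, Bool.or_assoc]

theorem testBit_candX (m v : ℕ) :
    (candX m).testBit v = true ↔ v = 255 ∨ ∃ i < 7, m.testBit i = true ∧ (clsB i).testBit v = true := by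
  rw [candX, mem_orbit_testBit, Bool.or_eq_true, Nat.testBit_two_pow, List.any_eq_true]
  simp only [decide_eq_true_eq, List.mem_range, Bool.and_eq_true, eq_comm (a := (255 : ℕ))]

theorem exists_code (f : Fin 7 → Bool) : ∃ m < 128, ∀ i : Fin 7, m.testBit i = f i := by
  revert f
  decide +kernel

theorem mem_idx8 {a : ℕ} (h : a < 8) : a ∈ idx8 := by
  simp only [idx8, List.mem_cons, List.not_mem_nil, or_false]
  omega

theorem aff_of_pres {p : Equiv.Perm (Fin 8)} (hp : PresBlocks p) (v : ℕ) :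
    permMask p v = pmA (p 0 : Fin 8) (p 1 : Fin 8) (p 2 : Fin 8) (p 4 : Fin 8) v := by
  have key : ∀ a b c d : Fin 8, 2 ^ (a : ℕ) + (2 ^ (b : ℕ) + (2 ^ (c : ℕ) + 2 ^ (d : ℕ))) ∈ blockL →
      (d : ℕ) = (a : ℕ) ^^^ b ^^^ c := by
    intro a b c d h
    have h4 := planeOK_true
    simp only [planeOK, List.all_eq_true, Bool.or_eq_true, Bool.not_eq_true', beq_iff_eq] at h4
    refine (h4 _ (mem_idx8 a.2) _ (mem_idx8 b.2) _ (mem_idx8 c.2) _ (mem_idx8 d.2)).resolve_left ?_
    rw [blkBits, Bool.not_eq_false, testBit_lBits]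
    exact h
  have h15 := hp 15 (by decide)
  have h51 := hp 51 (by decide)
  have h85 := hp 85 (by decide)
  have h150 := hp 150 (by decide)
  rw [pm8_eq] at h15 h51 h85 h150
  simp [pm8, Nat.testBit, Nat.shiftRight_eq_div_pow] at h15 h51 h85 h150
  rw [pm8_eq, pmA, key _ _ _ _ h15, key _ _ _ _ h51, key _ _ _ _ h85, key _ _ _ _ h150]

theorem frame_distinct {p : Equiv.Perm (Fin 8)} (hp : PresBlocks p) :
    (((p 0 : Fin 8) : ℕ) == (p 1 : Fin 8) || ((p 0 : Fin 8) : ℕ) == (p 2 : Fin 8) ||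
      ((p 1 : Fin 8) : ℕ) == (p 2 : Fin 8) || ((p 0 : Fin 8) : ℕ) == (p 4 : Fin 8) ||
      ((p 1 : Fin 8) : ℕ) == (p 4 : Fin 8) || ((p 2 : Fin 8) : ℕ) == (p 4 : Fin 8) ||
      ((p 4 : Fin 8) : ℕ) == ((p 0 : Fin 8) : ℕ) ^^^ (p 1 : Fin 8) ^^^ (p 2 : Fin 8)) = false := by
  have hne : ∀ i j : Fin 8, i ≠ j → ((p i : Fin 8) : ℕ) ≠ (p j : Fin 8) := fun i j h he =>
    h (p.injective (Fin.ext he))
  have h3 : ((p 3 : Fin 8) : ℕ) = ((p 0 : Fin 8) : ℕ) ^^^ (p 1 : Fin 8) ^^^ (p 2 : Fin 8) := by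
    have h15 := hp 15 (by decide)
    rw [pm8_eq] at h15
    simp [pm8, Nat.testBit, Nat.shiftRight_eq_div_pow] at h15
    have h4 := planeOK_true
    simp only [planeOK, List.all_eq_true, Bool.or_eq_true, Bool.not_eq_true', beq_iff_eq] at h4
    refine (h4 _ (mem_idx8 (p 0).2) _ (mem_idx8 (p 1).2) _ (mem_idx8 (p 2).2) _
      (mem_idx8 (p 3).2)).resolve_left ?_
    rw [blkBits, Bool.not_eq_false, testBit_lBits]
    exact h15
  rw [← h3]
  simp only [Bool.or_eq_false_iff, beq_eq_false_iff_ne]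
  exact ⟨⟨⟨⟨⟨⟨hne 0 1 (by decide), hne 0 2 (by decide)⟩, hne 1 2 (by decide)⟩, hne 0 4 (by decide)⟩,
    hne 1 4 (by decide)⟩, hne 2 4 (by decide)⟩, hne 4 3 (by decide)⟩

theorem forallMem_of_all {p : Equiv.Perm (Fin 8)}
    (h : (blockL.all fun b => blockL.contains (permMask p b)) = true) : PresBlocks p := fun b hb => by
  rw [List.all_eq_true] at h
  exact List.contains_iff_mem.1 (h b hb)

theorem gen_pres (b : Bool) : PresBlocks (genP b) := by cases b <;> exact forallMem_of_all (by decide +kernel)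

theorem fixP_pres : PresBlocks fixP1 ∧ PresBlocks fixP64 ∧ PresBlocks fixP67 := by
  refine ⟨?_, ?_, ?_⟩ <;> exact forallMem_of_all (by decide +kernel)

theorem fix_frame {p : Equiv.Perm (Fin 8)} (hp : PresBlocks p) :
    (fixB memA 5 fixTab1 (p 0 : Fin 8) (p 1 : Fin 8) (p 2 : Fin 8) (p 4 : Fin 8) = true ∧
      fixB memB 5 fixTab64 (p 0 : Fin 8) (p 1 : Fin 8) (p 2 : Fin 8) (p 4 : Fin 8) = true) ∧
      fixB memC 17 fixTab67 (p 0 : Fin 8) (p 1 : Fin 8) (p 2 : Fin 8) (p 4 : Fin 8) = true := by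
  have key : ∀ a : Fin 8, fixAll a = true := by
    intro a
    fin_cases a
    exacts [fixAll_0, fixAll_1, fixAll_2, fixAll_3, fixAll_4, fixAll_5, fixAll_6, fixAll_7]
  have h := key (p 0)
  simp only [fixAll, List.all_eq_true] at h
  have h' := h _ (mem_idx8 (p 1).2) _ (mem_idx8 (p 2).2) _ (mem_idx8 (p 4).2)
  rw [frame_distinct hp, Bool.false_or] at h'
  simpa only [Bool.and_eq_true] using h'

/-- The bit set as a finite set. -/
def bitsF (B : ℕ) : Finset ℕ := (Finset.range 256).filter fun v => B.testBit v = true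

theorem card_bitsF (B : ℕ) : (bitsF B).card = ((List.range 256).filter fun v => B.testBit v).length := by
  have e : bitsF B = ((List.range 256).filter fun v => B.testBit v).toFinset := by
    ext v; simp [bitsF]
  rw [e, List.toFinset_card_of_nodup (List.nodup_range.filter _)]

theorem bitsF_injOn {A B : ℕ} (hA : A < 2 ^ 256) (hB : B < 2 ^ 256) (h : bitsF A = bitsF B) : A = B := by
  refine Nat.eq_of_testBit_eq fun v => ?_
  by_cases hv : v < 256
  · have := congrArg (fun S => v ∈ S) h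
    simp only [bitsF, Finset.mem_filter, Finset.mem_range, hv, true_and, eq_iff_iff] at this
    exact Bool.eq_iff_iff.2 this
  · have h2 : (2 : ℕ) ^ 256 ≤ 2 ^ v := Nat.pow_le_pow_right (by norm_num) (not_lt.1 hv)
    rw [Nat.testBit_lt_two_pow (hA.trans_le h2), Nat.testBit_lt_two_pow (hB.trans_le h2)]

/-- A prime dividing the order of a group of automorphisms of a group of exponent two with at most
`256` elements is small. -/
theorem prime_mem_goodP {V : Type*} [Group V] [Finite V] (h2 : ∀ a : V, a * a = 1) (h256 : Nat.card V ≤ 256)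
    {p : ℕ} (hp : p.Prime) (hd : p ∣ Nat.card (MulAut V)) : p ∈ goodP := by
  classical
  haveI := Fact.mk hp
  haveI := Fact.mk Nat.prime_two
  haveI : Finite (MulAut V) := Finite.of_injective (fun e : MulAut V => (e : V → V)) DFunLike.coe_injective
  obtain ⟨e, he⟩ := exists_prime_orderOf_dvd_card' p hd
  have hP : IsPGroup p (Subgroup.zpowers e) :=
    IsPGroup.of_card (n := 1) (by rw [Nat.card_zpowers, he, pow_one])
  have hmod := hP.card_modEq_card_fixedPoints V
  let F : Subgroup V :=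
    { carrier := {a | e a = a}
      one_mem' := map_one e
      mul_mem' := fun {a b} ha hb => by
        simp only [Set.mem_setOf_eq] at ha hb ⊢; rw [map_mul, ha, hb]
      inv_mem' := fun {a} ha => by simp only [Set.mem_setOf_eq] at ha ⊢; rw [map_inv, ha] }
  have hfix : Nat.card (MulAction.fixedPoints (Subgroup.zpowers e) V) = Nat.card F := by
    refine Nat.card_congr (Equiv.subtypeEquivRight fun a => ?_)
    constructor
    · intro h
      exact h ⟨e, Subgroup.mem_zpowers e⟩
    · intro h g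
      have hs : e ∈ MulAction.stabilizer (MulAut V) a := h
      exact (Subgroup.zpowers_le.2 hs) g.2
  rw [hfix] at hmod
  obtain ⟨b, hb⟩ := IsPGroup.iff_card.1 (IsPGroup.iff_orderOf.2 fun a : V =>
    (Nat.dvd_prime_pow Nat.prime_two).1 (orderOf_dvd_of_pow_eq_one (n := 2 ^ 1) (by rw [pow_one, pow_two, h2]))
      |>.imp fun _ h => h.2)
  obtain ⟨a, hab, ha⟩ := (Nat.dvd_prime_pow Nat.prime_two).1 (hb ▸ F.card_subgroup_dvd_card)
  have hne : a ≠ b := by
    intro hab'
    subst hab'
    have htop : F = ⊤ := F.eq_top_of_card_eq (by rw [ha, hb])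
    have : e = 1 := MulEquiv.ext fun x => (show x ∈ F from htop ▸ Subgroup.mem_top x)
    rw [this, orderOf_one] at he
    exact hp.ne_one he.symm
  have hb8 : b ≤ 8 := (Nat.pow_le_pow_iff_right (by norm_num : 1 < 2)).1 (by rw [← hb]; exact h256)
  have hdiv : p ∣ 2 ^ b - 2 ^ a := (Nat.modEq_iff_dvd' (Nat.pow_le_pow_right (by norm_num) hab)).1
    (hb ▸ ha ▸ hmod.symm)
  rw [show 2 ^ b - 2 ^ a = 2 ^ a * (2 ^ (b - a) - 1) by
    rw [Nat.mul_sub, mul_one, ← pow_add, Nat.add_sub_cancel' hab]] at hdiv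
  rcases hp.dvd_mul.1 hdiv with h | h
  · rw [(Nat.prime_dvd_prime_iff_eq hp Nat.prime_two).1 (hp.dvd_of_dvd_pow h)]
    decide
  · have key : ∀ k : Fin 9, k.val ≠ 0 → ∀ q : Fin 256, 2 ≤ q.val → (2 ^ k.val - 1) % q.val = 0 →
        q.val ∈ goodP ∨ ∃ d : Fin 16, 2 ≤ d.val ∧ d.val < q.val ∧ q.val % d.val = 0 := by decide +kernel
    have hk : b - a < 9 := by omega
    have hk0 : b - a ≠ 0 := by omega
    have hq : p < 256 := by
      have h1 : 2 ^ (b - a) ≤ 256 := Nat.pow_le_pow_right (by norm_num) (show b - a ≤ 8 by omega)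
      have h0 : 1 < 2 ^ (b - a) := Nat.one_lt_two_pow hk0
      have := Nat.le_of_dvd (by omega) h
      omega
    rcases key ⟨_, hk⟩ hk0 ⟨p, hq⟩ hp.two_le (Nat.mod_eq_zero_of_dvd h) with h' | ⟨d, hd2, hdp, hdm⟩
    · exact h'
    · exfalso
      rcases hp.eq_one_or_self_of_dvd _ (Nat.dvd_of_mod_eq_zero hdm) with h' | h'
      · omega
      · simp only at hdp h'; omega

section orbit

variable {Γ V : Type*} [Group Γ] [Finite Γ] [Group V] [Finite V] [MulDistribMulAction Γ V]

open Classical in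
theorem false_of_family (ℓ : V → ℕ) (hlt : ∀ a, ℓ a < 256) (hinj : Function.Injective ℓ)
    (z : V) (hz : ℓ z = 255)
    (stab : ∀ γ : Γ, γ • z = z → ∃ p, PresBlocks p ∧ ∀ a, ℓ (γ • a) = permMask p (ℓ a))
    (real : ∀ p, PresBlocks p → ∃ γ : Γ, γ • z = z ∧ ∀ a, ℓ (γ • a) = permMask p (ℓ a))
    {X f n : ℕ} {T : List (ℕ × ℕ × Bool)} {p0 : Equiv.Perm (Fin 8)} (hp0 : PresBlocks p0)
    (hX : ∀ v < 256, X.testBit v = true ↔ ∃ γ : Γ, ℓ (γ • z) = v)
    (hn : cntX X = n) (hfam : famB X f T p0 = true)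
    {xs : List ℕ} (hxs : xs = (List.range 256).filter fun v => X.testBit v)
    (hfix : ∀ p : Equiv.Perm (Fin 8), PresBlocks p →
      fixB xs f T (p 0 : Fin 8) (p 1 : Fin 8) (p 2 : Fin 8) (p 4 : Fin 8) = true) (hdvd : ¬ f ∣ n * T.length) : False := by
  haveI := Fintype.ofFinite Γ
  haveI := Fintype.ofFinite V
  obtain ⟨γ0, hγ0z, hγ0⟩ := real p0 hp0
  let O : Finset V := Finset.univ.filter fun a => ∃ γ : Γ, γ • z = a
  have hO : ∀ a, a ∈ O ↔ ∃ γ : Γ, γ • z = a := fun a => by simp [O]
  have hOX : ∀ a, a ∈ O ↔ X.testBit (ℓ a) = true := fun a => by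
    rw [hO, hX _ (hlt a)]
    exact ⟨fun ⟨γ, h⟩ => ⟨γ, by rw [h]⟩, fun ⟨γ, h⟩ => ⟨γ, hinj h⟩⟩
  have hXv : ∀ v < 256, X.testBit v = true → ∃ a ∈ O, ℓ a = v := fun v hv h => by
    obtain ⟨γ, hγ⟩ := (hX v hv).1 h
    exact ⟨_, (hO _).2 ⟨γ, rfl⟩, hγ⟩
  have hOinv : ∀ (γ : Γ) a, γ • a ∈ O ↔ a ∈ O := fun γ a => by
    rw [hO, hO]
    constructor
    · rintro ⟨δ, hδ⟩; exact ⟨γ⁻¹ * δ, by rw [mul_smul, hδ, inv_smul_smul]⟩
    · rintro ⟨δ, hδ⟩; exact ⟨γ * δ, by rw [mul_smul, hδ]⟩
  have himO : O.image ℓ = bitsF X := by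
    ext v
    simp only [Finset.mem_image, bitsF, Finset.mem_filter, Finset.mem_range]
    exact ⟨fun ⟨a, ha, h⟩ => h ▸ ⟨hlt a, (hOX a).1 ha⟩, fun ⟨h1, h2⟩ => hXv v h1 h2⟩
  have hcardO : O.card = n := by
    rw [← Finset.card_image_of_injective O hinj, himO, card_bitsF, ← hn, cntX]
  simp only [famB, Bool.and_eq_true, List.all_eq_true, List.mem_range, decide_eq_true_eq,
    Bool.or_eq_true, Bool.not_eq_true', beq_iff_eq] at hfam
  obtain ⟨hnd, hfam⟩ := hfam
  let B : ℕ → ℕ := fun j => (T.getD j (0, 0, false)).1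
  let F0 : Finset V := O.filter fun a => γ0 • a = a
  let tr : Γ → Finset V := fun γ => F0.image fun a => γ • a
  have htr : ∀ γ γ' : Γ, (tr γ).image (fun a => γ' • a) = tr (γ' * γ) := fun γ γ' => by
    simp only [tr, Finset.image_image, Function.comp_def, mul_smul]
  let 𝔉 : Finset (Finset V) := Finset.univ.image tr
  have hbase : F0.image ℓ = bitsF (B 0) := by
    ext v
    simp only [Finset.mem_image, bitsF, Finset.mem_filter, Finset.mem_range, F0]
    constructor
    · rintro ⟨a, ⟨ha, hfa⟩, rfl⟩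
      refine ⟨hlt a, ?_⟩
      show (T.getD 0 (0, 0, false)).1.testBit (ℓ a) = true
      rw [(hfam _ (hlt a)).1.1, (hOX a).1 ha, Bool.true_and, beq_iff_eq, ← hγ0 a, hfa]
    · rintro ⟨hv, hb⟩
      have hb' : (T.getD 0 (0, 0, false)).1.testBit v = true := hb
      rw [(hfam v hv).1.1, Bool.and_eq_true, beq_iff_eq] at hb'
      obtain ⟨a, ha, rfl⟩ := hXv v hv hb'.1
      exact ⟨a, ⟨ha, hinj (by rw [hγ0, hb'.2])⟩, rfl⟩
  have hF0card : F0.card = f := by
    rw [← Finset.card_image_of_injective F0 hinj, hbase, card_bitsF]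
    exact (((hfam 0 (by norm_num)).2).resolve_left (by simp))
  have htrcard : ∀ γ, (tr γ).card = f := fun γ => by
    rw [Finset.card_image_of_injective _ (MulAction.injective γ), hF0card]
  have hzF0 : z ∈ F0 := Finset.mem_filter.2 ⟨(hO z).2 ⟨1, one_smul _ _⟩, hγ0z⟩
  have hlist : ∀ j < T.length, ∃ γ, (tr γ).image ℓ = bitsF (B j) := by
    intro j
    induction j using Nat.strong_induction_on with
    | _ j ih =>
      intro hj
      by_cases h0 : j = 0
      · subst h0
        exact ⟨1, by simpa [tr] using hbase⟩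
      set e := T.getD j (0, 0, false) with he
      have hpar : ∀ v < 256, e.2.1 < j ∧
          e.1.testBit (permMask (genP e.2.2) v) = (B e.2.1).testBit v := fun v hv => by
        rcases ((hfam v hv).1.2 j hj).2 with h | ⟨h1, h2⟩
        · exact absurd h h0
        · exact ⟨h1, h2⟩
      obtain ⟨hlt', -⟩ := hpar 0 (by norm_num)
      obtain ⟨γ, hγ⟩ := ih _ hlt' (hlt'.trans hj)
      obtain ⟨δ, -, hδ⟩ := real _ (gen_pres e.2.2)
      have hbij := genBij_true
      simp only [genBij, List.all_eq_true, List.mem_range, Bool.and_eq_true, decide_eq_true_eq] at hbij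
      have hg : ∀ v < 256, permMask (genP e.2.2) v < 256 := fun v hv =>
        (hbij e.2.2 (by cases e.2.2 <;> simp) v hv).1
      refine ⟨δ * γ, ?_⟩
      rw [← htr, Finset.image_image]
      have : (ℓ ∘ fun a => δ • a) = (fun v => permMask (genP e.2.2) v) ∘ ℓ := funext fun a => hδ a
      rw [this, ← Finset.image_image, hγ]
      ext v
      simp only [Finset.mem_image, bitsF, Finset.mem_filter, Finset.mem_range]
      constructor
      · rintro ⟨w, ⟨hw, hwb⟩, rfl⟩
        exact ⟨hg w hw, ((hpar w hw).2).trans hwb⟩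
      · rintro ⟨hv, hb⟩
        obtain ⟨⟨-, hsub⟩, -⟩ := ((hfam v hv).1.2 j hj).1
        have hvX : X.testBit v = true := by
          rcases hsub with h | h
          · exact absurd ((show (B j).testBit v = false from h).symm.trans hb) (by simp)
          · exact h
        obtain ⟨a, -, ha⟩ := hXv v hv hvX
        refine ⟨ℓ (δ⁻¹ • a), ⟨hlt _, ?_⟩, by rw [← hδ, smul_inv_smul, ha]⟩
        rw [← (hpar _ (hlt _)).2, ← hδ, smul_inv_smul, ha]
        exact hb
  have hthrough : (𝔉.filter fun F => z ∈ F).image (fun F => F.image ℓ) =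
      ((List.range T.length).map fun j => bitsF (B j)).toFinset := by
    ext S
    simp only [List.mem_toFinset, List.mem_map, List.mem_range, Finset.mem_image, Finset.mem_filter, 𝔉,
      Finset.mem_univ, true_and]
    constructor
    · rintro ⟨F, ⟨⟨γ, rfl⟩, hzF⟩, rfl⟩
      have hfixed : ∀ a, a ∈ tr γ ↔ a ∈ O ∧ (γ * γ0 * γ⁻¹) • a = a := fun a => by
        rw [Finset.mem_image, mul_smul, mul_smul]
        constructor
        · rintro ⟨b, hb, rfl⟩
          obtain ⟨hbO, hbf⟩ := Finset.mem_filter.1 hb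
          exact ⟨(hOinv γ b).2 hbO, by rw [inv_smul_smul, hbf]⟩
        · rintro ⟨haO, haf⟩
          refine ⟨γ⁻¹ • a, Finset.mem_filter.2 ⟨(hOinv γ⁻¹ a).2 haO, ?_⟩, smul_inv_smul γ a⟩
          exact smul_left_cancel γ (haf.trans (smul_inv_smul γ a).symm)
      obtain ⟨p, hp, hpl⟩ := stab _ ((hfixed z).1 hzF).2
      have hb := hfix p hp
      simp only [fixB, Bool.or_eq_true, decide_eq_true_eq, List.any_eq_true, beq_iff_eq, hxs] at hb
      simp only [← aff_of_pres hp] at hb
      set Fl := ((List.range 256).filter fun v => X.testBit v).filter fun v => permMask p v == v with hFl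
      have hmemFl : ∀ v, v ∈ Fl ↔ v ∈ (tr γ).image ℓ := fun v => by
        simp only [hFl, List.mem_filter, List.mem_range, beq_iff_eq, Finset.mem_image, hfixed]
        constructor
        · rintro ⟨⟨hv, hvX⟩, hvp⟩
          obtain ⟨a, ha, rfl⟩ := hXv v hv hvX
          exact ⟨a, ⟨ha, hinj ((hpl a).trans hvp)⟩, rfl⟩
        · rintro ⟨a, ⟨ha, hfa⟩, rfl⟩
          exact ⟨⟨hlt a, (hOX a).1 ha⟩, (hpl a).symm.trans (congrArg ℓ hfa)⟩
      have hFlset : Fl.toFinset = (tr γ).image ℓ := Finset.ext fun v => by rw [List.mem_toFinset, hmemFl]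
      rcases hb with hb | ⟨e, he, hall⟩
      · exfalso
        refine hb ?_
        rw [← List.toFinset_card_of_nodup ((List.nodup_range.filter _).filter _), hFlset,
          Finset.card_image_of_injective _ hinj, htrcard]
      · obtain ⟨j, hj, hje⟩ := List.getElem_of_mem he
        refine ⟨j, hj, ?_⟩
        rw [← hFlset]
        have hBj : B j = lBits Fl := by simp only [B, List.getD_eq_getElem _ _ hj, hje, hall]
        ext v
        rw [List.mem_toFinset]
        simp only [bitsF, Finset.mem_filter, Finset.mem_range, hBj, testBit_lBits]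
        exact ⟨fun h => h.2, fun h => ⟨List.mem_range.1 (List.mem_filter.1 (List.mem_filter.1 h).1).1, h⟩⟩
    · rintro ⟨j, hj, rfl⟩
      obtain ⟨γ, hγ⟩ := hlist j hj
      refine ⟨tr γ, ⟨⟨γ, rfl⟩, ?_⟩, hγ⟩
      have h255 : (255 : ℕ) ∈ bitsF (B j) := by
        refine Finset.mem_filter.2 ⟨by simp, ?_⟩
        exact (((hfam 255 (by norm_num)).1.2 j hj).1.2).resolve_left (by simp)
      rw [← hγ, Finset.mem_image] at h255
      obtain ⟨a, ha, hae⟩ := h255
      rwa [hinj (hae.trans hz.symm)] at ha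
  have hm : (𝔉.filter fun F => z ∈ F).card = T.length := by
    rw [← Finset.card_image_of_injective _ (Finset.image_injective hinj), hthrough,
      List.toFinset_card_of_nodup, List.length_map, List.length_range]
    refine List.nodup_range.map_on fun i hi j hj hij => ?_
    rw [List.mem_range] at hi hj
    have h := bitsF_injOn ((hfam 0 (by norm_num)).1.2 i hi).1.1.1 ((hfam 0 (by norm_num)).1.2 j hj).1.1.1 hij
    have hi' : i < (T.map Prod.fst).length := by simpa using hi
    have hj' : j < (T.map Prod.fst).length := by simpa using hj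
    refine (hnd.getElem_inj_iff (hi := hi') (hj := hj')).1 ?_
    simp only [B, List.getD_eq_getElem _ _ hi, List.getD_eq_getElem _ _ hj] at h
    simpa only [List.getElem_map] using h
  have hall : ∀ a ∈ O, (𝔉.filter fun F => a ∈ F).card = T.length := by
    intro a ha
    obtain ⟨γ, rfl⟩ := (hO a).1 ha
    have e : (𝔉.filter fun F => γ • z ∈ F) = (𝔉.filter fun F => z ∈ F).image fun F => F.image (γ • ·) := by
      ext F
      simp only [Finset.mem_filter, Finset.mem_image, 𝔉, Finset.mem_univ, true_and]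
      constructor
      · rintro ⟨⟨δ, rfl⟩, h⟩
        obtain ⟨b, hb, hbe⟩ := Finset.mem_image.1 h
        refine ⟨tr (γ⁻¹ * δ), ⟨⟨_, rfl⟩, Finset.mem_image.2 ⟨b, hb, ?_⟩⟩, ?_⟩
        · rw [mul_smul, hbe, inv_smul_smul]
        · rw [htr, mul_inv_cancel_left]
      · rintro ⟨G, ⟨⟨δ, rfl⟩, hG⟩, rfl⟩
        exact ⟨⟨γ * δ, (htr δ γ).symm⟩, Finset.mem_image_of_mem _ hG⟩
    rw [e, Finset.card_image_of_injective _ (Finset.image_injective (MulAction.injective γ)), hm]
  have hdc := Finset.card_mul_eq_card_mul (fun (a : V) (F : Finset V) => a ∈ F) (s := O) (t := 𝔉)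
    (m := T.length) (n := f) (fun a ha => hall a ha) (fun F hF => by
      obtain ⟨γ, -, rfl⟩ := Finset.mem_image.1 hF
      rw [← htrcard γ]
      refine congrArg Finset.card (Finset.ext fun a => ?_)
      simp only [Finset.bipartiteBelow, Finset.mem_filter]
      refine ⟨fun h => h.2, fun h => ⟨?_, h⟩⟩
      obtain ⟨b, hb, rfl⟩ := Finset.mem_image.1 h
      exact (hOinv γ b).2 (Finset.mem_filter.1 hb).1)
  rw [hcardO] at hdc
  exact hdvd ⟨𝔉.card, by rw [hdc, mul_comm]⟩

open Classical in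
theorem orbit_trivial (ℓ : V → ℕ) (hlt : ∀ a, ℓ a < 256) (hinj : Function.Injective ℓ)
    (hℓ : ∀ a b, ℓ (a * b) = ℓ a ^^^ ℓ b) (z : V) (hz : ℓ z = 255)
    (stab : ∀ γ : Γ, γ • z = z → ∃ p, PresBlocks p ∧ ∀ a, ℓ (γ • a) = permMask p (ℓ a))
    (real : ∀ p, PresBlocks p → ∃ γ : Γ, γ • z = z ∧ ∀ a, ℓ (γ • a) = permMask p (ℓ a))
    (noBlock : ∀ γ : Γ, ℓ (γ • z) ∉ blocks) : ∀ γ : Γ, γ • z = z := by
  haveI := Fintype.ofFinite V
  have hℓ1 : ℓ 1 = 0 := by
    have := hℓ 1 1
    rwa [mul_one, Nat.xor_self] at this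
  have h2 : ∀ a : V, a * a = 1 := fun a => hinj (by rw [hℓ, Nat.xor_self, hℓ1])
  have h256 : Nat.card V ≤ 256 := by
    have := Nat.card_le_card_of_injective (fun a => (⟨ℓ a, hlt a⟩ : Fin 256))
      (fun a b h => hinj (congrArg Fin.val h))
    simpa using this
  let O : Finset V := Finset.univ.filter fun a => ∃ γ : Γ, γ • z = a
  have hO : ∀ a, a ∈ O ↔ ∃ γ : Γ, γ • z = a := fun a => by simp [O]
  let InX : ℕ → Prop := fun v => ∃ γ : Γ, ℓ (γ • z) = v
  have hbij := genBij_true
  simp only [genBij, List.all_eq_true, List.mem_range, Bool.and_eq_true, decide_eq_true_eq] at hbij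
  have hstep : ∀ b : Bool, ∀ v < 256, InX (permMask (genP b) v) ↔ InX v := by
    intro b v hv
    obtain ⟨δ, -, hδ⟩ := real _ (gen_pres b)
    constructor
    · rintro ⟨γ, hγ⟩
      refine ⟨δ⁻¹ * γ, ?_⟩
      have h1 : permMask (genP b) (ℓ ((δ⁻¹ * γ) • z)) = permMask (genP b) v := by
        rw [← hδ, mul_smul, smul_inv_smul, hγ]
      have h3 := congrArg (permMask (genP b).symm) h1
      rwa [(hbij b (by cases b <;> simp) _ (hlt _)).2, (hbij b (by cases b <;> simp) v hv).2] at h3
    · rintro ⟨γ, hγ⟩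
      exact ⟨δ * γ, by rw [mul_smul, hδ, hγ]⟩
  have hp := pathOK_true
  simp only [pathOK, Bool.and_eq_true, List.all_eq_true, List.mem_range, decide_eq_true_eq, Bool.or_eq_true,
    beq_iff_eq] at hp
  obtain ⟨-, hp⟩ := hp
  have hcls : ∀ i < 7, ∀ v < 256, (clsB i).testBit v = true → (InX v ↔ InX (repC i)) := by
    intro i hi v hv hbit
    obtain ⟨hpath, hset⟩ := hp i hi
    set L := clsPath.getD i [] with hL
    have key : ∀ j < L.length, InX (L.getD j (0, 0, false)).1 ↔ InX (repC i) := by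
      intro j
      induction j using Nat.strong_induction_on with
      | _ j ih =>
        intro hj
        rcases hpath j hj with h | ⟨hlt', he⟩
        · subst h; exact Iff.rfl
        · have hpl : (L.getD (L.getD j (0, 0, false)).2.1 (0, 0, false)).1 < 256 := by
            have hall : ∀ P ∈ clsPath, ∀ e ∈ P, e.1 < 256 := by decide +kernel
            rw [List.getD_eq_getElem _ _ (hlt'.trans hj)]
            refine hall L ?_ _ (List.getElem_mem _)
            rw [hL, List.getD_eq_getElem _ _ (hi.trans_eq (by decide +kernel))]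
            exact List.getElem_mem _
          rw [← he, hstep _ _ hpl]
          exact ih _ hlt' (hlt'.trans hj)
    have := hset v hv
    rw [hbit, eq_comm, List.contains_iff_mem, List.mem_map] at this
    obtain ⟨e, he, rfl⟩ := this
    obtain ⟨j, hj, rfl⟩ := List.getElem_of_mem he
    rw [← List.getD_eq_getElem (d := (0, 0, false)) _ hj]
    exact key j hj
  obtain ⟨m, hm, hmb⟩ := exists_code fun i => decide (InX (repC i))
  have hX : ∀ v < 256, (candX m).testBit v = true ↔ InX v := by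
    intro v hv
    rw [testBit_candX]
    constructor
    · rintro (rfl | ⟨i, hi, him, hiv⟩)
      · exact ⟨1, by rw [one_smul, hz]⟩
      · rw [hcls i hi v hv hiv]
        have := hmb ⟨i, hi⟩
        simp only at this
        rw [him] at this
        simpa using this.symm
    · intro hInX
      have hc := coverOK_true
      simp only [coverOK, List.all_eq_true, List.mem_range, Bool.or_eq_true, decide_eq_true_eq,
        List.contains_iff_mem, List.any_eq_true] at hc
      obtain ⟨γ, hγ⟩ := hInX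
      rcases hc v hv with ((h | h) | h) | ⟨i, hi, hiv⟩
      · exfalso
        have h1 : γ • z = 1 := hinj (by rw [hγ, h, hℓ1])
        rw [smul_eq_iff_eq_inv_smul, smul_one] at h1
        rw [h1, hℓ1] at hz
        exact absurd hz (by norm_num)
      · exact absurd (hγ ▸ (mem_blockL v).1 h : ℓ (γ • z) ∈ blocks) (noBlock γ)
      · exact Or.inl h
      · refine Or.inr ⟨i, hi, ?_, hiv⟩
        have := hmb ⟨i, hi⟩
        simp only at this
        rw [this, decide_eq_true_eq, ← hcls i hi v hv hiv]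
        exact ⟨γ, hγ⟩
  have hOX : ∀ a, a ∈ O ↔ (candX m).testBit (ℓ a) = true := fun a => by
    rw [hO, hX _ (hlt a)]
    exact ⟨fun ⟨γ, h⟩ => ⟨γ, by rw [h]⟩, fun ⟨γ, h⟩ => ⟨γ, hinj h⟩⟩
  have hOinv : ∀ (γ : Γ) a, γ • a ∈ O ↔ a ∈ O := fun γ a => by
    rw [hO, hO]
    constructor
    · rintro ⟨δ, hδ⟩; exact ⟨γ⁻¹ * δ, by rw [mul_smul, hδ, inv_smul_smul]⟩
    · rintro ⟨δ, hδ⟩; exact ⟨γ * δ, by rw [mul_smul, hδ]⟩
  have hXv : ∀ v < 256, (candX m).testBit v = true → ∃ a ∈ O, ℓ a = v := fun v hv h => by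
    obtain ⟨γ, hγ⟩ := (hX v hv).1 h
    exact ⟨_, (hO _).2 ⟨γ, rfl⟩, hγ⟩
  have hcard : O.card = cntX (candX m) := by
    rw [cntX, ← card_bitsF, ← Finset.card_image_of_injective O hinj]
    refine congrArg Finset.card (Finset.ext fun v => ?_)
    simp only [Finset.mem_image, bitsF, Finset.mem_filter, Finset.mem_range]
    exact ⟨fun ⟨a, ha, h⟩ => h ▸ ⟨hlt a, (hOX a).1 ha⟩, fun ⟨h1, h2⟩ => hXv v h1 h2⟩
  have hall := allCand_true
  simp only [allCand, List.all_eq_true, List.mem_range, Bool.or_eq_true, List.contains_iff_mem,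
    List.any_eq_true, beq_iff_eq, List.mem_cons, List.not_mem_nil, or_false] at hall
  rcases hall m hm with (h | h | h | h) | ⟨e, he, hem⟩
  · subst h
    intro γ
    refine hinj ?_
    have h' := (hX _ (hlt _)).2 ⟨γ, rfl⟩
    rw [testBit_candX] at h'
    rcases h' with h' | ⟨i, _, hi, -⟩
    · rw [h', hz]
    · simp at hi
  · subst h
    exfalso
    rw [cand_keep.1] at hX
    exact false_of_family ℓ hlt hinj z hz stab real fixP_pres.1 hX cntX_keep.1 famB_1 mem_keep.1
      (fun p hp => (fix_frame hp).1.1) (by decide +kernel)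
  · subst h
    exfalso
    rw [cand_keep.2.1] at hX
    exact false_of_family ℓ hlt hinj z hz stab real fixP_pres.2.1 hX cntX_keep.2.1 famB_64 mem_keep.2.1
      (fun p hp => (fix_frame hp).1.2) (by decide +kernel)
  · subst h
    exfalso
    rw [cand_keep.2.2] at hX
    exact false_of_family ℓ hlt hinj z hz stab real fixP_pres.2.2 hX cntX_keep.2.2 famB_67 mem_keep.2.2
      (fun p hp => (fix_frame hp).2) (by decide +kernel)
  · exfalso
    have hw := witOK_true
    simp only [witOK, List.all_eq_true, Bool.or_eq_true, Bool.and_eq_true, decide_eq_true_eq, List.mem_range,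
      Bool.not_eq_true'] at hw
    have hwe := hw e he
    rw [hem] at hwe
    rcases hwe with ⟨⟨⟨h2', hdvd⟩, hpr⟩, hbad⟩ | ⟨⟨hv, hin⟩, hne⟩
    · have hp : e.2.1.Prime := Nat.prime_def_lt.2 ⟨h2', fun d hd hdd => by
        rcases hpr d hd with h | h
        · interval_cases d
          · simp at hdd; omega
          · rfl
        · exact absurd (Nat.mod_eq_zero_of_dvd hdd) h⟩
      have hgood : e.2.1 ∈ goodP := by
        refine prime_mem_goodP h2 h256 hp ?_
        haveI : Finite (MulAut V) := Finite.of_injective (fun e : MulAut V => (e : V → V)) DFunLike.coe_injective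
        let φ : Γ →* MulAut V := MulDistribMulAction.toMulAut Γ V
        have horb : O.card = Nat.card (MulAction.orbit φ.range z) := by
          rw [← (Nat.card_coe_set_eq (↑O : Set V)).trans (Set.ncard_coe_finset O)]
          refine Nat.card_congr (Equiv.setCongr (Set.ext fun a => ?_))
          rw [Finset.mem_coe, hO, MulAction.mem_orbit_iff]
          constructor
          · rintro ⟨γ, rfl⟩; exact ⟨⟨φ γ, γ, rfl⟩, rfl⟩
          · rintro ⟨⟨_, γ, rfl⟩, rfl⟩; exact ⟨γ, rfl⟩
        have h3 : Nat.card (MulAction.orbit φ.range z) ∣ Nat.card φ.range := by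
          rw [Nat.card_congr (MulAction.orbitEquivQuotientStabilizer φ.range z)]
          exact Subgroup.card_quotient_dvd_card _
        exact ((Nat.dvd_of_mod_eq_zero hdvd).trans (hcard ▸ horb ▸ h3)).trans φ.range.card_subgroup_dvd_card
      rw [List.contains_iff_mem.2 hgood] at hbad
      exact absurd hbad (by simp)
    · refine hne ?_
      have hN : ∀ a ∈ O, cntN (candX m) (ℓ a) = (O.filter fun b => a * b ∈ O).card := by
        intro a _
        rw [cntN, ← List.toFinset_card_of_nodup (List.nodup_range.filter _),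
          ← Finset.card_image_of_injective _ hinj]
        refine congrArg Finset.card (Finset.ext fun v => ?_)
        simp only [List.mem_toFinset, List.mem_filter, List.mem_range, Bool.and_eq_true, Finset.mem_image,
          Finset.mem_filter]
        constructor
        · rintro ⟨hv', h1, h2'⟩
          obtain ⟨b, hb, rfl⟩ := hXv v hv' h1
          exact ⟨b, ⟨hb, (hOX _).2 (by rwa [hℓ])⟩, rfl⟩
        · rintro ⟨b, ⟨hb, hab⟩, rfl⟩
          exact ⟨hlt b, (hOX b).1 hb, by rw [← hℓ]; exact (hOX _).1 hab⟩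
      obtain ⟨a, ha, hae⟩ := hXv _ hv hin
      have hzO : z ∈ O := (hO z).2 ⟨1, one_smul _ _⟩
      rw [← hae, hN a ha, ← hz, hN z hzO]
      obtain ⟨γ, rfl⟩ := (hO a).1 ha
      rw [← Finset.card_image_of_injective (O.filter fun b => z * b ∈ O) (MulAction.injective γ)]
      refine congrArg Finset.card (Finset.ext fun b => ?_)
      simp only [Finset.mem_filter, Finset.mem_image]
      constructor
      · rintro ⟨hb, hab⟩
        refine ⟨γ⁻¹ • b, ⟨(hOinv _ _).2 hb, (hOinv γ _).1 ?_⟩, smul_inv_smul γ b⟩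
        rwa [smul_mul', smul_inv_smul]
      · rintro ⟨c, ⟨hc, hzc⟩, rfl⟩
        exact ⟨(hOinv _ _).2 hc, by rw [← smul_mul']; exact (hOinv _ _).2 hzc⟩

end orbit

end Cfsg.Agent.O8Standard47
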