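import Cfsg.Agent.O8Standard47.MemberData
import Cfsg.Agent.O8Standard47.Diag
import Cfsg.Agent.O8Standard47.Aut
import Cfsg.Agent.O8Standard47.Orbit

/-!
Membership of monomial matrices in `I` and `W` (helper97, for helper47's S3144).
-/

set_option autoImplicit false

namespace Cfsg.Agent.O8Standard47

open Cfsg.Agent.O8Two50 (UM unitY mtx entN lineP lineVec perm mtx_line cast_of_mod two_cast)
open Bridge (unitY_mem)

namespace Member

theorem wf_mem : ∀ w : List ℕ, w.all (fun k => decide (k < 15)) = true →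
    ∃ u ∈ I, u.val = mf (wf w).1 (wf w).2
  | [], _ => ⟨1, one_mem _, by rw [Units.val_one, wf, mf_one]⟩
  | k :: w, h => by
    rw [List.all_cons, Bool.and_eq_true, decide_eq_true_eq] at h
    obtain ⟨u, hu, e⟩ := wf_mem w h.2
    obtain ⟨r, -, hr⟩ := gen_ok ⟨k, h.1⟩
    refine ⟨unitY 0 r * u, mul_mem (unitY_mem 0 r) hu, ?_⟩
    have hg : (unitY 0 r).val = mf (pI (genPerm.getD k (0, 0, 0)).2.1)
        (bits (genPerm.getD k (0, 0, 0)).2.2) := funext fun a => funext fun b => hr (a, b)
    rw [Units.val_mul, hg, e, mf_mul]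
    rfl

theorem diagS_bits {v w : ℕ} (h : bits v = bits w) : diagS v = diagS w :=
  Units.ext (by rw [diagS_val, diagS_val, h])

theorem basis_mem (k : ℕ) (hk : k < 7) : diagS (2 ^ k + 128) ∈ I := by
  obtain ⟨e, hw, hv⟩ := diag_ok ⟨k, hk⟩
  obtain ⟨u, hu, hval⟩ := wf_mem _ hw
  have hv' : u.val = mf id (bits (2 ^ k + 128)) := by
    rw [hval, funext fun b => (hv b).1, funext fun b => (hv b).2, e]
    rfl
  exact (Units.ext (hv'.trans (diagS_val _).symm) : u = diagS (2 ^ k + 128)) ▸ hu

theorem fold_mem (v : ℕ) : ∀ (l : List ℕ), (∀ k ∈ l, k < 7) → ∀ m, diagS m ∈ I →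
    diagS (l.foldl (fun m k => bif v.testBit k then m ^^^ (2 ^ k + 128) else m) m) ∈ I
  | [], _, _, h => h
  | k :: l, hl, m, h => by
    rw [List.foldl_cons]
    refine fold_mem v l (fun x hx => hl x (List.mem_cons_of_mem _ hx)) _ ?_
    cases v.testBit k
    · exact h
    · rw [cond_true, ← diagS_mul]
      exact mul_mem h (basis_mem k (hl k List.mem_cons_self))

theorem evenB_congr {v w : ℕ} (h : bits v = bits w) : evenB v = evenB w := by
  have e : ∀ i : Fin 8, v.testBit i.val = w.testBit i.val := fun i => congrFun h i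
  simp only [evenB]
  rw [show v.testBit 0 = w.testBit 0 from e 0, show v.testBit 1 = w.testBit 1 from e 1,
    show v.testBit 2 = w.testBit 2 from e 2, show v.testBit 3 = w.testBit 3 from e 3,
    show v.testBit 4 = w.testBit 4 from e 4, show v.testBit 5 = w.testBit 5 from e 5,
    show v.testBit 6 = w.testBit 6 from e 6, show v.testBit 7 = w.testBit 7 from e 7]

end Member

open Member in
/-- The even sign changes lie in `I`. -/
theorem diagS_mem_I {v : ℕ} (h : evenB v = true) : diagS v ∈ I := by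
  have hb : bits (ofB (bits v)) = bits v := (ofB_spec _).1
  rw [← diagS_bits hb]
  have he : evenB (ofB (bits v)) = true := by rw [evenB_congr hb, h]
  have hs : evenSum (ofB (bits v)) = ofB (bits v) := evenSum_ok ⟨ofB (bits v), (ofB_spec _).2⟩ he
  rw [← hs]
  exact fold_mem _ _ (fun k hk => List.mem_range.1 hk) 0 (diagS_zero ▸ one_mem I)

theorem I_le_W : I ≤ W := le_sup_left

theorem wRefl_mem_W : wRefl ∈ W := (le_sup_right : Subgroup.zpowers wRefl ≤ W) (Subgroup.mem_zpowers _)

/-- The sign changes lie in `W`. -/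
theorem diagS_mem_W (v : ℕ) : diagS v ∈ W := by
  cases h : evenB v
  · have hv : evenB (v ^^^ 1) = true := by rw [evenB_xor, h]; decide
    have e : diagS v = diagS (v ^^^ 1) * wRefl := by
      rw [wRefl, diagS_mul, Nat.xor_assoc, Nat.xor_self, Nat.xor_zero]
    rw [e]
    exact mul_mem (I_le_W (diagS_mem_I hv)) wRefl_mem_W
  · exact I_le_W (diagS_mem_I h)

theorem wRefl_not_mem_I : wRefl ∉ I := by
  intro h
  haveI : Fact (Nat.Prime 2) := ⟨Nat.prime_two⟩
  have hd := Bridge.det_eq_one (F := ZMod 2) (ZMod.card 2) ⟨wRefl, h⟩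
  rw [show ((⟨wRefl, h⟩ : I) : UM) = wRefl from rfl, Bridge.wRefl_val, BridgeData.det_wMat] at hd
  exact absurd hd (by decide)

/-- `W = I ∪ wI`. -/
theorem mem_W_iff {u : UM} : u ∈ W ↔ u ∈ I ∨ wRefl * u ∈ I := by
  have hw := Bridge.wRefl_mul_self
  have hn := wRefl_normalizes
  let J : Subgroup UM :=
    { carrier := {u | u ∈ I ∨ wRefl * u ∈ I}
      one_mem' := Or.inl (one_mem _)
      mul_mem' := by
        rintro a b (ha | ha) (hb | hb)
        · exact Or.inl (mul_mem ha hb)
        · refine Or.inr ?_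
          rw [show wRefl * (a * b) = wRefl * a * wRefl * (wRefl * b) by
            simp only [mul_assoc]; rw [← mul_assoc wRefl wRefl, hw, one_mul]]
          exact mul_mem (hn a ha) hb
        · refine Or.inr ?_
          rw [← mul_assoc]
          exact mul_mem ha hb
        · refine Or.inl ?_
          rw [show a * b = wRefl * (wRefl * a) * wRefl * (wRefl * b) by
            simp only [mul_assoc]; rw [← mul_assoc wRefl wRefl, hw, one_mul, ← mul_assoc wRefl wRefl, hw,
              one_mul]]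
          exact mul_mem (hn _ ha) hb
      inv_mem' := by
        rintro a (ha | ha)
        · exact Or.inl (inv_mem ha)
        · refine Or.inr ?_
          have hi : wRefl⁻¹ = wRefl := inv_eq_of_mul_eq_one_right hw
          rw [show wRefl * a⁻¹ = wRefl * (wRefl * a)⁻¹ * wRefl by
            rw [_root_.mul_inv_rev, hi, mul_assoc, mul_assoc a⁻¹, hw, mul_one]]
          exact hn _ (inv_mem ha) }
  constructor
  · intro h
    have hle : W ≤ J := sup_le (fun x hx => Or.inl hx)
      (Subgroup.zpowers_le.2 (Or.inr (by rw [hw]; exact one_mem _)))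
    exact hle h
  · rintro (h | h)
    · exact I_le_W h
    · have := mul_mem wRefl_mem_W (I_le_W h)
      rwa [← mul_assoc, hw, one_mul] at this

namespace Member

/-- The affine map as a function on the coordinates. -/
def aff (a b c d : ℕ) (x : Fin 8) : Fin 8 := ⟨affN a b c d x.val % 8, Nat.mod_lt _ (by norm_num)⟩

theorem rep_mem (n : ℕ) (hn : n < 25) : ∃ u ∈ I, u.val = mf (pI (rc n)) fun _ => false := by
  obtain ⟨hw, he, hv⟩ := rep_ok ⟨n, hn⟩
  obtain ⟨u, hu, hval⟩ := wf_mem _ hw
  rw [funext fun b => (hv b).1, funext fun b => (hv b).2] at hval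
  refine ⟨u * diagS (repTab.getD n (0, 0, [])).2.1, mul_mem hu (diagS_mem_I he), ?_⟩
  rw [Units.val_mul, hval, diagS_val, mf_mul]
  congr 1
  funext b
  exact Bool.xor_self _

theorem aff_mem {a b c d : ℕ} (ha : a < 8) (hb : b < 8) (hc : c < 8) (hd : d < 8)
    (hv : validB a b c d = true) : ∃ u ∈ I, u.val = mf (aff a b c d) fun _ => false := by
  have h := affB_true
  simp only [affB, List.all_eq_true, List.mem_range, Bool.or_eq_true, Bool.not_eq_true',
    List.any_eq_true, Bool.and_eq_true, Nat.beq_eq] at h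
  obtain ⟨k, hk, -, l, hl, -, hx⟩ := (h a ha b hb c hc d hd).resolve_left (by rw [hv]; simp)
  set j := (a ^^^ b) - 1
  have hj : j < 7 := by
    have := Nat.xor_lt_two_pow (n := 3) ha hb
    omega
  obtain ⟨u1, h1, e1⟩ := rep_mem a (by omega)
  obtain ⟨u2, h2, e2⟩ := rep_mem (8 + j) (by omega)
  obtain ⟨u3, h3, e3⟩ := rep_mem (15 + k) (by omega)
  obtain ⟨u4, h4, e4⟩ := rep_mem (21 + l) (by omega)
  refine ⟨u1 * (u2 * (u3 * u4)), mul_mem h1 (mul_mem h2 (mul_mem h3 h4)), ?_⟩
  rw [Units.val_mul, Units.val_mul, Units.val_mul, e1, e2, e3, e4, mf_mul, mf_mul, mf_mul]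
  congr 1
  funext x
  refine Fin.ext ?_
  show quadN a j k l x.val = affN a b c d x.val % 8
  rw [← hx x.val x.isLt]
  exact (Nat.mod_mod _ 8).symm

/-- A block-preserving permutation is affine. -/
theorem pres_aff {p : Equiv.Perm (Fin 8)} (hp : PresBlocks p) (x : Fin 8) :
    ((p x : Fin 8) : ℕ) = affN (p 0 : Fin 8) (p 1 : Fin 8) (p 2 : Fin 8) (p 4 : Fin 8) x.val := by
  have key : ∀ a b c d : Fin 8, 2 ^ (a : ℕ) + (2 ^ (b : ℕ) + (2 ^ (c : ℕ) + 2 ^ (d : ℕ))) ∈ blockL →
      (d : ℕ) = (a : ℕ) ^^^ b ^^^ c := by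
    intro a b c d h
    have h4 := planeOK_true
    simp only [planeOK, List.all_eq_true, Bool.or_eq_true, Bool.not_eq_true', beq_iff_eq] at h4
    refine (h4 _ (mem_idx8 a.2) _ (mem_idx8 b.2) _ (mem_idx8 c.2) _ (mem_idx8 d.2)).resolve_left ?_
    rw [blkBits, Bool.not_eq_false, testBit_lBits]
    exact h
  have h15 := hp 15 (by decide)
  have h51 := hp 51 (by decide)
  have h85 := hp 85 (by decide)
  have h150 := hp 150 (by decide)
  rw [pm8_eq] at h15 h51 h85 h150
  simp [pm8, Nat.testBit, Nat.shiftRight_eq_div_pow] at h15 h51 h85 h150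
  have e3 := key _ _ _ _ h15
  have e5 := key _ _ _ _ h51
  have e6 := key _ _ _ _ h85
  have e7 := key _ _ _ _ h150
  have fin : ∀ a b c d : Fin 8,
      affN a b c d 0 = a.val ∧ affN a b c d 1 = b.val ∧ affN a b c d 2 = c.val ∧
      affN a b c d 3 = a.val ^^^ b.val ^^^ c.val ∧ affN a b c d 4 = d.val ∧
      affN a b c d 5 = a.val ^^^ b.val ^^^ d.val ∧ affN a b c d 6 = a.val ^^^ c.val ^^^ d.val ∧
      affN a b c d 7 = b.val ^^^ c.val ^^^ d.val := by decide +kernel
  obtain ⟨f0, f1, f2, f3, f4, f5, f6, f7⟩ := fin (p 0) (p 1) (p 2) (p 4)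
  fin_cases x
  · exact f0.symm
  · exact f1.symm
  · exact f2.symm
  · exact e3.trans f3.symm
  · exact f4.symm
  · exact e5.trans f5.symm
  · exact e6.trans f6.symm
  · exact e7.trans f7.symm

theorem pres_valid {p : Equiv.Perm (Fin 8)} (hp : PresBlocks p) :
    validB (p 0 : Fin 8) (p 1 : Fin 8) (p 2 : Fin 8) (p 4 : Fin 8) = true := by
  have h := frame_distinct hp
  have hb : ∀ m n : ℕ, Nat.beq m n = (m == n) := fun m n => by
    rw [Bool.eq_iff_iff, Nat.beq_eq, beq_iff_eq]
  simp only [validB, hb, h, Bool.not_false]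

theorem mono_zero_mem {p : Equiv.Perm (Fin 8)} (hp : PresBlocks p) :
    ∃ u ∈ I, u.val = mf p fun _ => false := by
  obtain ⟨u, hu, e⟩ := aff_mem (p 0).isLt (p 1).isLt (p 2).isLt (p 4).isLt (pres_valid hp)
  refine ⟨u, hu, e.trans ?_⟩
  congr 1
  funext x
  refine Fin.ext ?_
  show affN _ _ _ _ x.val % 8 = ((p x : Fin 8) : ℕ)
  rw [← pres_aff hp x, Nat.mod_eq_of_lt (p x).isLt]

theorem mono_eq_mul {p : Equiv.Perm (Fin 8)} {u : UM} (e : u.val = mf p fun _ => false) (v : ℕ) :
    mono p v = u * diagS v := by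
  refine Units.ext ?_
  rw [Units.val_mul, e, diagS_val, mf_mul, mono_val]
  congr 1
  funext b
  exact (Bool.false_xor _).symm

end Member

open Member in
/-- Monomial matrices of `I`. -/
theorem mono_mem_I {p : Equiv.Perm (Fin 8)} (hp : PresBlocks p) {v : ℕ} (h : evenB v = true) :
    mono p v ∈ I := by
  obtain ⟨u, hu, e⟩ := mono_zero_mem hp
  rw [mono_eq_mul e]
  exact mul_mem hu (diagS_mem_I h)

open Member in
/-- Monomial matrices of `W`. -/
theorem mono_mem_W {p : Equiv.Perm (Fin 8)} (hp : PresBlocks p) (v : ℕ) : mono p v ∈ W := by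
  obtain ⟨u, hu, e⟩ := mono_zero_mem hp
  rw [mono_eq_mul e]
  exact mul_mem (I_le_W hu) (diagS_mem_W v)

open Member in
/-- The even part of the Sylow subgroup lies in `I`. -/
theorem sylI {u : UM} (hu : u ∈ Syl) {i v : ℕ} (hi : i < 64) (e : u.val = sm i v)
    (hv : evenB v = true) : u ∈ I := by
  obtain ⟨hval, hx⟩ := syl_aff ⟨i, hi⟩
  have hlt : ∀ c x, pN c x < 8 := fun c x => Nat.mod_lt _ (by norm_num)
  obtain ⟨w, hw, ew⟩ := aff_mem (a := pN (sy i) 0) (b := pN (sy i) 1) (c := pN (sy i) 2)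
    (d := pN (sy i) 4) (hlt _ _) (hlt _ _) (hlt _ _) (hlt _ _) hval
  have hf : aff (pN (sy i) 0) (pN (sy i) 1) (pN (sy i) 2) (pN (sy i) 4) = pI (sy i) := by
    funext x
    refine Fin.ext ?_
    show affN _ _ _ _ x.val % 8 = pN (sy i) x.val
    rw [← hx x]
    exact Nat.mod_mod _ 8
  rw [hf] at ew
  have : u = w * diagS v := by
    refine Units.ext ?_
    rw [e, sm, cm, Units.val_mul, ew, diagS_val, mf_mul]
    congr 1
    funext b
    exact (Bool.false_xor _).symm
  rw [this]
  exact mul_mem hw (diagS_mem_I hv)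

/-- Elements of `W` are orthogonal. -/
theorem orth_of_mem_W {u : UM} (h : u ∈ W) : u.val * u.val.transpose = 1 := by
  let O : Subgroup UM :=
    { carrier := {u | u.val * u.val.transpose = 1}
      one_mem' := by simp
      mul_mem' := by
        intro a b ha hb
        show (a * b).val * (a * b).val.transpose = 1
        rw [Units.val_mul, Matrix.transpose_mul, Matrix.mul_assoc, ← Matrix.mul_assoc b.val,
          show b.val * b.val.transpose = 1 from hb, Matrix.one_mul]
        exact ha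
      inv_mem' := by
        intro a ha
        show (a⁻¹).val * (a⁻¹).val.transpose = 1
        have e : (a⁻¹).val = a.val.transpose := by
          refine Units.inv_eq_of_mul_eq_one_right ?_
          exact ha
        rw [e, Matrix.transpose_transpose]
        exact mul_eq_one_comm.1 (show a.val * a.val.transpose = 1 from ha) }
  have hI : I ≤ O := by
    refine (Subgroup.closure_le _).2 ?_
    rintro _ ⟨r, rfl⟩
    show mtx 0 r * (mtx 0 r).transpose = 1
    rw [show (mtx 0 r).transpose = mtx 0 r from funext fun a => funext fun b => Member.mtx_symm r (b, a)]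
    exact O8Two50.mtx_mul_self 0 r
  have hw : wRefl ∈ O := monoMat_mul_transpose 1 1
  exact (sup_le hI (Subgroup.zpowers_le.2 hw) : W ≤ O) h

namespace Member

/-- Lines go to lines. -/
def LinePres (u : UM) : Prop :=
  ∀ i : Fin 120, ∃ (j : Fin 120) (c : ZMod 3), (c = 1 ∨ c = -1) ∧ u.val.mulVec (lineVec i) = c • lineVec j

theorem linePres_mul {a b : UM} (ha : LinePres a) (hb : LinePres b) : LinePres (a * b) := by
  intro i
  obtain ⟨j, c, hc, e⟩ := hb i
  obtain ⟨k, d, hd, e'⟩ := ha j
  refine ⟨k, c * d, by rcases hc with rfl | rfl <;> rcases hd with rfl | rfl <;> simp, ?_⟩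
  rw [Units.val_mul, ← Matrix.mulVec_mulVec, e, Matrix.mulVec_smul, e', smul_smul]

theorem linePres_w : LinePres wRefl := by
  intro i
  obtain ⟨j, hj⟩ := wline_ok i
  have key : ∀ a : Fin 8, (wRefl.val.mulVec (lineVec i)) a =
      (((bif Nat.beq a.val 0 then 2 * entN (lineP i.val) a.val else entN (lineP i.val) a.val) : ℕ) :
        ZMod 3) := by
    intro a
    rw [Bridge.wRefl_val, BridgeData.wMat, Matrix.mulVec_diagonal]
    show (if a = 0 then (-1 : ZMod 3) else 1) * (entN (lineP i.val) a.val : ZMod 3) = _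
    by_cases h : a = 0
    · subst h
      rw [if_pos rfl, show Nat.beq ((0 : Fin 8) : ℕ) 0 = true from rfl, cond_true, two_cast,
        neg_one_mul]
    · rw [if_neg h, one_mul, show Nat.beq a.val 0 = false by
        rw [Bool.eq_false_iff]; exact fun e => h (Fin.ext (Nat.eq_of_beq_eq_true e)), cond_false]
  rcases hj with hj | hj
  · exact ⟨j, 1, Or.inl rfl, funext fun a => by rw [key, one_smul, cast_of_mod (hj a)]; rfl⟩
  · refine ⟨j, -1, Or.inr rfl, funext fun a => ?_⟩
    rw [key, cast_of_mod (hj a), two_cast, Pi.smul_apply, neg_one_smul]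
    rfl

theorem linePres_of_mem {u : UM} (h : u ∈ W) : LinePres u := by
  let P : Subgroup UM :=
    { carrier := {u | LinePres u ∧ LinePres u⁻¹}
      one_mem' := by
        have h1 : LinePres 1 := fun i => ⟨i, 1, Or.inl rfl, by simp⟩
        exact ⟨h1, by rwa [inv_one]⟩
      mul_mem' := fun ha hb => ⟨linePres_mul ha.1 hb.1, by
        rw [_root_.mul_inv_rev]; exact linePres_mul hb.2 ha.2⟩
      inv_mem' := fun ha => ⟨ha.2, by rw [inv_inv]; exact ha.1⟩ }
  have hI : I ≤ P := by
    refine (Subgroup.closure_le _).2 ?_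
    rintro _ ⟨r, rfl⟩
    have h1 : LinePres (unitY 0 r) := fun i => by
      obtain ⟨c, hc, e⟩ := mtx_line 0 r i
      exact ⟨perm 0 r i, c, hc, e⟩
    exact ⟨h1, h1⟩
  have hi : wRefl⁻¹ = wRefl := inv_eq_of_mul_eq_one_right Bridge.wRefl_mul_self
  have hw : wRefl ∈ P := ⟨linePres_w, by rw [hi]; exact linePres_w⟩
  exact ((sup_le hI (Subgroup.zpowers_le.2 hw) : W ≤ P) h).1

theorem permMask_lt (p : Equiv.Perm (Fin 8)) (v : ℕ) : permMask p v < 256 := by
  let s : Finset ℕ := ((Finset.univ.filter fun j : Fin 8 => v.testBit j = true).map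
    ⟨fun j => ((p j : Fin 8) : ℕ), Fin.val_injective.comp p.injective⟩)
  have e : permMask p v = ∑ k ∈ s, 2 ^ k := by
    rw [Finset.sum_map, Finset.sum_filter, Fin.sum_univ_eight, pm8_eq]
    simp [pm8, Bool.cond_eq_ite, add_assoc]
  have hs : s ⊆ Finset.range 8 := fun k hk => by
    obtain ⟨j, -, rfl⟩ := Finset.mem_map.1 hk
    exact Finset.mem_range.2 (p j).isLt
  rw [e]
  exact (Finset.sum_le_sum_of_subset hs).trans_lt (by decide)

theorem suppL_bits (i : Fin 120) (a : Fin 8) : bits (suppL i) a = true ↔ lineVec i a ≠ 0 := by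
  rw [suppL, (ofB_spec _).1]
  show (!(Nat.beq (entN (lineP i.val) a.val % 3) 0)) = true ↔ ((entN (lineP i.val) a.val : ℕ) : ZMod 3) ≠ 0
  rw [Bool.not_eq_true', Ne, ZMod.natCast_eq_zero_iff, Nat.dvd_iff_mod_eq_zero, Bool.eq_false_iff,
    Ne, Nat.beq_eq]

end Member

open Member in
/-- A monomial element of `W` preserves the blocks. -/
theorem presBlocks_of_mem_W {u : UM} (hu : u ∈ W) {p : Equiv.Perm (Fin 8)} {s : Fin 8 → Bool}
    (e : u.val = mf p s) : PresBlocks p := by
  intro b hb
  obtain ⟨hb256, i, rfl⟩ := block_line b hb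
  obtain ⟨j, c, hc, hj⟩ := linePres_of_mem hu i
  have hbit : ∀ x : Fin 8, bits (suppL j) (p x) = bits (suppL i) x := by
    intro x
    rw [Bool.eq_iff_iff, suppL_bits, suppL_bits]
    have h1 := congrFun hj (p x)
    rw [e, Matrix.mulVec, dotProduct, Finset.sum_eq_single x (fun y _ hy => by
      simp [mf, p.injective.ne (Ne.symm hy)]) (fun h => absurd (Finset.mem_univ x) h)] at h1
    simp only [mf, if_true, Pi.smul_apply, smul_eq_mul] at h1
    have key : ∀ y z c : ZMod 3, ∀ q : Bool, (c = 1 ∨ c = -1) →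
        (bif q then -1 else 1) * y = c * z → (z ≠ 0 ↔ y ≠ 0) := by decide
    exact key _ _ _ _ hc h1
  have h4 : suppL j ∈ blockL := by
    refine supp_four j ?_
    rw [← blockL_card _ hb]
    refine (Finset.card_equiv p fun x => ?_).symm
    simp [hbit]
  have hlt := permMask_lt p (suppL i)
  have heq : permMask p (suppL i) = suppL j := by
    refine bits_inj hlt (ofB_spec _).2 (funext fun y => ?_)
    obtain ⟨x, rfl⟩ := p.surjective y
    rw [hbit]
    exact testBit_permMask p _ x
  rw [heq]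
  exact h4

end Cfsg.Agent.O8Standard47
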