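import Cfsg.Agent.O8Standard47.ChecksData
import Cfsg.Agent.O8Standard47.Member

/-!
Involutions and elementary abelian subgroups of the Sylow subgroup of `W(E8)`: every involution is
conjugate into the sign changes, and the large elementary abelian subgroups are diagonal or `P1`.
-/

set_option autoImplicit false
set_option maxRecDepth 100000

namespace Cfsg.Agent.O8Standard47

open Matrix
open Cfsg.Agent.O8Two50 (UM unitY mtx entN mulN matP mulN_cast cast_of_mod)

theorem pI_val (c : ℕ) (b : Fin 8) : (pI c b : ℕ) = img c b.val := rfl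

/-- The permutation of an injective code. -/
theorem exists_perm_code {c : ℕ} (h : presC c = true) :
    ∃ p : Equiv.Perm (Fin 8), PresBlocks p ∧ ⇑p = pI c := by
  simp only [presC, Bool.and_eq_true, List.all_eq_true, List.mem_range, Bool.or_eq_true,
    Bool.not_eq_true'] at h
  have hinj : Function.Injective (pI c) := fun a b e => Fin.ext (by
    rcases h.1 a.val a.isLt b.val b.isLt with h1 | h1
    · have h2 : Nat.beq (img c a.val) (img c b.val) = true := by
        rw [Nat.beq_eq, ← pI_val, ← pI_val, e]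
      rw [h2] at h1
      exact absurd h1 (by simp)
    · exact Nat.eq_of_beq_eq_true h1)
  refine ⟨Equiv.ofBijective _ (Finite.injective_iff_bijective.1 hinj), ?_, rfl⟩
  intro b hb
  have hl : permList (Equiv.ofBijective _ (Finite.injective_iff_bijective.1 hinj)) = imgL c := rfl
  rw [permMask, hl]
  exact List.contains_iff_mem.1 (h.2 b hb)

/-- A monomial matrix of a block-preserving code lies in `W`. -/
theorem exists_code_mem_W {c : ℕ} (h : presC c = true) (v : ℕ) : ∃ u ∈ W, u.val = cm c v := by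
  obtain ⟨p, hp, hc⟩ := exists_perm_code h
  refine ⟨mono p v, mono_mem_W hp v, ?_⟩
  rw [mono_val, hc]
  rfl

theorem Syl_le_W : Syl ≤ W := by
  rintro u ⟨i, hi, v, -, hu⟩
  have h := sylPres_true
  simp only [sylPres, List.all_eq_true, List.mem_range] at h
  obtain ⟨w, hw, hv⟩ := exists_code_mem_W (h i hi) v
  rwa [show u = w from Units.ext (by rw [hu, hv]; rfl)]

/-- A packed matrix. -/
def pMat (P : ℕ) : Matrix (Fin 8) (Fin 8) (ZMod 3) := fun a b => (entN P (8 * a + b) : ZMod 3)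

theorem mtx_eq_pMat (r : Fin 24) : mtx 0 r = pMat (matP 0 r) := rfl

theorem pMat_mul {P Q R : ℕ} (h : prodOK P Q R = true) : pMat P * pMat Q = pMat R := by
  simp only [prodOK, List.all_eq_true, List.mem_range, Nat.beq_eq] at h
  ext a b
  show _ = (entN R (8 * a + b) : ZMod 3)
  rw [Matrix.mul_apply]
  exact (mulN_cast P Q a b).symm.trans (cast_of_mod (h a.val a.isLt b.val b.isLt))

theorem pMat_cm {A c v : ℕ} (h : ∀ a < 8, ∀ b < 8, entN A (8 * a + b) % 3 =
    bif Nat.beq a (img c b) then (bif v.testBit b then 2 else 1) else 0) : pMat A = cm c v := by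
  ext a b
  show (entN A (8 * a + b) : ZMod 3) = _
  rw [← ZMod.natCast_mod, h a.val a.isLt b.val b.isLt]
  have hb : Nat.beq a.val (img c b.val) = decide (a = pI c b) := by
    rw [← pI_val, Bool.eq_iff_iff, Nat.beq_eq, decide_eq_true_eq, Fin.val_inj]
  rw [hb]
  simp only [cm, mf, bits]
  by_cases e : a = pI c b
  · rw [decide_eq_true e, if_pos e, cond_true]
    cases v.testBit b.val <;> decide
  · rw [decide_eq_false e, if_neg e, cond_false, Nat.cast_zero]

theorem chain_conj : ∀ (st : List (ℕ × ℕ × ℕ)) (A m : ℕ), stepsB A st m = true →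
    ∀ x : UM, x.val = pMat A → ∃ g ∈ W, g * x * g⁻¹ = diagS m
  | [], A, m, h, x, hx => by
    simp only [stepsB, List.all_eq_true, List.mem_range, Nat.beq_eq] at h
    refine ⟨1, one_mem _, ?_⟩
    rw [one_mul, inv_one, mul_one]
    refine Units.ext ?_
    rw [hx, diagS_val]
    ext a b
    show (entN A (8 * a + b) : ZMod 3) = _
    rw [← ZMod.natCast_mod, h a.val a.isLt b.val b.isLt]
    by_cases e : a = b
    · subst e
      simp only [mf, bits, Nat.beq_refl, cond_true, id, if_true]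
      cases m.testBit a.val <;> decide
    · rw [show Nat.beq a.val b.val = false by
        rw [Bool.eq_false_iff]; exact fun h' => e (Fin.ext (Nat.eq_of_beq_eq_true h')), cond_false]
      simp [mf, e]
  | (r, T, A') :: st, A, m, h, x, hx => by
    simp only [stepsB, Bool.and_eq_true, Nat.blt_eq] at h
    obtain ⟨⟨⟨hr, h1⟩, h2⟩, h3⟩ := h
    set y := unitY 0 ⟨r, hr⟩ with hy
    have hyv : y.val = pMat (matP 0 r) := rfl
    have hinv : y⁻¹ = y := inv_eq_of_mul_eq_one_right (Units.ext (O8Two50.mtx_mul_self 0 _))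
    have hx' : (y * x * y⁻¹).val = pMat A' := by
      rw [hinv, Units.val_mul, Units.val_mul, hyv, hx, pMat_mul h1, pMat_mul h2]
    obtain ⟨g, hg, e⟩ := chain_conj st A' m h3 _ hx'
    refine ⟨g * y, mul_mem hg (I_le_W (Bridge.unitY_mem 0 _)), ?_⟩
    rw [← e, _root_.mul_inv_rev]
    simp only [mul_assoc]

theorem eq_zero_of_pull {i v : ℕ} (hi : i < 64) (hv : v < 256) {u : UM} (e : u.val = sm i v)
    (h : u * u = 1) : si i i = 0 ∧ pull v (sy i) = v := by
  have h1 := congrArg Units.val h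
  rw [Units.val_mul, e, sm_mul hi hi, Units.val_one, ← sm_zero] at h1
  obtain ⟨a, b⟩ := sm_inj ((syl_checks.1 i hi i hi).1) (by norm_num) (xor_lt (pull_lt _ _) hv) (by norm_num) h1
  exact ⟨a, Nat.xor_eq_zero_iff.1 b⟩

theorem sm_zero_val {u : UM} {v : ℕ} (e : u.val = sm 0 v) : u = diagS v := by
  refine Units.ext ?_
  rw [e, sm, cm, diagS_val, show pI (sy 0) = id from funext syl_checks.2.2.1]

theorem involution_diag {u : UM} (hu : u ∈ Syl) (h : u * u = 1) :
    ∃ g ∈ W, ∃ v < 256, g * u * g⁻¹ = diagS v := by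
  obtain ⟨i, hi, v, hv, e⟩ := hu
  by_cases hi0 : i = 0
  · subst hi0
    exact ⟨1, one_mem _, v, hv, by rw [one_mul, inv_one, mul_one]; exact sm_zero_val e⟩
  obtain ⟨hsi, hp⟩ := eq_zero_of_pull hi hv e h
  have hkey : i * 256 + v ∈ invKeys := by
    refine List.mem_flatMap.2 ⟨i, List.mem_range.2 hi, ?_⟩
    rw [show (Nat.beq i 0 || !(Nat.beq (si i i) 0)) = false by
      rw [hsi, Bool.or_eq_false_iff]
      exact ⟨Bool.eq_false_iff.2 fun h' => hi0 (Nat.eq_of_beq_eq_true h'), rfl⟩, cond_false]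
    refine List.mem_map.2 ⟨v, List.mem_filter.2 ⟨List.mem_range.2 hv, ?_⟩, rfl⟩
    rw [Nat.beq_eq]; exact hp
  rw [invKeys_eq, List.mem_map] at hkey
  obtain ⟨ent, hent, he⟩ := hkey
  have hall := conjOK_true
  rw [conjOK, List.all_eq_true] at hall
  have hok := hall ent hent
  rw [he] at hok
  generalize hk : (ent.2 - 1) % 8 = k at hok
  generalize hw : (ent.2 - 1) / 8 % 256 = w at hok
  generalize hh : aglTab.getD ((ent.2 - 1) / 2048) 0 = c at hok
  have hdiv : (i * 256 + v) / 256 = i := by omega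
  have hmod : (i * 256 + v) % 256 = v := by omega
  simp only [entryOK, hdiv, hmod, Bool.and_eq_true, Nat.blt_eq, List.all_eq_true, List.mem_range,
    Nat.beq_eq] at hok
  obtain ⟨⟨⟨hpres, hk8⟩, himg⟩, hx⟩ := hok
  obtain ⟨g, hg, hgv⟩ := exists_code_mem_W hpres w
  have hch := chainOK_true
  simp only [chainOK, List.all_eq_true, List.mem_range, Bool.and_eq_true, Nat.blt_eq,
    Nat.beq_eq] at hch
  obtain ⟨⟨hA, hm⟩, hst⟩ := hch k hk8
  have hconj : (g * u * g⁻¹).val = cm (clsC k) (clsV k) := by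
    have h1 : (g * u).val = cm (clsC k) (clsV k) * g.val := by
      rw [Units.val_mul, hgv, e, sm, cm, cm, cm, mf_mul, mf_mul]
      congr 1
      · funext b
        refine Fin.ext ?_
        exact himg b.val b.isLt
      · have hb := congrArg bits hx
        rw [bits_xor, bits_xor, pull, (ofB_spec _).1, pull, (ofB_spec _).1] at hb
        exact hb
    rw [Units.val_mul, h1, mul_assoc, ← Units.val_mul, mul_inv_cancel, Units.val_one, mul_one]
  obtain ⟨g', hg', e'⟩ := chain_conj _ _ _ hst (g * u * g⁻¹)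
    (hconj.trans (pMat_cm hA).symm)
  refine ⟨g' * g, mul_mem hg' hg, _, hm, ?_⟩
  rw [← e', _root_.mul_inv_rev]
  simp only [mul_assoc]

theorem testBit_grow (M i x : ℕ) :
    (grow M i).testBit x = true ↔ M.testBit x = true ∨ ∃ j ∈ subL M, si i j = x := by
  rw [grow]
  generalize subL M = L
  suffices ∀ a : ℕ, ((L.foldl (fun a j => a ||| 2 ^ si i j) a).testBit x = true ↔
      a.testBit x = true ∨ ∃ j ∈ L, si i j = x) from this M
  induction L with
  | nil => simp
  | cons j L ih =>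
    intro a
    rw [List.foldl_cons, ih, Nat.testBit_or, Bool.or_eq_true, Nat.testBit_two_pow, decide_eq_true_eq,
      or_assoc, List.exists_mem_cons_iff]

theorem grow_ge (M i : ℕ) : M ≤ grow M i := by
  rw [grow]
  generalize subL M = L
  suffices ∀ a : ℕ, M ≤ a → M ≤ L.foldl (fun a j => a ||| 2 ^ si i j) a from this M le_rfl
  induction L with
  | nil => simp
  | cons j L ih => exact fun a ha => ih _ (ha.trans Nat.left_le_or)

theorem si_zero_right {i : ℕ} (hi : i < 64) : si i 0 = i := by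
  refine syl_checks.2.2.2 _ (syl_checks.1 i hi 0 (by norm_num)).1 i hi fun b => ?_
  rw [(syl_checks.1 i hi 0 (by norm_num)).2, syl_checks.2.2.1]

/-- A commuting set of involutions, closed under products, is listed. -/
theorem exists_subTab {Q : ℕ → Prop} (h0 : Q 0) (hlt : ∀ i, Q i → i < 64)
    (hmul : ∀ i j, Q i → Q j → Q (si i j)) (hsq : ∀ i, Q i → si i i = 0)
    (hcomm : ∀ i j, Q i → Q j → si i j = si j i) :
    ∃ M ∈ subTab, ∀ i, i ∈ subL M ↔ Q i := by
  classical
  have h := subOK_true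
  simp only [subOK, Bool.and_eq_true, List.contains_iff_mem, List.all_eq_true, List.mem_range,
    Bool.or_eq_true] at h
  let S := subTab.toFinset.filter fun M => ∀ i < 64, M.testBit i = true → Q i
  have h1 : (1 : ℕ) ∈ S := Finset.mem_filter.2 ⟨List.mem_toFinset.2 h.1, fun i _ hi => by
    have hi0 : i = 0 := by
      rw [show (1 : ℕ) = 2 ^ 0 from rfl, Nat.testBit_two_pow, decide_eq_true_eq] at hi
      exact hi.symm
    rw [hi0]; exact h0⟩
  obtain ⟨M, hM, hmax⟩ := S.exists_max_image id ⟨1, h1⟩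
  obtain ⟨hMT, hMQ⟩ := Finset.mem_filter.1 hM
  rw [List.mem_toFinset] at hMT
  refine ⟨M, hMT, fun i => ⟨fun hi => ?_, fun hi => ?_⟩⟩
  · obtain ⟨hi1, hi2⟩ := List.mem_filter.1 hi
    exact hMQ i (List.mem_range.1 hi1) hi2
  · refine List.mem_filter.2 ⟨List.mem_range.2 (hlt i hi), ?_⟩
    by_contra hne
    obtain ⟨hM0, hstep⟩ := h.2 M hMT
    rcases hstep i (hlt i hi) with ((h' | h') | h') | h'
    · exact hne h'
    · rw [hsq i hi] at h'; simp at h'
    · rw [Bool.not_eq_true', List.all_eq_false] at h'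
      obtain ⟨j, hj, hne'⟩ := h'
      obtain ⟨hj1, hj2⟩ := List.mem_filter.1 hj
      exact hne' (Nat.beq_eq.mpr (hcomm i j hi (hMQ j (List.mem_range.1 hj1) hj2)))
    · have hb : (grow M i).testBit i = true :=
        (testBit_grow M i i).2 (Or.inr ⟨0, List.mem_filter.2 ⟨List.mem_range.2 (by norm_num), hM0⟩,
          si_zero_right (hlt i hi)⟩)
      have hS : grow M i ∈ S := by
        refine Finset.mem_filter.2 ⟨List.mem_toFinset.2 h'.2, fun x hx hxb => ?_⟩
        rcases (testBit_grow M i x).1 hxb with hx' | ⟨j, hj, rfl⟩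
        · exact hMQ x hx hx'
        · obtain ⟨hj1, hj2⟩ := List.mem_filter.1 hj
          exact hmul i j hi (hMQ j (List.mem_range.1 hj1) hj2)
      have := le_antisymm (hmax _ hS) (grow_ge M i)
      simp only [id] at this
      rw [this] at hb
      exact hne hb

/-- The permutations under an elementary abelian subgroup and the bound on its order. -/
theorem elem_bound {P : Subgroup UM} (hP : P ≤ Syl) (h2 : ∀ x ∈ P, x * x = 1) :
    ∃ M ∈ subTab, (∀ i, i ∈ subL M ↔ ∃ u ∈ P, ∃ v < 256, i < 64 ∧ u.val = sm i v) ∧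
      ∀ (F : ℕ → Prop) [DecidablePred F],
        (∀ w < 256, diagS w ∈ P → F w) →
        Nat.card P ≤ (subL M).length * ((fixL M).filter fun w => decide (F w)).length := by
  classical
  have hcm : ∀ a ∈ P, ∀ b ∈ P, a * b = b * a := fun a ha b hb => by
    have hi : ∀ c ∈ P, c⁻¹ = c := fun c hc => inv_eq_of_mul_eq_one_right (h2 c hc)
    calc a * b = (a * b)⁻¹ := (hi _ (mul_mem ha hb)).symm
      _ = b * a := by rw [_root_.mul_inv_rev, hi a ha, hi b hb]
  have hprod : ∀ a b : UM, ∀ i j v w : ℕ, i < 64 → j < 64 → a.val = sm i v → b.val = sm j w →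
      (a * b).val = sm (si i j) (pull v (sy j) ^^^ w) := fun a b i j v w hi hj ha hb => by
    rw [Units.val_mul, ha, hb, sm_mul hi hj]
  let Q := fun i => ∃ u ∈ P, ∃ v < 256, i < 64 ∧ u.val = sm i v
  obtain ⟨M, hM, hMQ⟩ := exists_subTab (Q := Q)
    ⟨1, one_mem _, 0, by norm_num, by norm_num, by rw [Units.val_one, sm_zero]⟩
    (fun i ⟨_, _, _, _, hi, _⟩ => hi)
    (fun i j ⟨a, ha, v, hv, hi, ea⟩ ⟨b, hb, w, hw, hj, eb⟩ => ⟨a * b, mul_mem ha hb, _,
      xor_lt (pull_lt _ _) hw, (syl_checks.1 i hi j hj).1, hprod a b i j v w hi hj ea eb⟩)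
    (fun i ⟨a, ha, v, hv, hi, ea⟩ => (eq_zero_of_pull hi hv ea (h2 a ha)).1)
    (fun i j ⟨a, ha, v, hv, hi, ea⟩ ⟨b, hb, w, hw, hj, eb⟩ => by
      have h1 := hprod a b i j v w hi hj ea eb
      rw [hcm a ha b hb, hprod b a j i w v hj hi eb ea] at h1
      exact (sm_inj (syl_checks.1 j hj i hi).1 (syl_checks.1 i hi j hj).1 (xor_lt (pull_lt _ _) hv)
        (xor_lt (pull_lt _ _) hw) h1).1.symm)
  refine ⟨M, hM, hMQ, fun F _ hF => ?_⟩
  set L := (fixL M).filter fun w => decide (F w)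
  have key : ∀ x : P, ∃ i v, i < 64 ∧ v < 256 ∧ x.1.val = sm i v := fun x => by
    obtain ⟨i, hi, v, hv, e⟩ := hP x.2
    exact ⟨i, v, hi, hv, e⟩
  choose fi fv hfi hfv hfe using key
  have hbase : ∀ i, i ∈ subL M → ∃ u ∈ P, ∃ v < 256, i < 64 ∧ u.val = sm i v := fun i hi => (hMQ i).1 hi
  choose bu hbu bv hbv hb64 hbe using hbase
  have hmem : ∀ x : P, fi x ∈ subL M := fun x =>
    (hMQ _).2 ⟨x.1, x.2, fv x, hfv x, hfi x, hfe x⟩
  have hdiag : ∀ x : P, bv _ (hmem x) ^^^ fv x ∈ L := fun x => by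
    set i := fi x
    set v0 := bv i (hmem x) with hv0
    obtain ⟨s1, s2⟩ := eq_zero_of_pull (hb64 i (hmem x)) (hbv i (hmem x)) (hbe i (hmem x))
      (h2 _ (hbu i (hmem x)))
    have e : (bu i (hmem x) * x.1).val = sm 0 (v0 ^^^ fv x) := by
      rw [hprod _ _ i i v0 (fv x) (hfi x) (hfi x) (hbe i (hmem x)) (hfe x), s1, s2]
    have hlt : v0 ^^^ fv x < 256 := xor_lt (hbv i (hmem x)) (hfv x)
    have hin : diagS (v0 ^^^ fv x) ∈ P := by
      rw [← sm_zero_val e]; exact mul_mem (hbu i (hmem x)) x.2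
    refine List.mem_filter.2 ⟨List.mem_filter.2 ⟨List.mem_range.2 hlt, ?_⟩,
      decide_eq_true (hF _ hlt hin)⟩
    rw [List.all_eq_true]
    intro j hj
    rw [Nat.beq_eq]
    have hz : pull (bv j hj) (sy 0) = bv j hj := bits_inj (pull_lt _ _) (hbv j hj)
      (by rw [pull, (ofB_spec _).1]; funext b; rw [syl_checks.2.2.1])
    have h1 := hprod _ _ 0 j (v0 ^^^ fv x) (bv j hj) (by norm_num) (hb64 j hj) e (hbe j hj)
    rw [hcm _ (mul_mem (hbu i (hmem x)) x.2) _ (hbu j hj),
      hprod _ _ j 0 (bv j hj) (v0 ^^^ fv x) (hb64 j hj) (by norm_num) (hbe j hj) e, hz] at h1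
    have h3 := (sm_inj (syl_checks.1 j (hb64 j hj) 0 (by norm_num)).1
      (syl_checks.1 0 (by norm_num) j (hb64 j hj)).1 (xor_lt (hbv j hj) hlt)
      (xor_lt (pull_lt _ _) (hbv j hj)) h1).2
    rw [Nat.xor_comm] at h3
    exact (Nat.xor_left_injective h3).symm
  let f : P → ((subL M).toFinset × L.toFinset) := fun x =>
    (⟨fi x, List.mem_toFinset.2 (hmem x)⟩, ⟨_, List.mem_toFinset.2 (hdiag x)⟩)
  have hf : Function.Injective f := by
    intro x y hxy
    simp only [f, Prod.mk.injEq, Subtype.mk.injEq] at hxy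
    obtain ⟨e1, e2⟩ := hxy
    have hb' : ∀ i j (hi : i ∈ subL M) (hj : j ∈ subL M), i = j → bv i hi = bv j hj := by
      intro i j hi hj e; subst e; rfl
    rw [hb' _ _ (hmem x) (hmem y) e1] at e2
    exact Subtype.ext (Units.ext (by rw [hfe x, hfe y, e1, Nat.xor_right_injective e2]))
  refine (Nat.card_le_card_of_injective f hf).trans ?_
  rw [Nat.card_prod, Nat.card_eq_finsetCard, Nat.card_eq_finsetCard]
  exact Nat.mul_le_mul (List.toFinset_card_le _) (List.toFinset_card_le _)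

theorem diag_of_one {P : Subgroup UM} (hP : P ≤ Syl)
    (h : ∀ i, i ∈ subL 1 ↔ ∃ u ∈ P, ∃ v < 256, i < 64 ∧ u.val = sm i v) :
    ∀ x ∈ P, ∃ v < 256, x = diagS v := by
  intro x hx
  obtain ⟨i, hi, v, hv, e⟩ := hP hx
  have h1 := (h i).2 ⟨x, hx, v, hv, hi, e⟩
  rw [show subL 1 = [0] by decide, List.mem_singleton] at h1
  subst h1
  exact ⟨v, hv, sm_zero_val e⟩

theorem elem_diag {P : Subgroup UM} (hP : P ≤ Syl) (h2 : ∀ x ∈ P, x * x = 1)
    (hc : 256 ≤ Nat.card P) : ∀ x ∈ P, ∃ v < 256, x = diagS v := by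
  obtain ⟨M, hM, hMQ, hb⟩ := elem_bound hP h2
  have h := sizeOK_true
  simp only [sizeOK, List.all_eq_true, Bool.or_eq_true, Bool.and_eq_true, Nat.beq_eq, Nat.blt_eq] at h
  rcases h M hM with rfl | ⟨h1, -⟩
  · exact diag_of_one hP hMQ
  · have h3 := hb (fun _ => True) fun _ _ _ => trivial
    simp only [decide_true, List.filter_true] at h3
    omega

theorem foldl_mem_P1 : ∀ (L : List (ℕ × ℕ)) (acc : List (ℕ × ℕ)),
    (∀ q ∈ L, q.1 < 64 ∧ ∃ u ∈ P1, u.val = sm q.1 q.2) →
    (∀ q ∈ acc, q.1 < 64 ∧ ∃ u ∈ P1, u.val = sm q.1 q.2) →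
    ∀ q ∈ L.foldl (fun L g => L ++ L.map fun q => (si q.1 g.1, pull q.2 (sy g.1) ^^^ g.2)) acc,
      q.1 < 64 ∧ ∃ u ∈ P1, u.val = sm q.1 q.2
  | [], _, _, h => h
  | g :: L, acc, hL, h => by
    refine foldl_mem_P1 L _ (fun q hq => hL q (List.mem_cons_of_mem _ hq)) fun q hq => ?_
    rcases List.mem_append.1 hq with hq | hq
    · exact h q hq
    · obtain ⟨q', hq', rfl⟩ := List.mem_map.1 hq
      obtain ⟨h64, u, hu, e⟩ := h q' hq'
      obtain ⟨g64, w, hw, ew⟩ := hL g List.mem_cons_self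
      exact ⟨(syl_checks.1 _ h64 _ g64).1, u * w, mul_mem hu hw,
        by rw [Units.val_mul, e, ew, sm_mul h64 g64]⟩

theorem pOne_spec :
    (∀ q ∈ pOneI, q.1 < 64 ∧ q.1 ∈ qZero ∧ q.2 ∈ pairV) ∧
    (∀ q ∈ p1Gens, ∃ r ∈ pOneI, q = (sy r.1, r.2)) ∧
    ∀ i ∈ qZero, ∀ v ∈ pairV, ∃ u ∈ P1, u.val = sm i v := by
  have h := pOneOK_true
  simp only [pOneOK, Bool.and_eq_true, beq_iff_eq, List.all_eq_true, List.contains_iff_mem] at h
  have h1 : ∀ q ∈ pOneI, q.1 < 64 ∧ q.1 ∈ qZero ∧ q.2 ∈ pairV := by decide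
  refine ⟨h1, fun q hq => ?_, fun i hi v hv => ?_⟩
  · rw [← h.1, List.mem_map] at hq
    obtain ⟨r, hr, e⟩ := hq
    exact ⟨r, hr, e.symm⟩
  · refine (foldl_mem_P1 pOneI [(0, 0)] (fun q hq => ⟨(h1 q hq).1, ?_⟩) ?_ _ (h.2 i hi v hv)).2
    · obtain ⟨hj, hij⟩ := syl_checks.2.1 q.1 (h1 q hq).1
      have e1 : sm q.1 q.2 * sm (invTab.getD q.1 0) (pull q.2 (sy (invTab.getD q.1 0))) = 1 := by
        rw [sm_mul (h1 q hq).1 hj, hij, Nat.xor_self, sm_zero]
      refine ⟨Units.mk _ _ e1 (mul_eq_one_comm.1 e1), Subgroup.subset_closure ⟨(sy q.1, q.2), ?_, rfl⟩, rfl⟩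
      rw [← h.1]
      exact List.mem_map.2 ⟨q, hq, rfl⟩
    · intro q hq
      rw [List.mem_singleton] at hq
      subst hq
      exact ⟨by norm_num, 1, one_mem _, by rw [Units.val_one, sm_zero]⟩

theorem elem_even {P : Subgroup UM} (hP : P ≤ Syl) (h2 : ∀ x ∈ P, x * x = 1)
    (hev : ∀ u ∈ P, ∀ i v, i < 64 → v < 256 → u.val = sm i v → evenB v = true)
    (hc : 128 ≤ Nat.card P) : (∀ x ∈ P, ∃ v < 256, x = diagS v) ∨ P = P1 := by
  classical
  obtain ⟨M, hM, hMQ, hb⟩ := elem_bound hP h2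
  have h := sizeOK_true
  simp only [sizeOK, List.all_eq_true, Bool.or_eq_true, Bool.and_eq_true, Nat.beq_eq, Nat.blt_eq] at h
  have hb' := hb (fun w => evenB w = true) fun w hw hin =>
    hev _ hin 0 w (by norm_num) hw
      (by rw [diagS_val, sm, cm, show pI (sy 0) = id from funext syl_checks.2.2.1])
  rcases h M hM with rfl | ⟨-, rfl | h1⟩
  · exact Or.inl (diag_of_one hP hMQ)
  swap
  · have e : ((fixL M).filter fun w => decide (evenB w = true)) = (fixL M).filter evenB :=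
      List.filter_congr fun w _ => by cases evenB w <;> rfl
    rw [e] at hb'
    omega
  refine Or.inr ?_
  have hq := qZeroOK_true
  simp only [qZeroOK, Bool.and_eq_true, beq_iff_eq, List.all_eq_true, List.mem_range, Bool.or_eq_true,
    List.contains_iff_mem, Bool.not_eq_true', Bool.and_eq_false_iff] at hq
  obtain ⟨hsub, hq⟩ := hq
  rw [hsub] at hMQ
  have hw := witVOK_true
  simp only [witVOK, List.all_eq_true, List.mem_range, Bool.or_eq_true, List.contains_iff_mem,
    Bool.not_eq_true', Bool.and_eq_false_iff] at hw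
  have hshape : ∀ x ∈ P, ∃ i ∈ qZero, ∃ v ∈ pairV, i < 64 ∧ x.val = sm i v := by
    intro x hx
    obtain ⟨i, hi, v, hv, e⟩ := hP hx
    have hiQ := (hMQ i).2 ⟨x, hx, v, hv, hi, e⟩
    refine ⟨i, hiQ, v, ?_, hi, e⟩
    obtain ⟨-, hpv⟩ := eq_zero_of_pull hi hv e (h2 x hx)
    rcases hq i hiQ v hv with (hne | hin) | hwit
    · rcases hne with hne | hne
      · exact absurd (hev x hx i v hi hv e) (by rw [hne]; simp)
      · rw [Nat.beq_eq.mpr hpv] at hne; simp at hne
    · exact hin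
    · exfalso
      obtain ⟨⟨hjQ, hj3⟩, hall⟩ := hwit
      obtain ⟨y, hy, w, hw', hj, ey⟩ := (hMQ _).1 hjQ
      obtain ⟨-, hpw⟩ := eq_zero_of_pull hj hw' ey (h2 y hy)
      have hmem : w ∈ witV (witJ i) := by
        rcases hw _ hj3 w hw' with hne | hin
        · rcases hne with hne | hne
          · exact absurd (hev y hy _ w hj hw' ey) (by rw [hne]; simp)
          · rw [Nat.beq_eq.mpr hpw] at hne; simp at hne
        · exact hin
      have hne := hall w hmem
      have hxy : x * y = y * x := by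
        have hinv : ∀ c ∈ P, c⁻¹ = c := fun c hc => inv_eq_of_mul_eq_one_right (h2 c hc)
        calc x * y = (x * y)⁻¹ := (hinv _ (mul_mem hx hy)).symm
          _ = y * x := by rw [_root_.mul_inv_rev, hinv x hx, hinv y hy]
      have h1 := congrArg Units.val hxy
      rw [Units.val_mul, Units.val_mul, e, ey, sm_mul hi hj, sm_mul hj hi] at h1
      have h3 := (sm_inj (syl_checks.1 i hi _ hj).1 (syl_checks.1 _ hj i hi).1
        (xor_lt (pull_lt _ _) hw') (xor_lt (pull_lt _ _) hv) h1).2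
      rw [Nat.beq_eq.mpr h3] at hne
      simp at hne
  obtain ⟨hg1, hg2, hg3⟩ := pOne_spec
  refine le_antisymm (fun x hx => ?_) ((Subgroup.closure_le _).2 ?_)
  · obtain ⟨i, hi, v, hv, -, e⟩ := hshape x hx
    obtain ⟨u, hu, eu⟩ := hg3 i hi v hv
    rwa [show x = u from Units.ext (e.trans eu.symm)]
  · rintro u ⟨q, hq', hu⟩
    obtain ⟨r, hr, rfl⟩ := hg2 q hq'
    obtain ⟨hr64, hrQ, hrV⟩ := hg1 r hr
    have key : ∀ x : P, ∃ z : (qZero.toFinset × pairV.toFinset), x.1.val = sm z.1.1 z.2.1 := by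
      rintro ⟨x, hx⟩
      obtain ⟨i, hi, v, hv, -, e⟩ := hshape x hx
      exact ⟨(⟨i, List.mem_toFinset.2 hi⟩, ⟨v, List.mem_toFinset.2 hv⟩), e⟩
    choose f hf using key
    have hinj : Function.Injective f := fun x y e =>
      Subtype.ext (Units.ext (by rw [hf x, hf y, e]))
    have hcard : Nat.card (qZero.toFinset × pairV.toFinset) = 128 := by
      rw [Nat.card_prod, Nat.card_eq_finsetCard, Nat.card_eq_finsetCard]
      decide
    have hbij := hinj.bijective_of_nat_card_le (by omega)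
    obtain ⟨x, hx⟩ := hbij.2 (⟨r.1, List.mem_toFinset.2 hrQ⟩, ⟨r.2, List.mem_toFinset.2 hrV⟩)
    have : u = x.1 := Units.ext (by rw [hu, hf x, hx]; rfl)
    rw [SetLike.mem_coe, this]
    exact x.2

theorem sq_neg_one {u : UM} (h : u * u = -1) {i v : ℕ} (hi : i < 64) (hv : v < 256)
    (e : u.val = sm i v) : evenB v = true ∧ ∀ b, pI (sy i) b ≠ b := by
  have h1 : sm (si i i) (pull v (sy i) ^^^ v) = sm 0 255 := by
    rw [← sm_mul hi hi, ← e, ← Units.val_mul, h, ← diagS_255, diagS_val, sm, cm,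
      show pI (sy 0) = id from funext syl_checks.2.2.1]
  obtain ⟨a, b⟩ := sm_inj (syl_checks.1 i hi i hi).1 (by norm_num) (xor_lt (pull_lt _ _) hv)
    (by norm_num) h1
  have hs := sqOK_true
  simp only [sqOK, List.all_eq_true, List.mem_range, Bool.or_eq_true, Bool.not_eq_true',
    Bool.and_eq_true] at hs
  rcases hs i hi with hh | hh
  · rw [a] at hh; simp at hh
  rcases hh v hv with hh | ⟨hev, hfp⟩
  · rw [b] at hh; simp at hh
  refine ⟨hev, fun x hx => ?_⟩
  have h3 := hfp x.val x.isLt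
  rw [show sp i x.val = x.val from congrArg Fin.val hx] at h3
  simp at h3

end Cfsg.Agent.O8Standard47
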