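import Cfsg.Agent.O8Standard47.P1Def
import Cfsg.Agent.O8Standard47.OrbitData

/-!
The finite checks on the involutions and on the elementary abelian subgroups of the Sylow subgroup.
-/

set_option autoImplicit false
set_option maxRecDepth 200000
set_option Elab.async false

namespace Cfsg.Agent.O8Standard47

open Cfsg.Agent.O8Two50 (entN mulN matP)

/-- An image of a code, as a number. -/
def img (c b : ℕ) : ℕ := (c >>> (3 * b)) % 8

/-- The images of a code. -/
def imgL (c : ℕ) : List ℕ := (List.range 8).map (img c)

/-- A code is an injective map carrying blocks to blocks. -/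
def presC (c : ℕ) : Bool :=
  ((List.range 8).all fun a => (List.range 8).all fun b => !(Nat.beq (img c a) (img c b)) || Nat.beq a b) &&
  blockL.all fun b => blockL.contains (pmL (imgL c) b)

/-- The permutation code of a class representative. -/
def clsC (k : ℕ) : ℕ := aglTab.getD (clsTab.getD k (0, 0)).1 0

/-- The signs of a class representative. -/
def clsV (k : ℕ) : ℕ := (clsTab.getD k (0, 0)).2

/-- The keys of the involutions outside the diagonal. -/
def invKeys : List ℕ :=
  (List.range 64).flatMap fun i => bif Nat.beq i 0 || !(Nat.beq (si i i) 0) then [] else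
    ((List.range 256).filter fun v => Nat.beq (pull v (sy i)) v).map fun v => i * 256 + v

/-- One conjugator. -/
def entryOK (key k u h : ℕ) : Bool :=
  presC h && Nat.blt k 8 &&
  ((List.range 8).all fun b => Nat.beq (img h (sp (key / 256) b)) (img (clsC k) (img h b))) &&
  Nat.beq (pull u (sy (key / 256)) ^^^ (key % 256)) (pull (clsV k) h ^^^ u)

/-- The conjugators. -/
def conjOK : Bool :=
  conjTab.all fun e =>
    entryOK e.1 ((e.2 - 1) % 8) ((e.2 - 1) / 8 % 256) (aglTab.getD ((e.2 - 1) / 2048) 0)

/-- Congruence of a product with a packed matrix. -/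
def prodOK (P Q R : ℕ) : Bool :=
  (List.range 8).all fun a => (List.range 8).all fun b =>
    Nat.beq (mulN P Q a b % 3) (entN R (8 * a + b) % 3)

/-- The chain of conjugations by generators. -/
def stepsB : ℕ → List (ℕ × ℕ × ℕ) → ℕ → Bool
  | A, [], m => (List.range 8).all fun a => (List.range 8).all fun b =>
      Nat.beq (entN A (8 * a + b) % 3) (bif Nat.beq a b then (bif m.testBit b then 2 else 1) else 0)
  | A, (r, T, A') :: st, m =>
      Nat.blt r 24 && prodOK (matP 0 r) A T && prodOK T (matP 0 r) A' && stepsB A' st m

/-- The chains. -/
def chainOK : Bool :=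
  (List.range 8).all fun k =>
    let e := chainTab.getD k (0, [], 0)
    ((List.range 8).all fun a => (List.range 8).all fun b =>
      Nat.beq (entN e.1 (8 * a + b) % 3)
        (bif Nat.beq a (img (clsC k) b) then (bif (clsV k).testBit b then 2 else 1) else 0)) &&
    Nat.blt e.2.2 256 && stepsB e.1 e.2.1 e.2.2

/-- The members of a subgroup mask. -/
def subL (M : ℕ) : List ℕ := (List.range 64).filter fun j => M.testBit j

/-- The mask with the translate by a further element. -/
def grow (M i : ℕ) : ℕ := (subL M).foldl (fun a j => a ||| 2 ^ si i j) M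

/-- The subgroup masks are closed under adjoining commuting involutions. -/
def subOK : Bool :=
  subTab.contains 1 && subTab.all fun M => M.testBit 0 && (List.range 64).all fun i =>
    M.testBit i || !(Nat.beq (si i i) 0) || !((subL M).all fun j => Nat.beq (si i j) (si j i)) ||
      (Nat.beq (si i 0) i && subTab.contains (grow M i))

/-- The masks fixed by a subgroup. -/
def fixL (M : ℕ) : List ℕ :=
  (List.range 256).filter fun w => (subL M).all fun j => Nat.beq (pull w (sy j)) w

/-- The bounds on the orders. -/
def sizeOK : Bool :=
  subTab.all fun M => Nat.beq M 1 ||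
    (Nat.blt ((subL M).length * (fixL M).length) 256 &&
      (Nat.beq M 13107 || Nat.blt ((subL M).length * ((fixL M).filter evenB).length) 128))

/-- The exceptional group of permutations. -/
def qZero : List ℕ := [0, 1, 4, 5, 8, 9, 12, 13]

/-- The masks constant on the pairs. -/
def pairV : List ℕ := [0, 3, 12, 15, 48, 51, 60, 63, 192, 195, 204, 207, 240, 243, 252, 255]

/-- The witness for an element with other signs. -/
def witJ (i : ℕ) : ℕ := bif Nat.beq i 0 then 13 else bif Nat.beq i 1 then 4 else 1

/-- The even masks fixed by a witness. -/
def witV (j : ℕ) : List ℕ :=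
  bif Nat.beq j 13 then pairV else bif Nat.beq j 4 then
    [0, 3, 12, 15, 17, 18, 29, 30, 33, 34, 45, 46, 48, 51, 60, 63, 192, 195, 204, 207, 209, 210, 221,
      222, 225, 226, 237, 238, 240, 243, 252, 255]
  else [0, 3, 5, 6, 9, 10, 12, 15, 48, 51, 53, 54, 57, 58, 60, 63, 192, 195, 197, 198, 201, 202, 204,
    207, 240, 243, 245, 246, 249, 250, 252, 255]

/-- The witnesses are complete. -/
def witVOK : Bool :=
  [1, 4, 13].all fun j =>
    (List.range 256).all fun w => !(evenB w && Nat.beq (pull w (sy j)) w) || (witV j).contains w

/-- Elements over the exceptional group have signs constant on the pairs. -/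
def qZeroOK : Bool :=
  (subL 13107 == qZero) &&
  qZero.all fun i => (List.range 256).all fun v =>
    !(evenB v && Nat.beq (pull v (sy i)) v) || pairV.contains v ||
      (qZero.contains (witJ i) && [1, 4, 13].contains (witJ i) &&
        (witV (witJ i)).all fun w =>
          !(Nat.beq (pull v (sy (witJ i)) ^^^ w) (pull w (sy i) ^^^ v)))

/-- The generators of the second class as pairs. -/
def pOneI : List (ℕ × ℕ) := [(0, 3), (0, 12), (0, 48), (0, 192), (12, 0), (9, 0), (8, 0)]

/-- All products. -/
def pOneAll : List (ℕ × ℕ) :=
  pOneI.foldl (fun L g => L ++ L.map fun q => (si q.1 g.1, pull q.2 (sy g.1) ^^^ g.2)) [(0, 0)]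

/-- The second class. -/
def pOneOK : Bool :=
  ((pOneI.map fun q => (sy q.1, q.2)) == p1Gens) &&
  qZero.all fun i => pairV.all fun v => pOneAll.contains (i, v)

/-- The square roots of minus one. -/
def sqOK : Bool :=
  (List.range 64).all fun i => !(Nat.beq (si i i) 0) || (List.range 256).all fun v =>
    !(Nat.beq (pull v (sy i) ^^^ v) 255) ||
      (evenB v && (List.range 8).all fun b => !(Nat.beq (sp i b) b))

/-- The permutations of the Sylow subgroup carry blocks to blocks. -/
def sylPres : Bool := (List.range 64).all fun i => presC (sy i)

theorem sylPres_true : sylPres = true := by decide +kernel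
theorem invKeys_eq : invKeys = conjTab.map Prod.fst := by decide +kernel
theorem chainOK_true : chainOK = true := by decide +kernel
theorem subOK_true : subOK = true := by decide +kernel
theorem sizeOK_true : sizeOK = true := by decide +kernel
theorem witVOK_true : witVOK = true := by decide +kernel
theorem qZeroOK_true : qZeroOK = true := by decide +kernel
theorem pOneOK_true : pOneOK = true := by decide +kernel
theorem sqOK_true : sqOK = true := by decide +kernel
theorem conjOK_true : conjOK = true := by decide +kernel

end Cfsg.Agent.O8Standard47
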