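import Cfsg.Agent.O8Two50.Cover
import Mathlib.LinearAlgebra.Matrix.Notation

/-!
The Weyl group of type `E8` modulo three in the frame of eight orthogonal roots.
-/

set_option autoImplicit false

namespace Cfsg.Agent.O8Standard47

open Cfsg.Agent.O8Two50 (UM unitY)

/-- The image of the double cover of `D4(2)`. -/
def I : Subgroup UM := Subgroup.closure (Set.range (unitY 0))

/-- The sign of a coordinate in a mask. -/
def sgn (v : ℕ) (i : Fin 8) : ZMod 3 := bif v.testBit i.val then -1 else 1

theorem sgn_mul_self (v : ℕ) (i : Fin 8) : sgn v i * sgn v i = 1 := by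
  cases h : v.testBit i.val <;> simp [sgn, h]

/-- The signed permutation matrix: column `j` has its entry in row `p j`. -/
def monoMat (p : Equiv.Perm (Fin 8)) (v : ℕ) : Matrix (Fin 8) (Fin 8) (ZMod 3) :=
  fun a b => if a = p b then sgn v b else 0

theorem monoMat_mul_transpose (p : Equiv.Perm (Fin 8)) (v : ℕ) :
    monoMat p v * (monoMat p v).transpose = 1 := by
  ext a c
  rw [Matrix.mul_apply, Finset.sum_eq_single (p.symm a)]
  · by_cases h : a = c
    · subst h; simp [monoMat, sgn_mul_self]
    · simp [monoMat, Matrix.one_apply, h, Ne.symm h]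
  · intro b _ hb
    have : a ≠ p b := fun e => hb (by rw [e, Equiv.symm_apply_apply])
    simp [monoMat, this]
  · intro h; exact absurd (Finset.mem_univ _) h

theorem transpose_mul_monoMat (p : Equiv.Perm (Fin 8)) (v : ℕ) :
    (monoMat p v).transpose * monoMat p v = 1 := by
  ext a c
  rw [Matrix.mul_apply, Finset.sum_eq_single (p a)]
  · by_cases h : a = c
    · subst h; simp [monoMat, sgn_mul_self]
    · simp [monoMat, Matrix.one_apply, h, p.injective.eq_iff]
  · intro b _ hb
    simp [monoMat, hb]
  · intro h; exact absurd (Finset.mem_univ _) h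

/-- The signed permutation. -/
def mono (p : Equiv.Perm (Fin 8)) (v : ℕ) : UM :=
  ⟨monoMat p v, (monoMat p v).transpose, monoMat_mul_transpose p v, transpose_mul_monoMat p v⟩

/-- The diagonal signs. -/
def diagS (v : ℕ) : UM := mono 1 v

/-- The reflection in the first axis. -/
def wRefl : UM := diagS 1

/-- The Weyl group. -/
def W : Subgroup UM := I ⊔ Subgroup.zpowers wRefl

/-- The supports of the roots of weight four. -/
def blocks : List ℕ :=
  (((O8Two50.lineTab).map fun P => (List.range 8).foldl
    (fun m a => bif Nat.beq (O8Two50.entN P a % 3) 0 then m else m + 2 ^ a) 0).filter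
      fun m => decide (((List.range 8).filter fun a => m.testBit a).length = 4)).dedup

end Cfsg.Agent.O8Standard47
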