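import Cfsg.Agent.O8Standard47.P1Def
import Cfsg.Agent.O8Two50.CoverMat

/-!
An element of order five normalising `P1` (helper97, for helper47's S3144; matrices generated).
-/

set_option autoImplicit false

namespace Cfsg.Agent.O8Standard47

open Cfsg.Agent.ChevCore
open Cfsg.Agent.O8Two50 (UM unitY entN mulN matP mtx cast_of_mod mulN_cast)

namespace Five

/-- The matrices. -/
def lit : List ℕ := [
  10633844288303087449897901049090408480,
  8723188047465334791385777060572038480,
  212731647878750736852050728100546842630,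
  861934668204394308899107771758188800,
  12793953833500426152893771428236005382,
  41538533479346450191958725399420928,
  8390886119231520654298847200745721862,
  20769346045207139677836739008798720,
  12793953833495590518790532820277809162,
  10633844288303087449899026949001445408,
  106367446758648442188702432416909756752,
  882703588123346429022901412611229072,
  13707879209925421893811484878810222598,
  106367446761259748522420341496377573462,
  882703590901486130067527676117714182,
  85070916250026219054240312625736187905,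
  85070916250026219054240312625736450050,
  13707879209931466615143278393231314953,
  85070916249407282091163002575802925060,
  85070916251264163815892175770280525825,
  85070916249097778191875726028497289220,
  85070916250026219054258327092965146625,
  14123256620355206962933406508908122118,
  21268946008011232435024412607617695745,
  85070916250026219054226802033012310020,
  21268946008011232435037923200341180420,
  7061637818024383408575743243913367558,
  42537892013856079246041382191670493185,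
  170141832498814493346810747639698817025,
  170141832497886052484446161042459918340,
  13707879209925421888046789394040446982,
  85070916250026219054231305907517653000,
  85070916250026219054258327092965408770,
  13707879209925421893797974286086344713,
  13707879208996981031446898281571323913,
  13707879209925421893811484878004707337]

/-- The products. -/
def trip : List (ℕ × ℕ × ℕ) := [(0, 1, 2), (2, 3, 4), (4, 5, 6), (6, 7, 8), (8, 9, 10), (10, 10, 11), (11, 10, 12), (12, 12, 13), (13, 13, 14), (12, 14, 15), (12, 16, 17), (17, 14, 18), (19, 20, 18), (12, 21, 22), (22, 14, 23), (24, 25, 23), (12, 19, 26), (26, 14, 27), (28, 20, 29), (29, 25, 27), (12, 28, 30), (30, 14, 31), (16, 21, 32), (32, 24, 31), (12, 24, 33), (33, 14, 24), (12, 20, 34), (34, 14, 20), (12, 25, 35), (35, 14, 16), (16, 12, 35), (16, 16, 15), (21, 21, 15), (19, 19, 15), (28, 28, 15), (24, 24, 15), (20, 20, 15), (25, 25, 15)]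

/-- A packed matrix. -/
def mkP (i : ℕ) : Matrix (Fin 8) (Fin 8) (ZMod 3) :=
  fun a b => (entN (lit.getD i 0) (8 * a + b) : ZMod 3)

/-- The check of one product. -/
noncomputable def mulB (t : ℕ × ℕ × ℕ) : Bool :=
  forceN (lit.getD t.1 0) fun P => forceN (lit.getD t.2.1 0) fun Q => forceN (lit.getD t.2.2 0) fun R =>
    kallUpTo 8 fun a => kallUpTo 8 fun b => Nat.beq (mulN P Q a b % 3) (entN R (8 * a + b) % 3)

theorem trip_ok : trip.all mulB = true := by decide +kernel

theorem mkP_mul {i j k : ℕ} (h : (i, j, k) ∈ trip) : mkP i * mkP j = mkP k := by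
  have h1 := List.all_eq_true.1 trip_ok _ h
  simp only [mulB, forceN_eq, kallUpTo_iff, Nat.beq_eq] at h1
  ext a b
  rw [Matrix.mul_apply]
  exact (mulN_cast _ _ a b).symm.trans (cast_of_mod (h1 a.val a.isLt b.val b.isLt))

theorem gens_ok : ∀ p : Fin 8 × Fin 8,
    mtx 0 17 p.1 p.2 = mkP 0 p.1 p.2 ∧
    mtx 0 9 p.1 p.2 = mkP 1 p.1 p.2 ∧
    mtx 0 10 p.1 p.2 = mkP 3 p.1 p.2 ∧
    mtx 0 11 p.1 p.2 = mkP 5 p.1 p.2 ∧
    mtx 0 13 p.1 p.2 = mkP 7 p.1 p.2 ∧
    mtx 0 14 p.1 p.2 = mkP 9 p.1 p.2 ∧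
    cm 16434824 3 p.1 p.2 = mkP 16 p.1 p.2 ∧
    cm 16434824 12 p.1 p.2 = mkP 21 p.1 p.2 ∧
    cm 16434824 48 p.1 p.2 = mkP 19 p.1 p.2 ∧
    cm 16434824 192 p.1 p.2 = mkP 28 p.1 p.2 ∧
    cm 16434369 0 p.1 p.2 = mkP 24 p.1 p.2 ∧
    cm 16406145 0 p.1 p.2 = mkP 20 p.1 p.2 ∧
    cm 14599809 0 p.1 p.2 = mkP 25 p.1 p.2 ∧
    mkP 15 p.1 p.2 = if p.1 = p.2 then 1 else 0 := by
  decide +kernel

theorem m (i j k : ℕ) (h : (i, j, k) ∈ trip := by decide) : mkP i * mkP j = mkP k := mkP_mul h

theorem mkP_one : mkP 15 = 1 := by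
  funext a b
  obtain ⟨-, -, -, -, -, -, -, -, -, -, -, -, -, h⟩ := gens_ok (a, b)
  exact h.trans (Matrix.one_apply).symm

theorem diff_ok : mkP 17 (0 : Fin 8) (6 : Fin 8) ≠ mkP 35 (0 : Fin 8) (6 : Fin 8) := by
  decide +kernel

theorem cube : (unitY 0 17 * unitY 0 9 * unitY 0 10 * unitY 0 11 * unitY 0 13 * unitY 0 14 : UM).val =
    mkP 10 := by
  have h := gens_ok
  have e0 : mtx 0 17 = mkP 0 := funext fun a => funext fun b => by
    obtain ⟨h0, -, -, -, -, -, -, -, -, -, -, -, -, -⟩ := h (a, b)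
    exact h0
  have e1 : mtx 0 9 = mkP 1 := funext fun a => funext fun b => by
    obtain ⟨-, h1, -, -, -, -, -, -, -, -, -, -, -, -⟩ := h (a, b)
    exact h1
  have e2 : mtx 0 10 = mkP 3 := funext fun a => funext fun b => by
    obtain ⟨-, -, h2, -, -, -, -, -, -, -, -, -, -, -⟩ := h (a, b)
    exact h2
  have e3 : mtx 0 11 = mkP 5 := funext fun a => funext fun b => by
    obtain ⟨-, -, -, h3, -, -, -, -, -, -, -, -, -, -⟩ := h (a, b)
    exact h3
  have e4 : mtx 0 13 = mkP 7 := funext fun a => funext fun b => by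
    obtain ⟨-, -, -, -, h4, -, -, -, -, -, -, -, -, -⟩ := h (a, b)
    exact h4
  have e5 : mtx 0 14 = mkP 9 := funext fun a => funext fun b => by
    obtain ⟨-, -, -, -, -, h5, -, -, -, -, -, -, -, -⟩ := h (a, b)
    exact h5
  simp only [Units.val_mul]
  show mtx 0 17 * mtx 0 9 * mtx 0 10 * mtx 0 11 * mtx 0 13 * mtx 0 14 = _
  rw [e0, e1, e2, e3, e4, e5, m 0 1 2, m 2 3 4, m 4 5 6, m 6 7 8, m 8 9 10]

theorem g0 : cm 16434824 3 = mkP 16 := funext fun a => funext fun b => by
  obtain ⟨-, -, -, -, -, -, h, -, -, -, -, -, -, -⟩ := gens_ok (a, b)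
  exact h

theorem g1 : cm 16434824 12 = mkP 21 := funext fun a => funext fun b => by
  obtain ⟨-, -, -, -, -, -, -, h, -, -, -, -, -, -⟩ := gens_ok (a, b)
  exact h

theorem g2 : cm 16434824 48 = mkP 19 := funext fun a => funext fun b => by
  obtain ⟨-, -, -, -, -, -, -, -, h, -, -, -, -, -⟩ := gens_ok (a, b)
  exact h

theorem g3 : cm 16434824 192 = mkP 28 := funext fun a => funext fun b => by
  obtain ⟨-, -, -, -, -, -, -, -, -, h, -, -, -, -⟩ := gens_ok (a, b)
  exact h

theorem g4 : cm 16434369 0 = mkP 24 := funext fun a => funext fun b => by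
  obtain ⟨-, -, -, -, -, -, -, -, -, -, h, -, -, -⟩ := gens_ok (a, b)
  exact h

theorem g5 : cm 16406145 0 = mkP 20 := funext fun a => funext fun b => by
  obtain ⟨-, -, -, -, -, -, -, -, -, -, -, h, -, -⟩ := gens_ok (a, b)
  exact h

theorem g6 : cm 14599809 0 = mkP 25 := funext fun a => funext fun b => by
  obtain ⟨-, -, -, -, -, -, -, -, -, -, -, -, h, -⟩ := gens_ok (a, b)
  exact h

/-- The element of order five. -/
def d5 : UM :=
  (unitY 0 17 * unitY 0 9 * unitY 0 10 * unitY 0 11 * unitY 0 13 * unitY 0 14) *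
    (unitY 0 17 * unitY 0 9 * unitY 0 10 * unitY 0 11 * unitY 0 13 * unitY 0 14) *
      (unitY 0 17 * unitY 0 9 * unitY 0 10 * unitY 0 11 * unitY 0 13 * unitY 0 14)

theorem d5_val : d5.val = mkP 12 := by
  rw [d5, Units.val_mul, Units.val_mul, cube, m 10 10 11, m 11 10 12]

theorem d5_four : d5.val * d5.val * (d5.val * d5.val) = mkP 14 := by
  rw [d5_val, m 12 12 13, m 13 13 14]

theorem d5_pow : d5 ^ 5 = 1 := by
  refine Units.ext ?_
  have h : d5.val ^ 5 = d5.val * (d5.val * d5.val * (d5.val * d5.val)) := by noncomm_ring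
  rw [Units.val_pow_eq_pow_val, h, d5_four, d5_val, m 12 14 15, mkP_one, Units.val_one]

theorem d5_inv : (d5⁻¹ : UM).val = mkP 14 := by
  have h : d5⁻¹ = d5 * d5 * (d5 * d5) := by
    refine inv_eq_of_mul_eq_one_right ?_
    have := d5_pow
    rw [show (5 : ℕ) = 1 + (2 + 2) from rfl, pow_add, pow_add, pow_one, pow_two] at this
    exact this
  rw [h, Units.val_mul, Units.val_mul, d5_four]

theorem mem_P1 {u : UM} {c v : ℕ} (h : (c, v) ∈ p1Gens) (hu : u.val = cm c v) : u ∈ P1 :=
  Subgroup.subset_closure ⟨_, h, hu⟩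

theorem exists_gen {c v : ℕ} (h : (c, v) ∈ p1Gens) (i : ℕ) (hi : cm c v = mkP i)
    (hinv : mkP i * mkP i = 1) : ∃ u ∈ P1, u.val = mkP i :=
  ⟨⟨mkP i, mkP i, hinv, hinv⟩, mem_P1 h hi.symm, rfl⟩

end Five

open Five in
/-- An element of order five normalising `P1` and not centralising it. -/
theorem delta5 : ∃ d ∈ I, d ^ 5 = 1 ∧ (∀ x ∈ P1, d * x * d⁻¹ ∈ P1) ∧ ∃ x ∈ P1, d * x ≠ x * d := by
  have hI : ∀ r, unitY 0 r ∈ I := fun r => Subgroup.subset_closure ⟨r, rfl⟩
  obtain ⟨u0, m0, v0⟩ := exists_gen (c := 16434824) (v := 3) (by simp [p1Gens]) 16 g0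
    (by rw [m 16 16 15, mkP_one])
  obtain ⟨u1, m1, v1⟩ := exists_gen (c := 16434824) (v := 12) (by simp [p1Gens]) 21 g1
    (by rw [m 21 21 15, mkP_one])
  obtain ⟨u2, m2, v2⟩ := exists_gen (c := 16434824) (v := 48) (by simp [p1Gens]) 19 g2
    (by rw [m 19 19 15, mkP_one])
  obtain ⟨u3, m3, v3⟩ := exists_gen (c := 16434824) (v := 192) (by simp [p1Gens]) 28 g3
    (by rw [m 28 28 15, mkP_one])
  obtain ⟨u4, m4, v4⟩ := exists_gen (c := 16434369) (v := 0) (by simp [p1Gens]) 24 g4
    (by rw [m 24 24 15, mkP_one])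
  obtain ⟨u5, m5, v5⟩ := exists_gen (c := 16406145) (v := 0) (by simp [p1Gens]) 20 g5
    (by rw [m 20 20 15, mkP_one])
  obtain ⟨u6, m6, v6⟩ := exists_gen (c := 14599809) (v := 0) (by simp [p1Gens]) 25 g6
    (by rw [m 25 25 15, mkP_one])
  have hP : unitY 0 17 * unitY 0 9 * unitY 0 10 * unitY 0 11 * unitY 0 13 * unitY 0 14 ∈ I :=
    mul_mem (mul_mem (mul_mem (mul_mem (mul_mem (hI 17) (hI 9)) (hI 10)) (hI 11)) (hI 13)) (hI 14)
  have hd : d5 ∈ I := by
    rw [d5]
    exact mul_mem (mul_mem hP hP) hP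
  refine ⟨d5, hd, d5_pow, fun x hx => ?_, ⟨u0, m0, fun e => ?_⟩⟩
  · induction hx using Subgroup.closure_induction with
    | one => rw [mul_one, mul_inv_cancel]; exact one_mem _
    | mul x y _ _ h1 h2 =>
      rw [show d5 * (x * y) * d5⁻¹ = (d5 * x * d5⁻¹) * (d5 * y * d5⁻¹) by group]
      exact mul_mem h1 h2
    | inv x _ h1 =>
      rw [show d5 * x⁻¹ * d5⁻¹ = (d5 * x * d5⁻¹)⁻¹ by group]
      exact inv_mem h1
    | mem x hx =>
      obtain ⟨q, hq, hx⟩ := hx
      simp only [p1Gens, List.mem_cons, List.not_mem_nil, or_false] at hq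
      rcases hq with rfl | rfl | rfl | rfl | rfl | rfl | rfl
      · rw [show d5 * x * d5⁻¹ = u2 * u5 from Units.ext ?_]
        · exact (mul_mem m2 m5)
        · rw [Units.val_mul, Units.val_mul, d5_val, d5_inv, hx, g0, m 12 16 17, m 17 14 18, Units.val_mul, v2, v5, m 19 20 18]
      · rw [show d5 * x * d5⁻¹ = u4 * u6 from Units.ext ?_]
        · exact (mul_mem m4 m6)
        · rw [Units.val_mul, Units.val_mul, d5_val, d5_inv, hx, g1, m 12 21 22, m 22 14 23, Units.val_mul, v4, v6, m 24 25 23]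
      · rw [show d5 * x * d5⁻¹ = u3 * u5 * u6 from Units.ext ?_]
        · exact (mul_mem (mul_mem m3 m5) m6)
        · rw [Units.val_mul, Units.val_mul, d5_val, d5_inv, hx, g2, m 12 19 26, m 26 14 27, Units.val_mul, Units.val_mul, v3, v5, v6, m 28 20 29, m 29 25 27]
      · rw [show d5 * x * d5⁻¹ = u0 * u1 * u4 from Units.ext ?_]
        · exact (mul_mem (mul_mem m0 m1) m4)
        · rw [Units.val_mul, Units.val_mul, d5_val, d5_inv, hx, g3, m 12 28 30, m 30 14 31, Units.val_mul, Units.val_mul, v0, v1, v4, m 16 21 32, m 32 24 31]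
      · rw [show d5 * x * d5⁻¹ = u4 from Units.ext ?_]
        · exact m4
        · rw [Units.val_mul, Units.val_mul, d5_val, d5_inv, hx, g4, m 12 24 33, m 33 14 24, v4]
      · rw [show d5 * x * d5⁻¹ = u5 from Units.ext ?_]
        · exact m5
        · rw [Units.val_mul, Units.val_mul, d5_val, d5_inv, hx, g5, m 12 20 34, m 34 14 20, v5]
      · rw [show d5 * x * d5⁻¹ = u0 from Units.ext ?_]
        · exact m0
        · rw [Units.val_mul, Units.val_mul, d5_val, d5_inv, hx, g6, m 12 25 35, m 35 14 16, v0]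
  · have e1 := congrArg Units.val e
    rw [Units.val_mul, Units.val_mul, d5_val, v0, m 12 16 17, m 16 12 35] at e1
    exact diff_ok (congrFun (congrFun e1 _) _)

end Cfsg.Agent.O8Standard47
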