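import Cfsg.Agent.O8Standard47.Member

/-!
Elements normalising the even sign changes are monomial and permute the masks.
-/

set_option autoImplicit false

namespace Cfsg.Agent.O8Standard47

open Cfsg.Agent.O8Two50 (UM)

theorem permMask_bits (p : Equiv.Perm (Fin 8)) (v : ℕ) (b : Fin 8) :
    bits (permMask p v) (p b) = bits v b := testBit_permMask p v b

/-- An entry of a matrix intertwining two sign changes. -/
theorem intertwine_entry {x : UM} {v w : ℕ} (h : x * diagS v = diagS w * x) (a b : Fin 8)
    (hne : bits w a ≠ bits v b) : x.val a b = 0 := by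
  have h1 : (x.val * (diagS v).val) a b = ((diagS w).val * x.val) a b := by
    rw [← Units.val_mul, ← Units.val_mul, h]
  rw [diagS_val, diagS_val, Matrix.mul_apply, Matrix.mul_apply, Finset.sum_eq_single b,
    Finset.sum_eq_single a] at h1
  · simp only [mf, id, if_true] at h1
    have key : ∀ (t : ZMod 3) (p q : Bool), p ≠ q →
        t * (bif q then -1 else 1) = (bif p then -1 else 1) * t → t = 0 := by decide
    exact key _ _ _ hne h1
  · intro c _ hc; simp [mf, Ne.symm hc]
  · intro h; exact absurd (Finset.mem_univ _) h
  · intro c _ hc; simp [mf, hc]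
  · intro h; exact absurd (Finset.mem_univ _) h

theorem pair_sep : ∀ b c : Fin 8, b ≠ c → ((List.range 256).any fun v =>
    evenB v && (v.testBit b.val != v.testBit c.val)) = true := sep_mask

/-- An element carrying the even sign changes to sign changes is monomial. -/
theorem exists_mono {x : UM} (hx : x ∈ W)
    (h : ∀ v < 256, evenB v = true → ∃ w < 256, x * diagS v * x⁻¹ = diagS w) :
    ∃ p : Equiv.Perm (Fin 8), PresBlocks p ∧ ∃ s, x.val = mf p s := by
  have ho := orth_of_mem_W hx
  have huniq : ∀ a b c : Fin 8, x.val a b ≠ 0 → x.val a c ≠ 0 → b = c := by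
    intro a b c hb hc
    by_contra hbc
    obtain ⟨v, hv, hv'⟩ := List.any_eq_true.1 (pair_sep b c hbc)
    rw [Bool.and_eq_true] at hv'
    obtain ⟨w, -, hw⟩ := h v (List.mem_range.1 hv) hv'.1
    have hi : x * diagS v = diagS w * x := by rw [← hw, inv_mul_cancel_right]
    have e1 : bits w a = bits v b := by
      by_contra hne; exact hb (intertwine_entry hi a b hne)
    have e2 : bits w a = bits v c := by
      by_contra hne; exact hc (intertwine_entry hi a c hne)
    have : bits v b ≠ bits v c := by simpa [bits] using hv'.2
    exact this (e1.symm.trans e2)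
  have hrow : ∀ a, ∃ b, x.val a b ≠ 0 := by
    intro a
    by_contra hcon
    push Not at hcon
    have h1 := congrFun (congrFun ho a) a
    rw [Matrix.mul_apply, Matrix.one_apply_eq, Finset.sum_eq_zero fun b _ => by rw [hcon b, zero_mul]]
      at h1
    exact zero_ne_one h1
  choose g hg using hrow
  have hcol : ∀ b, ∃ a, x.val a b ≠ 0 := by
    intro b
    by_contra hcon
    push Not at hcon
    have h1 : (x.val.transpose * x.val) b b = (1 : Matrix (Fin 8) (Fin 8) (ZMod 3)) b b := by
      rw [mul_eq_one_comm.1 ho]
    rw [Matrix.mul_apply, Matrix.one_apply_eq,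
      Finset.sum_eq_zero fun a _ => by rw [hcon a, mul_zero]] at h1
    exact zero_ne_one h1
  have hsurj : Function.Surjective g := fun b => by
    obtain ⟨a, ha⟩ := hcol b
    exact ⟨a, huniq a _ _ (hg a) ha⟩
  let q : Equiv.Perm (Fin 8) := Equiv.ofBijective g ⟨Finite.injective_iff_surjective.2 hsurj, hsurj⟩
  have e : x.val = mf q.symm fun b => decide (x.val (q.symm b) b = -1) := by
    ext a b
    by_cases hab : a = q.symm b
    · have hgab : g a = b := by rw [hab]; exact q.apply_symm_apply b
      subst hab
      have h1 := congrFun (congrFun ho (q.symm b)) (q.symm b)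
      rw [Matrix.mul_apply, Matrix.one_apply_eq, Finset.sum_eq_single b, Matrix.transpose_apply] at h1
      · have key : ∀ t : ZMod 3, t * t = 1 → t = (bif decide (t = -1) then -1 else 1) := by decide
        simpa [mf] using key _ h1
      · intro c _ hc
        rw [show x.val (q.symm b) c = 0 by
          by_contra hne
          exact hc ((huniq _ _ _ hne (hg _)).trans hgab), zero_mul]
      · intro h'; exact absurd (Finset.mem_univ _) h'
    · rw [show mf q.symm _ a b = (0 : ZMod 3) from if_neg hab]
      by_contra hne
      refine hab ?_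
      rw [Equiv.eq_symm_apply]
      exact huniq a _ _ (hg a) hne
  exact ⟨q.symm, presBlocks_of_mem_W hx e, _, e⟩

/-- Conjugating a sign change by a monomial element. -/
theorem mono_conj_diag {x : UM} {p : Equiv.Perm (Fin 8)} {s : Fin 8 → Bool} (e : x.val = mf p s)
    (v : ℕ) : x * diagS v * x⁻¹ = diagS (permMask p v) := by
  rw [mul_inv_eq_iff_eq_mul]
  refine Units.ext ?_
  rw [Units.val_mul, Units.val_mul, e, diagS_val, diagS_val, mf_mul, mf_mul]
  congr 1
  funext b
  rw [Function.id_def, permMask_bits]
  exact Bool.xor_comm _ _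

end Cfsg.Agent.O8Standard47
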