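import Cfsg.Agent.O8Standard47.OuterRoot
import Cfsg.Agent.O8Standard47.MonoConj
import Cfsg.Agent.O8Standard47.BlockComm

/-!
Without a root of the central involution: no conjugate of it is a block sign change, and a frame of sign
changes controlling the involutions isolates it.
-/

set_option autoImplicit false

namespace Cfsg.Agent.O8Standard47

open Subgroup
open scoped commutatorElement
open Cfsg.Agent.O8Two50 (UM)

theorem pres_mul {p q : Equiv.Perm (Fin 8)} (hp : PresBlocks p) (hq : PresBlocks q) :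
    PresBlocks (p * q) := by
  intro b hb
  have h : permMask (p * q) b = permMask p (permMask q b) := by
    refine bits_inj (Member.permMask_lt _ _) (Member.permMask_lt _ _) (funext fun i => ?_)
    obtain ⟨j, rfl⟩ := (p * q).surjective i
    rw [permMask_bits, Equiv.Perm.mul_apply, permMask_bits, permMask_bits]
  rw [h]
  exact hp _ (hq b hb)

theorem pres_genProd (w : List Bool) : PresBlocks (w.map genP).prod := by
  induction w with
  | nil => exact forallMem_of_all (by decide +kernel)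
  | cons b w ih => rw [List.map_cons, List.prod_cons]; exact pres_mul (gen_pres b) ih

/-- Words carrying each block to the first one. -/
def toFifteen : List (ℕ × List Bool) :=
  [(15, []), (51, [true]), (195, [true, true, true, false, true]), (85, [true, true]),
   (165, [true, true, false]), (153, [true, true, true, false, true, true]),
   (105, [true, true, false, true, false, true]), (150, [true, true, true]),
   (102, [true, true, true, false]), (90, [true, true, false, true]),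
   (170, [true, true, false, true, false]), (60, [true, true, true, false, true, true, true]),
   (204, [true, true, false, true, false, true, true, true]),
   (240, [true, true, false, true, false, true, true])]

theorem toFifteen_ok : (blockL.all fun v => toFifteen.any fun e =>
    Nat.beq e.1 v && Nat.beq (permMask (e.2.map genP).prod v) 15) = true := by decide +kernel

theorem exists_to_fifteen {v : ℕ} (hv : v ∈ blocks) :
    ∃ q, PresBlocks q ∧ permMask q v = 15 := by
  have h := List.all_eq_true.1 toFifteen_ok v ((mem_blockL v).2 hv)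
  obtain ⟨e, -, he⟩ := List.any_eq_true.1 h
  simp only [Bool.and_eq_true, Nat.beq_eq] at he
  exact ⟨_, pres_genProd e.2, he.2⟩

universe u

variable {G : Type u} [Group G] [Finite G] {ι : I →* G}

namespace Setting

variable (hS : Setting ι)
include hS

/-- Inner two-elements lie in the subgroup. -/
theorem two_mem_range (hno : ¬ ∃ r ∈ centralizer (ι.range : Set G), r * r = hS.z) {y : G} {a : I}
    (ha : Acts ι y a) {n : ℕ} (hn : y ^ 2 ^ n = 1) : ∃ b, y = ι b := by
  have descent : ∀ (m : ℕ), ∀ c ∈ centralizer (ι.range : Set G), c ^ 2 ^ m = 1 →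
      c = 1 ∨ c = hS.z := by
    intro m
    induction m with
    | zero => intro c _ h; rw [pow_zero, pow_one] at h; exact Or.inl h
    | succ m ih =>
      intro c hc h
      rw [pow_succ', pow_mul] at h
      rcases ih (c ^ 2) (pow_mem hc 2) h with h' | h'
      · exact hS.involution_eq hc (by rw [← pow_two, h'])
      · exact absurd ⟨c, hc, by rw [← pow_two, h']⟩ hno
  obtain ⟨c, hc, hyc⟩ : ∃ c ∈ centralizer (ι.range : Set G), y = ι a * c :=
    ⟨_, split_inner ha, (mul_inv_cancel_left _ _).symm⟩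
  have hc' : c ^ 2 ^ (n + 1) = 1 := by
    rw [pow_succ, pow_mul]
    rcases hS.pow_eq_one_parts hc (hyc ▸ hn) with h | h <;> rw [h]
    · exact one_pow 2
    · rw [pow_two]; exact hS.z_sq
  rcases descent _ c hc hc' with rfl | rfl
  · exact ⟨a, by rw [hyc, mul_one]⟩
  · exact ⟨a * hS.eI, by rw [hyc, map_mul]; rfl⟩

/-- No conjugate of the involution is the first block. -/
theorem no_fifteen (hno : ¬ ∃ r ∈ centralizer (ι.range : Set G), r * r = hS.z) {g : G}
    (hI : diagS 15 ∈ I) (hg : g * hS.z * g⁻¹ = ι ⟨diagS 15, hI⟩) : False := by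
  obtain ⟨i, j, i2, j2, p, hi, hj, hi2, hj2, hp, hii, hjj, hi2i, hj2j, hji, hj2i2, hq1, hq2, hq3, hq4,
    hp1, hp2, hp3, hp4, hpp⟩ := block_commutators
  -- the centraliser of the block pulled back consists of elements whose commutators are inner
  set D : Subgroup I := (centralizer ({diagS 15} : Set UM)).subgroupOf I
  have hpullz : ∀ y ∈ D, g⁻¹ * ι y * g * hS.z = hS.z * (g⁻¹ * ι y * g) := by
    intro y hy
    have h : y * ⟨diagS 15, hI⟩ = ⟨diagS 15, hI⟩ * y := Subtype.ext
      ((mem_centralizer_iff.1 (Subgroup.mem_subgroupOf.1 hy)) _ rfl).symm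
    calc g⁻¹ * ι y * g * hS.z = g⁻¹ * (ι y * (g * hS.z * g⁻¹)) * g := by group
      _ = g⁻¹ * (g * hS.z * g⁻¹ * ι y) * g := by rw [hg, ← map_mul, h, map_mul]
      _ = _ := by group
  have hpullc : ∀ y ∈ D, ∃ c ∈ W, Acts ι (g⁻¹ * ι y * g) c := fun y hy => hS.exists_acts (hpullz y hy)
  have hinn : ∀ y ∈ ⁅D, D⁆, ∃ a : I, Acts ι (g⁻¹ * ι y * g) a := by
    intro y hy
    rw [Subgroup.commutator_def] at hy
    induction hy using Subgroup.closure_induction with
    | mem x hx =>
      obtain ⟨y1, hy1, y2, hy2, rfl⟩ := hx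
      obtain ⟨c1, hc1, ha1⟩ := hpullc y1 hy1
      obtain ⟨c2, hc2, ha2⟩ := hpullc y2 hy2
      obtain ⟨c3, hc3, ha3⟩ := hpullc y1⁻¹ (inv_mem hy1)
      obtain ⟨c4, hc4, ha4⟩ := hpullc y2⁻¹ (inv_mem hy2)
      have hinv : ∀ (y : I) (c d : UM), c ∈ W → d ∈ W → Acts ι (g⁻¹ * ι y * g) c →
          Acts ι (g⁻¹ * ι y⁻¹ * g) d → d = c⁻¹ ∨ d = -c⁻¹ := by
        intro y c d hc hd ha hb
        have h1 : Acts ι ((g⁻¹ * ι y * g) * (g⁻¹ * ι y⁻¹ * g)) (1 : UM) := by
          rw [show g⁻¹ * ι y * g * (g⁻¹ * ι y⁻¹ * g) = 1 by rw [map_inv]; group]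
          exact acts_centralizer (one_mem _)
        rcases hS.acts_unique (one_mem W) (mul_mem hc hd) h1 (ha.mul hb hd) with h | h
        · exact Or.inl (eq_inv_of_mul_eq_one_right h)
        · exact Or.inr (by rw [← inv_mul_cancel_left c d, h, mul_neg, mul_one])
      have hcI : c1 * c2 * c3 * c4 ∈ I := by
        have h0 := comm_mem_I hc1 hc2
        rcases hinv y1 c1 c3 hc1 hc3 ha1 ha3 with rfl | rfl <;>
          rcases hinv y2 c2 c4 hc2 hc4 ha2 ha4 with rfl | rfl <;>
          (try simp only [mul_neg, neg_mul, neg_neg])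
        · exact h0
        · rw [← neg_one_mul]; exact mul_mem hS.facts.neg_mem h0
        · rw [← neg_one_mul]; exact mul_mem hS.facts.neg_mem h0
        · exact h0
      refine ⟨⟨_, hcI⟩, ?_⟩
      have hh := ((ha1.mul ha2 hc2).mul ha3 hc3).mul ha4 hc4
      rwa [show g⁻¹ * ι y1 * g * (g⁻¹ * ι y2 * g) * (g⁻¹ * ι y1⁻¹ * g) * (g⁻¹ * ι y2⁻¹ * g) =
        g⁻¹ * ι ⁅y1, y2⁆ * g by rw [commutatorElement_def, map_mul, map_mul, map_mul]; group] at hh
    | one => exact ⟨1, by rw [map_one, show g⁻¹ * 1 * g = 1 by group]; exact acts_centralizer (one_mem _)⟩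
    | mul x y _ _ hx hy =>
      obtain ⟨a, ha⟩ := hx
      obtain ⟨b, hb⟩ := hy
      refine ⟨a * b, ?_⟩
      rw [show g⁻¹ * ι (x * y) * g = g⁻¹ * ι x * g * (g⁻¹ * ι y * g) by rw [map_mul]; group]
      exact ha.mul hb (I_le_W b.2)
    | inv x _ hx =>
      obtain ⟨a, ha⟩ := hx
      refine ⟨a⁻¹, fun y y' e => ?_⟩
      have h := ha y' y (by rw [e, Subgroup.coe_inv]; group)
      rw [map_inv, ← h]
      group
  have hDmap : D.map I.subtype = blockCent := by
    rw [Subgroup.subgroupOf_map_subtype, blockCent, inf_comm]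
  have hrange : ∀ y ∈ ⁅blockCent, blockCent⁆, y * y * (y * y) = 1 →
      ∃ (hy : y ∈ I) (b : I), g⁻¹ * ι ⟨y, hy⟩ * g = ι b := by
    intro y hmem h4
    rw [← hDmap, ← Subgroup.map_commutator] at hmem
    obtain ⟨y', hy', rfl⟩ := hmem
    refine ⟨y'.2, ?_⟩
    show ∃ b : I, g⁻¹ * ι y' * g = ι b
    obtain ⟨a, ha⟩ := hinn _ hy'
    refine hS.two_mem_range hno ha (n := 2) ?_
    rw [show g⁻¹ * ι y' * g = g⁻¹ * ι y' * g⁻¹⁻¹ by rw [inv_inv], conj_pow, ← map_pow,
      show y' ^ 2 ^ 2 = 1 from Subtype.ext (by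
        show (y' : UM) ^ 2 ^ 2 = 1
        rw [show 2 ^ 2 = 2 + 2 by norm_num, pow_add, pow_two]; exact h4), map_one]
    group
  have h15 : diagS 15 * diagS 15 = 1 := diagS_sq 15
  obtain ⟨hiI, bi, ebi⟩ := hrange i hi (by rw [hii, h15])
  obtain ⟨hjI, bj, ebj⟩ := hrange j hj (by rw [hjj, h15])
  obtain ⟨hi2I, bi2, ebi2⟩ := hrange i2 hi2 (by rw [hi2i, h15])
  obtain ⟨hj2I, bj2, ebj2⟩ := hrange j2 hj2 (by rw [hj2j, h15])
  obtain ⟨hpI, bp, ebp⟩ := hrange p hp (by rw [hpp, diagS_sq])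
  -- transporting relations
  have tr : ∀ (x y : I) (bx by' : I), g⁻¹ * ι x * g = ι bx → g⁻¹ * ι y * g = ι by' →
      g⁻¹ * ι (x * y) * g = ι (bx * by') := by
    intro x y bx by' h h'
    rw [map_mul, map_mul, ← h, ← h']
    group
  have huniq : ∀ (x y : I) (bx by' : I), x = y → g⁻¹ * ι x * g = ι bx → g⁻¹ * ι y * g = ι by' →
      bx = by' := by
    intro x y bx by' e h h'
    subst e
    exact hS.inj (h.symm.trans h')
  have hB : g⁻¹ * ι ⟨diagS 15, hI⟩ * g = ι hS.eI := by rw [← hg, show ι hS.eI = hS.z from rfl]; group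
  set F : I := ⟨diagS 15, hI⟩
  set xi : I := ⟨i, hiI⟩
  set xj : I := ⟨j, hjI⟩
  set xi2 : I := ⟨i2, hi2I⟩
  set xj2 : I := ⟨j2, hj2I⟩
  set xp : I := ⟨p, hpI⟩
  have sq : ∀ (x b : I), x * x = F → g⁻¹ * ι x * g = ι b → (b : UM) * b = -1 := fun x b h hb =>
    congrArg Subtype.val (huniq _ _ _ _ h (tr _ _ _ _ hb hb) hB)
  have com : ∀ (x y bx by' : I), x * y = y * x → g⁻¹ * ι x * g = ι bx → g⁻¹ * ι y * g = ι by' →
      (bx : UM) * by' = by' * bx := fun x y bx by' h hx hy =>
    congrArg Subtype.val (huniq _ _ _ _ h (tr _ _ _ _ hx hy) (tr _ _ _ _ hy hx))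
  have anti : ∀ (x y bx by' : I), y * x = x * y * F → g⁻¹ * ι x * g = ι bx → g⁻¹ * ι y * g = ι by' →
      (by' : UM) * bx = -((bx : UM) * by') := by
    intro x y bx by' h hx hy
    have h' := congrArg Subtype.val (huniq _ _ _ _ h (tr _ _ _ _ hy hx) (tr _ _ _ _ (tr _ _ _ _ hx hy) hB))
    change (by' : UM) * bx = (bx : UM) * by' * -1 at h'
    rwa [mul_neg, mul_one] at h'
  set P : I := xp * xp with hP
  have hPv : (P : UM) = diagS 240 := hpp
  have ebP : g⁻¹ * ι P * g = ι (bp * bp) := tr _ _ _ _ ebp ebp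
  have hPP : ((bp * bp : I) : UM) * ((bp * bp : I) : UM) = 1 := by
    have h1 : P * P = 1 := Subtype.ext (show (P : UM) * P = 1 by rw [hPv, diagS_sq])
    exact congrArg Subtype.val (huniq _ _ _ _ h1 (tr _ _ _ _ ebP ebP)
      (by rw [map_one]; group : g⁻¹ * ι (1 : I) * g = ι 1))
  rcases quat_square (bi : UM) bj bi2 bj2 bp (sq xi bi (Subtype.ext hii) ebi) (sq xj bj (Subtype.ext hjj) ebj)
      (sq xi2 bi2 (Subtype.ext hi2i) ebi2) (sq xj2 bj2 (Subtype.ext hj2j) ebj2)
      (anti xi xj bi bj (Subtype.ext hji) ebi ebj) (anti xi2 xj2 bi2 bj2 (Subtype.ext hj2i2) ebi2 ebj2)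
      (com xi xi2 bi bi2 (Subtype.ext hq1) ebi ebi2) (com xi xj2 bi bj2 (Subtype.ext hq2) ebi ebj2)
      (com xj xi2 bj bi2 (Subtype.ext hq3) ebj ebi2) (com xj xj2 bj bj2 (Subtype.ext hq4) ebj ebj2)
      (com xp xi bp bi (Subtype.ext hp1) ebp ebi) (com xp xj bp bj (Subtype.ext hp2) ebp ebj)
      (com xp xi2 bp bi2 (Subtype.ext hp3) ebp ebi2) (com xp xj2 bp bj2 (Subtype.ext hp4) ebp ebj2) hPP
    with h | h
  · have e : bp * bp = 1 := Subtype.ext h
    have hP1 : P = 1 := hS.inj (by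
      rw [map_one, show ι P = g * (g⁻¹ * ι P * g) * g⁻¹ by group, ebP, e, map_one]
      group)
    exact absurd (diagS_inj (by norm_num) (by norm_num)
      (hPv.symm.trans ((congrArg Subtype.val hP1).trans diagS_zero.symm))) (by decide)
  · have e : bp * bp = hS.eI := Subtype.ext h
    have hP1 : P = F := hS.inj (by
      rw [show ι P = g * (g⁻¹ * ι P * g) * g⁻¹ by group, ebP, e, show ι hS.eI = hS.z from rfl, hg])
    exact absurd (diagS_inj (by norm_num) (by norm_num) (hPv.symm.trans (congrArg Subtype.val hP1)))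
      (by decide)

/-- No conjugate of the involution is a block. -/
theorem no_block (hno : ¬ ∃ r ∈ centralizer (ι.range : Set G), r * r = hS.z) {g : G} {v : ℕ}
    (hv : v ∈ blocks) (hI : diagS v ∈ I) (hg : g * hS.z * g⁻¹ = ι ⟨diagS v, hI⟩) : False := by
  obtain ⟨q, hq, hqv⟩ := exists_to_fifteen hv
  have hqI : mono q 0 ∈ I := mono_mem_I hq (by decide)
  have hval : (mono q 0).val = mf q fun b => (0 : ℕ).testBit b := rfl
  have hc : mono q 0 * diagS v * (mono q 0)⁻¹ = diagS 15 := by rw [mono_conj_diag hval, hqv]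
  have h15 : diagS 15 ∈ I := hS.facts.diag_mem 15 (by decide)
  refine hS.no_fifteen hno (g := ι ⟨_, hqI⟩ * g) h15 ?_
  rw [show ι ⟨mono q 0, hqI⟩ * g * hS.z * (ι ⟨mono q 0, hqI⟩ * g)⁻¹ =
    ι ⟨mono q 0, hqI⟩ * (g * hS.z * g⁻¹) * (ι ⟨mono q 0, hqI⟩)⁻¹ by group, hg, ← map_mul, ← map_inv,
    ← map_mul]
  exact congrArg ι (Subtype.ext hc)

end Setting

end Cfsg.Agent.O8Standard47
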