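import Cfsg.Agent.O8Standard47.Aut
import Cfsg.Agent.O8Standard47.Member

/-!
The two-part of the order of the Weyl group.
-/

set_option autoImplicit false

namespace Cfsg.Agent.O8Standard47.Locals

open Subgroup
open Cfsg.Agent.O8Two50 (UM)

theorem w_mem_Syl : wRefl ∈ Syl := by
  refine ⟨0, by norm_num, 1, by norm_num, ?_⟩
  rw [wRefl, diagS_val, sm, cm, show pI (sy 0) = id from funext syl_checks.2.2.1]

theorem relindex_I : (I.subgroupOf W).index = 2 := by
  refine index_eq_two_iff.2 ⟨⟨wRefl, wRefl_mem_W⟩, fun b => ?_⟩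
  simp only [mem_subgroupOf, coe_mul]
  by_cases hb : (b : UM) ∈ I
  · exact Or.inr ⟨hb, fun h => wRefl_not_mem_I ((mul_mem_cancel_left hb).1 h)⟩
  · refine Or.inl ⟨?_, hb⟩
    have h := wRefl_normalizes _ ((mem_W_iff.1 b.2).resolve_left hb)
    rwa [← mul_assoc wRefl wRefl, show wRefl * wRefl = 1 from diagS_sq 1, one_mul] at h

theorem card_W_factorization : (Nat.card W).factorization 2 = 14 := by
  have h := card_mul_index (I.subgroupOf W)
  rw [relindex_I, Nat.card_congr (subgroupOfEquivOfLe I_le_W).toEquiv] at h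
  rw [← h, Nat.factorization_mul Nat.card_pos.ne' two_ne_zero, Finsupp.add_apply,
    card_I_factorization, Nat.Prime.factorization_self Nat.prime_two]

end Cfsg.Agent.O8Standard47.Locals
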