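import Cfsg.Agent.O8Standard47.Frame
import Cfsg.Agent.O8Standard47.WCard

/-!
With an outer involution centralising the central involution, the Weyl group embeds into the centraliser
and its Sylow 2-subgroup becomes a Sylow 2-subgroup there.
-/

set_option autoImplicit false

namespace Cfsg.Agent.O8Standard47

open Subgroup
open Cfsg.Agent.O8Two50 (UM)

namespace Hat

theorem w_sq : wRefl * wRefl = 1 := diagS_sq 1

universe u

variable {G : Type u} [Group G] {ι : I →* G}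

open scoped Classical in
/-- The extension of `ι` to the Weyl group. -/
noncomputable def hat (ι : I →* G) (t : G) (u : W) : G :=
  if h : (u : UM) ∈ I then ι ⟨u, h⟩ else t * ι ⟨wRefl * u, (mem_W_iff.1 u.2).resolve_left h⟩

theorem hat_inner (t : G) {u : W} {y : I} (e : (u : UM) = y) : hat ι t u = ι y := by
  rw [hat, dif_pos (e ▸ y.2)]
  exact congrArg ι (Subtype.ext e)

theorem hat_outer (t : G) {u : W} {y : I} (e : (u : UM) = wRefl * y) : hat ι t u = t * ι y := by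
  have hn : (u : UM) ∉ I := fun h => wRefl_not_mem_I ((mul_mem_cancel_right y.2).1 (e ▸ h))
  rw [hat, dif_neg hn]
  refine congrArg (fun c => t * ι c) (Subtype.ext ?_)
  show wRefl * (u : UM) = y
  rw [e, ← mul_assoc, w_sq, one_mul]

theorem cases_W (u : W) :
    (∃ y : I, (u : UM) = y) ∨ ∃ y : I, (u : UM) = wRefl * y := by
  rcases mem_W_iff.1 u.2 with h | h
  · exact Or.inl ⟨⟨_, h⟩, rfl⟩
  · exact Or.inr ⟨⟨_, h⟩, by rw [← mul_assoc, w_sq, one_mul]⟩

/-- The conjugate by the reflection. -/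
def wc (y : I) : I := ⟨wRefl * y * wRefl, wRefl_normalizes _ y.2⟩

theorem mul_w (y : I) : (y : UM) * wRefl = wRefl * (wc y : UM) := by
  show (y : UM) * wRefl = wRefl * (wRefl * y * wRefl)
  rw [← mul_assoc, ← mul_assoc, w_sq, one_mul]

theorem hat_mul {t : G} (ht : t * t = 1) (hc : ∀ y : I, t * ι y * t = ι (wc y)) (u u' : W) :
    hat ι t (u * u') = hat ι t u * hat ι t u' := by
  rcases cases_W u with ⟨y, e⟩ | ⟨y, e⟩ <;> rcases cases_W u' with ⟨y', e'⟩ | ⟨y', e'⟩
  · rw [hat_inner t e, hat_inner t e', hat_inner t (y := y * y') (by rw [coe_mul, e, e']; rfl),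
      map_mul]
  · rw [hat_inner t e, hat_outer t e', hat_outer t (y := wc y * y') (by
      rw [coe_mul, e, e', ← mul_assoc, mul_w, coe_mul, mul_assoc]), map_mul, ← hc]
    calc t * (t * ι y * t * ι y') = t * t * (ι y * t * ι y') := by group
      _ = _ := by rw [ht, one_mul, mul_assoc]
  · rw [hat_outer t e, hat_inner t e', hat_outer t (y := y * y') (by
      rw [coe_mul, e, e', mul_assoc]; rfl), map_mul, mul_assoc]
  · rw [hat_outer t e, hat_outer t e', hat_inner t (y := wc y * y') (by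
      rw [coe_mul, e, e', mul_assoc, ← mul_assoc (y : UM), mul_w, mul_assoc, ← mul_assoc, w_sq,
        one_mul, coe_mul]), map_mul, ← hc]
    group

end Hat

open Hat

universe u

/-- With an outer involution centralising the central involution, the Weyl group embeds and carries
a Sylow 2-subgroup of that centraliser. -/
theorem exists_hat {G : Type u} [Group G] [Finite G] {ι : I →* G} (hS : Setting ι)
    (hno : ¬ ∃ r ∈ centralizer (ι.range : Set G), r * r = hS.z)
    (hinvW : ∀ u ∈ W, u * u = 1 → ∃ g ∈ I, g * u * g⁻¹ ∈ E)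
    (hnegW : ∀ u ∈ W, u * u = -1 → u ∈ I)
    (_hcardI : ∀ P : Subgroup UM, P ≤ I → IsPGroup 2 P → Nat.card P ≤ 2 ^ 13)
    (hSylW : Syl ≤ W)
    (hout : ∃ t, t * t = 1 ∧ t * hS.z = hS.z * t ∧ ¬ ∃ a : I, Acts ι t a) :
    ∃ φ : W →* G, Function.Injective φ ∧ (∀ y : I, φ ⟨y, I_le_W y.2⟩ = ι y) ∧
      (∀ k : W, Acts ι (φ k) k) ∧
      (∀ P : Subgroup G, IsPGroup 2 P → (∀ x ∈ P, x * hS.z = hS.z * x) →
        ∃ n, n * hS.z = hS.z * n ∧ ∀ x ∈ P, ∃ s : W, (s : UM) ∈ Syl ∧ n * x * n⁻¹ = φ s) := by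
  haveI : Fact (Nat.Prime 2) := ⟨Nat.prime_two⟩
  obtain ⟨t, ht, htz, hta⟩ := hout
  obtain ⟨b, hb, hab⟩ := hS.exists_acts htz
  have hb2 : b * b = 1 := by
    have h1 : Acts ι (t * t) (1 : UM) := by rw [ht]; exact acts_centralizer (one_mem _)
    rcases hS.acts_unique (one_mem W) (mul_mem hb hb) h1 (hab.mul hab hb) with h | h
    · exact h
    · exact absurd ⟨⟨b, hnegW b hb h⟩, hab⟩ hta
  obtain ⟨g, hg, v, hv, hgb⟩ := hinvW b hb hb2
  have hodd : evenB v = false := by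
    refine Bool.eq_false_iff.2 fun h => hta ⟨⟨b, ?_⟩, hab⟩
    have h1 : g * b * g⁻¹ ∈ I := hgb ▸ diagS_mem_I h
    rwa [mul_mem_cancel_right (inv_mem hg), mul_mem_cancel_left hg] at h1
  have hd : diagS (v ^^^ 1) ∈ I := diagS_mem_I (by rw [evenB_xor, hodd]; decide)
  set gI : I := ⟨g, hg⟩
  set dI : I := ⟨_, hd⟩
  set t' : G := ι gI * t * (ι gI)⁻¹ with ht'
  set t1 : G := t' * ι dI with ht1
  have hat' : Acts ι t' (diagS v) := by
    have h := ((acts_iota (ι := ι) gI).mul hab hb).mul (acts_iota gI⁻¹) (I_le_W (inv_mem hg))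
    rw [map_inv] at h
    rwa [show (gI : UM) * b * ((gI⁻¹ : I) : UM) = diagS v from hgb] at h
  have ht'2 : t' * t' = 1 := by
    rw [ht', show ι gI * t * (ι gI)⁻¹ * (ι gI * t * (ι gI)⁻¹) = ι gI * (t * t) * (ι gI)⁻¹ by group,
      ht, mul_one, mul_inv_cancel]
  have hcomm : t' * ι dI * t'⁻¹ = ι dI := hat' dI dI (show diagS (v ^^^ 1) = _ by
    show _ = diagS v * diagS (v ^^^ 1) * (diagS v)⁻¹
    rw [diagS_inv, diagS_mul, diagS_mul, Nat.xor_comm (v ^^^ (v ^^^ 1)) v, ← Nat.xor_assoc v v,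
      Nat.xor_self, Nat.zero_xor])
  have hdd : ι dI * ι dI = 1 := by
    rw [← map_mul, show dI * dI = 1 from Subtype.ext (diagS_sq _), map_one]
  have ht12 : t1 * t1 = 1 := by
    rw [ht1, show t' * ι dI * (t' * ι dI) = t' * ι dI * t'⁻¹ * (t' * t') * ι dI by group, hcomm,
      ht'2, mul_one, hdd]
  have hact : Acts ι t1 wRefl := by
    have h := hat'.mul (acts_iota dI) (I_le_W hd)
    rwa [show diagS v * (dI : UM) = wRefl by
      show diagS v * diagS (v ^^^ 1) = diagS 1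
      rw [diagS_mul, ← Nat.xor_assoc, Nat.xor_self, Nat.zero_xor]] at h
  have ht1i : t1⁻¹ = t1 := inv_eq_of_mul_eq_one_right ht12
  have hconj : ∀ y : I, t1 * ι y * t1 = ι (wc y) := fun y => by
    have h := hact y (wc y) (show wRefl * (y : UM) * wRefl = wRefl * y * wRefl⁻¹ by
      rw [inv_eq_of_mul_eq_one_right w_sq])
    rwa [ht1i] at h
  let φ : W →* G := MonoidHom.mk' (hat ι t1) (hat_mul ht12 hconj)
  have hin : ∀ {u : W} {y : I}, (u : UM) = y → φ u = ι y := fun e => hat_inner t1 e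
  have hout' : ∀ {u : W} {y : I}, (u : UM) = wRefl * y → φ u = t1 * ι y := fun e => hat_outer t1 e
  have hinj : Function.Injective φ := by
    refine (injective_iff_map_eq_one φ).2 fun u hu => ?_
    rcases cases_W u with ⟨y, e⟩ | ⟨y, e⟩
    · rw [hin e, ← map_one ι] at hu
      exact Subtype.ext (e.trans (congrArg Subtype.val (hS.inj hu)))
    · rw [hout' e] at hu
      have h2 : Acts ι t1 ((y⁻¹ : I) : UM) := by
        rw [eq_inv_of_mul_eq_one_left hu, ← map_inv]; exact acts_iota _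
      refine absurd ?_ wRefl_not_mem_I
      rcases hS.acts_unique wRefl_mem_W (I_le_W (y⁻¹).2) hact h2 with h | h
      · exact h ▸ (y⁻¹).2
      · rw [show wRefl = -1 * ((y⁻¹ : I) : UM) by rw [h, neg_one_mul, neg_neg]]
        exact mul_mem hS.facts.neg_mem (y⁻¹).2
  have hacts : ∀ k : W, Acts ι (φ k) k := by
    intro k
    rcases cases_W k with ⟨y, e⟩ | ⟨y, e⟩
    · rw [hin e, e]; exact acts_iota y
    · rw [hout' e, e]; exact hact.mul (acts_iota y) (I_le_W y.2)
  have hz : ∀ k : W, φ k * hS.z = hS.z * φ k := fun k => by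
    refine mul_inv_eq_iff_eq_mul.1 (hacts k hS.eI hS.eI ?_)
    show (-1 : UM) = (k : UM) * -1 * (k : UM)⁻¹
    rw [mul_neg, mul_one, neg_mul, mul_inv_cancel]
  refine ⟨φ, hinj, fun y => hin rfl, hacts, ?_⟩
  set C := centralizer ({hS.z} : Set G) with hC
  have memC : ∀ {x : G}, x * hS.z = hS.z * x ↔ x ∈ C := fun {x} => by
    rw [hC, mem_centralizer_iff]
    exact ⟨fun h w hw => by rw [Set.mem_singleton_iff.1 hw, h], fun h => (h _ rfl).symm⟩
  have hcard : Nat.card (Syl.subgroupOf W) = 2 ^ (Nat.card W).factorization 2 := by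
    rw [Nat.card_congr (subgroupOfEquivOfLe hSylW).toEquiv, card_Syl, Locals.card_W_factorization]
  let S : Sylow 2 W := Sylow.ofCard (Syl.subgroupOf W) hcard
  let ψ : W →* C := φ.codRestrict C fun k => memC.1 (hz k)
  obtain ⟨Q, hQ⟩ := (S.2.map ψ).exists_le_sylow
  have hrange : ∀ x ∈ (Q : Subgroup C), ∃ s : W, φ s = x := by
    intro x hx
    have hpow : ∀ y ∈ (Q : Subgroup C), ∃ k : ℕ, (y : G) ^ 2 ^ k = 1 := fun y hy => by
      obtain ⟨k, hk⟩ := Q.2 ⟨y, hy⟩
      exact ⟨k, congrArg (fun a : (Q : Subgroup C) => ((a : C) : G)) hk⟩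
    obtain ⟨c, hc, hac⟩ := hS.exists_acts (memC.2 x.2)
    rcases mem_W_iff.1 hc with h | h
    · obtain ⟨k, hk⟩ := hpow x hx
      obtain ⟨y, hy⟩ := hS.two_mem_range hno (a := ⟨c, h⟩) hac hk
      exact ⟨⟨y, I_le_W y.2⟩, (hin rfl).trans hy.symm⟩
    · have hw1 : φ ⟨wRefl, wRefl_mem_W⟩ = t1 := by
        rw [hout' (y := 1) (show wRefl = wRefl * ((1 : I) : UM) by rw [OneMemClass.coe_one, mul_one]),
          map_one, mul_one]
      have hmem : ψ ⟨wRefl, wRefl_mem_W⟩ * x ∈ (Q : Subgroup C) :=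
        mul_mem (hQ (mem_map_of_mem ψ Locals.w_mem_Syl)) hx
      obtain ⟨k, hk⟩ := hpow _ hmem
      rw [coe_mul, show (ψ ⟨wRefl, wRefl_mem_W⟩ : G) = t1 from hw1] at hk
      obtain ⟨y, hy⟩ := hS.two_mem_range hno (a := ⟨_, h⟩) (hact.mul hac hc) hk
      refine ⟨⟨wRefl * y, mul_mem wRefl_mem_W (I_le_W y.2)⟩, ?_⟩
      rw [hout' rfl, ← hy, ← mul_assoc, ht12, one_mul]
  have hQS : (Q : Subgroup C).comap ψ = S :=
    S.is_maximal' (Q.2.comap_of_injective ψ ((MonoidHom.injective_codRestrict φ C _).2 hinj))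
      (map_le_iff_le_comap.1 hQ)
  intro P hP hPz
  have hle : P ≤ C := fun x hx => memC.1 (hPz x hx)
  obtain ⟨R, hR⟩ := (hP.of_equiv (subgroupOfEquivOfLe hle).symm).exists_le_sylow
  obtain ⟨n, hn⟩ := MulAction.exists_smul_eq C R Q
  refine ⟨n, memC.2 n.2, fun x hx => ?_⟩
  have h1 : MulAut.conj n (⟨x, hle hx⟩ : C) ∈ (Q : Subgroup C) := by
    rw [← hn, Sylow.coe_subgroup_smul]
    exact smul_mem_pointwise_smul _ _ _ (hR hx)
  obtain ⟨s, hs⟩ := hrange _ h1
  refine ⟨s, ?_, hs.symm⟩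
  have h2 : s ∈ (Q : Subgroup C).comap ψ := by
    rw [mem_comap, show ψ s = MulAut.conj n (⟨x, hle hx⟩ : C) from Subtype.ext hs]
    exact h1
  rw [hQS] at h2
  exact h2

end Cfsg.Agent.O8Standard47
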