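import Cfsg.Agent.O8Standard47.Member

/-!
Two finite lemmas on the affine group acting on sign masks (helper97, for helper47's S3144).
-/

set_option autoImplicit false
set_option maxRecDepth 100000

namespace Cfsg.Agent.O8Standard47

namespace Twist

open Member (affN validB aff pres_aff pres_valid)

/-- The image of a mask under the affine map of a frame. -/
def pmF (a b c d v : ℕ) : ℕ :=
  pm8 (affN a b c d 0) (affN a b c d 1) (affN a b c d 2) (affN a b c d 3) (affN a b c d 4)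
    (affN a b c d 5) (affN a b c d 6) (affN a b c d 7) v

theorem permMask_eq {p : Equiv.Perm (Fin 8)} (hp : PresBlocks p) (v : ℕ) :
    permMask p v = pmF (p 0 : Fin 8) (p 1 : Fin 8) (p 2 : Fin 8) (p 4 : Fin 8) v := by
  rw [pm8_eq, pmF]
  congr 1
  exacts [pres_aff hp 0, pres_aff hp 1, pres_aff hp 2, pres_aff hp 3, pres_aff hp 4, pres_aff hp 5,
    pres_aff hp 6, pres_aff hp 7]

/-- The change of a pair. -/
def delta (a b c d x y : ℕ) : ℕ := pmF a b c d (2 ^ x + 2 ^ y) ^^^ (2 ^ x + 2 ^ y)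

/-- An involution changes two pairs differently. -/
def invB : Bool :=
  (List.range 8).all fun a => (List.range 8).all fun b => (List.range 8).all fun c =>
    (List.range 8).all fun d => !(validB a b c d) ||
      !((List.range 8).all fun x => Nat.beq (affN a b c d (affN a b c d x)) x) ||
      ((List.range 8).all fun x => Nat.beq (affN a b c d x) x) ||
      (List.range 8).any fun x => (List.range 8).any fun y => !(Nat.beq x y) &&
        !(Nat.beq (delta a b c d x y) 0) && !(Nat.beq (delta a b c d x y) 255) &&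
        (List.range 8).any fun z => (List.range 8).any fun w => !(Nat.beq z w) &&
          !(Nat.beq (delta a b c d z w) 0) && !(Nat.beq (delta a b c d z w) 255) &&
          !(Nat.beq (delta a b c d z w) (delta a b c d x y)) &&
          !(Nat.beq (delta a b c d z w ^^^ delta a b c d x y) 255)

theorem invB_true : invB = true := by decide +kernel

/-- Valid frames give permutations preserving the blocks. -/
def frameB : Bool :=
  (List.range 8).all fun a => (List.range 8).all fun b => (List.range 8).all fun c =>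
    (List.range 8).all fun d => !(validB a b c d) ||
      (((List.range 8).all fun x => (List.range 8).all fun y =>
          !(Nat.beq (affN a b c d x) (affN a b c d y)) || Nat.beq x y) &&
        ((List.range 8).all fun x => Nat.blt (affN a b c d x) 8) &&
        blockL.all fun m => blockL.any fun n => Nat.beq (pmF a b c d m) n)

theorem frameB_true : frameB = true := by decide +kernel

/-- The digits of a frame code. -/
def dig (q k : ℕ) : ℕ := (q >>> (3 * k)) % 8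

/-- The image of a mask under a frame code. -/
def pmQ (q v : ℕ) : ℕ := pmF (dig q 0) (dig q 1) (dig q 2) (dig q 3) v

/-- A valid code. -/
def validQ (q : ℕ) : Bool := validB (dig q 0) (dig q 1) (dig q 2) (dig q 3)

theorem exists_perm {q : ℕ} (hq : validQ q = true) :
    ∃ p : Equiv.Perm (Fin 8), PresBlocks p ∧ ∀ v, permMask p v = pmQ q v := by
  have h := frameB_true
  simp only [frameB, List.all_eq_true, List.mem_range, Bool.or_eq_true, Bool.not_eq_true',
    Bool.and_eq_true, List.any_eq_true, Nat.beq_eq, Nat.blt_eq] at h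
  have hlt : ∀ k, dig q k < 8 := fun k => Nat.mod_lt _ (by norm_num)
  obtain ⟨⟨hinj, hbd⟩, hbl⟩ := (h _ (hlt 0) _ (hlt 1) _ (hlt 2) _ (hlt 3)).resolve_left (by
    intro e
    rw [validQ] at hq
    rw [hq] at e
    exact Bool.noConfusion e)
  let f : Fin 8 → Fin 8 := fun x =>
    ⟨affN (dig q 0) (dig q 1) (dig q 2) (dig q 3) x.val, hbd x.val x.isLt⟩
  have hf : Function.Injective f := fun x y e => by
    refine Fin.ext ((hinj x.val x.isLt y.val y.isLt).resolve_left ?_)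
    rw [Bool.eq_false_iff, Ne, Nat.beq_eq]
    exact fun hn => hn (congrArg Fin.val e)
  let p : Equiv.Perm (Fin 8) := Equiv.ofBijective f ⟨hf, Finite.surjective_of_injective hf⟩
  have hm : ∀ v, permMask p v = pmQ q v := fun v => by rw [pm8_eq]; rfl
  refine ⟨p, fun m hm' => ?_, hm⟩
  obtain ⟨n, hn, e⟩ := hbl m hm'
  rw [hm, pmQ, e]
  exact hn

/-- The witnesses: mask, difference, moving frame, list of fixing frames with masks. -/
def wit : List (ℕ × ℕ × ℕ × List (ℕ × ℕ)) := [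
  (1, 252, 2177, [(2696, 17), (2696, 65), (2248, 5)]),
  (2, 245, 2136, [(2696, 17), (2696, 65), (2058, 3)]),
  (4, 243, 2248, [(2696, 17), (2696, 65), (2177, 5)]),
  (7, 192, 355, [(2696, 65)]),
  (8, 243, 2248, [(2696, 17), (2696, 65), (2177, 5)]),
  (11, 192, 226, [(2696, 65)]),
  (13, 192, 1281, [(2696, 65)]),
  (14, 192, 1281, [(2696, 65)]),
  (16, 207, 2696, [(2248, 5), (2248, 65), (2177, 5)]),
  (19, 192, 2586, [(2248, 65)]),
  (21, 160, 3265, [(2200, 33)]),
  (22, 9, 4008, [(2187, 3)]),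
  (25, 96, 3777, [(2128, 33)]),
  (26, 5, 3240, [(2058, 3)]),
  (28, 3, 2952, [(2177, 5)]),
  (31, 3, 2952, [(2177, 5)]),
  (32, 207, 2696, [(2248, 5), (2248, 65), (2177, 5)]),
  (35, 192, 2586, [(2248, 65)]),
  (37, 80, 3265, [(3224, 17)]),
  (38, 9, 1952, [(3723, 3)]),
  (41, 144, 3777, [(3664, 17)]),
  (42, 5, 1696, [(3082, 3)]),
  (44, 3, 2952, [(2177, 5)]),
  (47, 3, 2952, [(2177, 5)]),
  (49, 12, 3201, [(2248, 5)]),
  (50, 12, 3201, [(2248, 5)]),
  (52, 3, 3272, [(2177, 5)]),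
  (55, 3, 3272, [(2177, 5)]),
  (56, 3, 3272, [(2177, 5)]),
  (59, 3, 3272, [(2177, 5)]),
  (61, 12, 3201, [(2248, 5)]),
  (62, 12, 3201, [(2248, 5)]),
  (64, 63, 2696, [(2760, 5), (2760, 17), (2689, 5)]),
  (67, 48, 2586, [(2760, 17)]),
  (69, 160, 3265, [(2200, 33)]),
  (70, 9, 1376, [(3723, 3)]),
  (73, 144, 3777, [(3664, 17)]),
  (74, 5, 3168, [(2058, 3)]),
  (76, 3, 1800, [(2689, 5)]),
  (79, 3, 1800, [(2689, 5)]),
  (81, 160, 1057, [(3208, 33)]),
  (82, 5, 2712, [(2058, 3)]),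
  (84, 10, 2570, [(2200, 3)]),
  (87, 5, 2712, [(2058, 3)]),
  (88, 5, 2712, [(2058, 3)]),
  (91, 10, 2570, [(2200, 3)]),
  (93, 5, 2712, [(2058, 3)]),
  (94, 80, 3105, [(3208, 17)]),
  (97, 144, 3425, [(3720, 17)]),
  (98, 9, 2640, [(2187, 3)]),
  (100, 9, 2640, [(2187, 3)]),
  (103, 6, 2699, [(2128, 3)]),
  (104, 6, 2699, [(2128, 3)]),
  (107, 9, 2640, [(2187, 3)]),
  (109, 9, 2640, [(2187, 3)]),
  (110, 96, 1377, [(3720, 33)]),
  (112, 3, 1800, [(2689, 5)]),
  (115, 3, 1800, [(2689, 5)]),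
  (117, 5, 1632, [(3082, 3)]),
  (118, 96, 3777, [(2128, 33)]),
  (121, 9, 3936, [(2187, 3)]),
  (122, 80, 3265, [(3224, 17)]),
  (124, 48, 2586, [(2760, 17)]),
  (127, 63, 2696, [(2760, 5), (2760, 17), (2689, 5)]),
  (128, 63, 2696, [(2760, 5), (2760, 17), (2689, 5)]),
  (131, 48, 2586, [(2760, 17)]),
  (133, 80, 3265, [(3224, 17)]),
  (134, 9, 3936, [(2187, 3)]),
  (137, 96, 3777, [(2128, 33)]),
  (138, 5, 1632, [(3082, 3)]),
  (140, 3, 1800, [(2689, 5)]),
  (143, 3, 1800, [(2689, 5)]),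
  (145, 96, 1377, [(3720, 33)]),
  (146, 9, 2640, [(2187, 3)]),
  (148, 9, 2640, [(2187, 3)]),
  (151, 6, 2699, [(2128, 3)]),
  (152, 6, 2699, [(2128, 3)]),
  (155, 9, 2640, [(2187, 3)]),
  (157, 9, 2640, [(2187, 3)]),
  (158, 144, 3425, [(3720, 17)]),
  (161, 80, 3105, [(3208, 17)]),
  (162, 5, 2712, [(2058, 3)]),
  (164, 10, 2570, [(2200, 3)]),
  (167, 5, 2712, [(2058, 3)]),
  (168, 5, 2712, [(2058, 3)]),
  (171, 10, 2570, [(2200, 3)]),
  (173, 5, 2712, [(2058, 3)]),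
  (174, 160, 1057, [(3208, 33)]),
  (176, 3, 1800, [(2689, 5)]),
  (179, 3, 1800, [(2689, 5)]),
  (181, 5, 3168, [(2058, 3)]),
  (182, 144, 3777, [(3664, 17)]),
  (185, 9, 1376, [(3723, 3)]),
  (186, 160, 3265, [(2200, 33)]),
  (188, 48, 2586, [(2760, 17)]),
  (191, 63, 2696, [(2760, 5), (2760, 17), (2689, 5)]),
  (193, 12, 3201, [(2248, 5)]),
  (194, 12, 3201, [(2248, 5)]),
  (196, 3, 3272, [(2177, 5)]),
  (199, 3, 3272, [(2177, 5)]),
  (200, 3, 3272, [(2177, 5)]),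
  (203, 3, 3272, [(2177, 5)]),
  (205, 12, 3201, [(2248, 5)]),
  (206, 12, 3201, [(2248, 5)]),
  (208, 3, 2952, [(2177, 5)]),
  (211, 3, 2952, [(2177, 5)]),
  (213, 5, 1696, [(3082, 3)]),
  (214, 144, 3777, [(3664, 17)]),
  (217, 9, 1952, [(3723, 3)]),
  (218, 80, 3265, [(3224, 17)]),
  (220, 192, 2586, [(2248, 65)]),
  (223, 207, 2696, [(2248, 5), (2248, 65), (2177, 5)]),
  (224, 3, 2952, [(2177, 5)]),
  (227, 3, 2952, [(2177, 5)]),
  (229, 5, 3240, [(2058, 3)]),
  (230, 96, 3777, [(2128, 33)]),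
  (233, 9, 4008, [(2187, 3)]),
  (234, 160, 3265, [(2200, 33)]),
  (236, 192, 2586, [(2248, 65)]),
  (239, 207, 2696, [(2248, 5), (2248, 65), (2177, 5)]),
  (241, 192, 1281, [(2696, 65)]),
  (242, 192, 1281, [(2696, 65)]),
  (244, 192, 226, [(2696, 65)]),
  (247, 243, 2248, [(2696, 17), (2696, 65), (2177, 5)]),
  (248, 192, 355, [(2696, 65)]),
  (251, 243, 2248, [(2696, 17), (2696, 65), (2177, 5)]),
  (253, 245, 2136, [(2696, 17), (2696, 65), (2058, 3)]),
  (254, 252, 2177, [(2696, 17), (2696, 65), (2248, 5)])]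

/-- The check of one witness. -/
def outOK (e : ℕ × ℕ × ℕ × List (ℕ × ℕ)) : Bool :=
  Nat.blt e.2.1 256 && !(Nat.beq e.2.1 0) && !(Nat.beq e.2.1 255) && evenB e.2.1 && validQ e.2.2.1 &&
  (Nat.beq (pmQ e.2.2.1 e.1) (e.1 ^^^ e.2.1) || Nat.beq (pmQ e.2.2.1 e.1) (e.1 ^^^ e.2.1 ^^^ 255)) &&
  (e.2.2.2.all fun x => validQ x.1 && evenB x.2 && Nat.blt x.2 256 && Nat.beq (pmQ x.1 e.1) e.1) &&
  Nat.beq (e.2.2.2.foldl (fun acc x => acc ^^^ (x.2 ^^^ pmQ x.1 x.2)) 0) e.2.1

theorem wit_ok : wit.all outOK = true := by decide +kernel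

theorem wit_full : ((List.range 256).all fun v => evenB v || wit.any fun e => Nat.beq e.1 v) = true := by
  decide +kernel

theorem lift_list (v : ℕ) : ∀ (l : List (ℕ × ℕ)),
    (∀ x ∈ l, validQ x.1 = true ∧ evenB x.2 = true ∧ x.2 < 256 ∧ pmQ x.1 v = v) → ∀ acc : ℕ,
    ∃ l' : List (Equiv.Perm (Fin 8) × ℕ),
      (∀ x ∈ l', PresBlocks x.1 ∧ evenB x.2 = true ∧ x.2 < 256 ∧ permMask x.1 v = v) ∧
      l.foldl (fun acc x => acc ^^^ (x.2 ^^^ pmQ x.1 x.2)) acc =
        l'.foldl (fun acc x => acc ^^^ (x.2 ^^^ permMask x.1 x.2)) acc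
  | [], _, _ => ⟨[], by simp, rfl⟩
  | x :: l, h, acc => by
    obtain ⟨hq, he, hlt, hfix⟩ := h x List.mem_cons_self
    obtain ⟨p, hp, hm⟩ := exists_perm hq
    obtain ⟨l', hl, e⟩ := lift_list v l (fun y hy => h y (List.mem_cons_of_mem _ hy))
      (acc ^^^ (x.2 ^^^ pmQ x.1 x.2))
    refine ⟨(p, x.2) :: l', ?_, ?_⟩
    · intro y hy
      rcases List.mem_cons.1 hy with rfl | hy
      · exact ⟨hp, he, hlt, by rw [hm, hfix]⟩
      · exact hl y hy
    · rw [List.foldl_cons, List.foldl_cons, hm, e]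

end Twist

open Twist in
/-- A nontrivial involution preserving the blocks changes the pairs in more than one way. -/
theorem twist_false_pairs {p : Equiv.Perm (Fin 8)} (hp : PresBlocks p) (hinv : ∀ b, p (p b) = b) (hne : p ≠ 1)
    {v : ℕ} (h : ∀ a b : Fin 8, a ≠ b →
      permMask p (2 ^ a.val + 2 ^ b.val) ^^^ (2 ^ a.val + 2 ^ b.val) ∈ [0, 255, v, v ^^^ 255]) :
    False := by
  have h0 := invB_true
  simp only [invB, List.all_eq_true, List.mem_range, Bool.or_eq_true, Bool.not_eq_true',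
    List.any_eq_true, Bool.and_eq_true] at h0
  have ha := Member.pres_aff hp
  have hx := h0 _ (p 0).isLt _ (p 1).isLt _ (p 2).isLt _ (p 4).isLt
  have hv : Member.validB (p 0 : Fin 8) (p 1 : Fin 8) (p 2 : Fin 8) (p 4 : Fin 8) = true :=
    Member.pres_valid hp
  rcases hx with ((e | e) | e) | e
  · rw [hv] at e; exact Bool.noConfusion e
  · rw [List.all_eq_false] at e
    obtain ⟨x, hx, e⟩ := e
    refine e ?_
    rw [Nat.beq_eq, ← ha ⟨x, List.mem_range.1 hx⟩, ← ha, hinv]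
  · refine hne (Equiv.ext fun x => Fin.ext ?_)
    rw [Equiv.Perm.one_apply, ha x]
    exact Nat.eq_of_beq_eq_true (e x.val x.isLt)
  · obtain ⟨x, hx, y, hy, ⟨⟨hxy, n1⟩, n2⟩, z, hz, w, hw, ⟨⟨⟨hzw, m1⟩, m2⟩, m3⟩, m4⟩ := e
    rw [Bool.eq_false_iff, Ne, Nat.beq_eq] at hxy n1 n2 hzw m1 m2 m3 m4
    have key : ∀ (a b : ℕ), a < 8 → b < 8 → a ≠ b →
        delta (p 0 : Fin 8) (p 1 : Fin 8) (p 2 : Fin 8) (p 4 : Fin 8) a b ∈ [0, 255, v, v ^^^ 255] := by
      intro a b ha' hb' hab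
      have := h ⟨a, ha'⟩ ⟨b, hb'⟩ (fun e => hab (congrArg Fin.val e))
      rwa [permMask_eq hp] at this
    have k1 := key x y hx hy hxy
    have k2 := key z w hz hw hzw
    simp only [List.mem_cons, List.not_mem_nil, or_false] at k1 k2
    have hcan : v ^^^ (v ^^^ 255) = 255 := by rw [← Nat.xor_assoc, Nat.xor_self, Nat.zero_xor]
    have hcan' : (v ^^^ 255) ^^^ v = 255 := by rw [Nat.xor_comm, hcan]
    rcases k1 with k1 | k1 | k1 | k1
    · exact n1 k1
    · exact n2 k1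
    · rcases k2 with k2 | k2 | k2 | k2
      · exact m1 k2
      · exact m2 k2
      · exact m3 (k2.trans k1.symm)
      · exact m4 (by rw [k1, k2, hcan'])
    · rcases k2 with k2 | k2 | k2 | k2
      · exact m1 k2
      · exact m2 k2
      · exact m4 (by rw [k1, k2, hcan])
      · exact m3 (k2.trans k1.symm)

theorem two_bits : ∀ a b : Fin 8, a ≠ b → 2 ^ a.val + 2 ^ b.val < 256 ∧
    ((List.range 8).filter fun i => (2 ^ a.val + 2 ^ b.val).testBit i).length = 2 := by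
  decide +kernel

/-- The same for all masks with two bits. -/
theorem twist_false {p : Equiv.Perm (Fin 8)} (hp : PresBlocks p) (hinv : ∀ b, p (p b) = b) (hne : p ≠ 1)
    {v : ℕ} (h : ∀ t < 256, ((List.range 8).filter fun i => t.testBit i).length = 2 →
      permMask p t ^^^ t ∈ [0, 255, v, v ^^^ 255]) :
    False :=
  twist_false_pairs hp hinv hne fun a b hab => h _ (two_bits a b hab).1 (two_bits a b hab).2

open Twist in
/-- Witnesses for the odd sign changes. -/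
theorem outer_witness {v : ℕ} (hv : v < 256) (hodd : evenB v = false) :
    ∃ m < 256, m ≠ 0 ∧ m ≠ 255 ∧ evenB m = true ∧
      (∃ q, PresBlocks q ∧ (permMask q v = v ^^^ m ∨ permMask q v = v ^^^ m ^^^ 255)) ∧
      ∃ l : List (Equiv.Perm (Fin 8) × ℕ),
        (∀ x ∈ l, PresBlocks x.1 ∧ evenB x.2 = true ∧ x.2 < 256 ∧ permMask x.1 v = v) ∧
        m = l.foldl (fun acc x => acc ^^^ (x.2 ^^^ permMask x.1 x.2)) 0 := by
  have h1 := List.all_eq_true.1 wit_full v (List.mem_range.2 hv)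
  rw [Bool.or_eq_true, hodd, List.any_eq_true] at h1
  obtain ⟨e, he, hev⟩ := h1.resolve_left (by decide)
  obtain rfl := Nat.eq_of_beq_eq_true hev
  have h2 : outOK e = true := List.all_eq_true.1 wit_ok e he
  unfold outOK at h2
  simp only [ Bool.and_eq_true, Bool.or_eq_true, Bool.not_eq_true', Nat.blt_eq, Nat.beq_eq,
    List.all_eq_true] at h2
  obtain ⟨⟨⟨⟨⟨⟨⟨hm, h0⟩, h255⟩, hme⟩, hq⟩, hmv⟩, hl⟩, hfold⟩ := h2
  rw [Bool.eq_false_iff, Ne, Nat.beq_eq] at h0 h255
  obtain ⟨q, hq', hqm⟩ := exists_perm hq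
  obtain ⟨l', hl', e'⟩ := lift_list e.1 e.2.2.2
    (fun x hx => ⟨(hl x hx).1.1.1, (hl x hx).1.1.2, (hl x hx).1.2, (hl x hx).2⟩) 0
  exact ⟨e.2.1, hm, h0, h255, hme, ⟨q, hq', by rw [hqm]; exact hmv⟩, l', hl', hfold.symm.trans e'⟩

end Cfsg.Agent.O8Standard47
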