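import Cfsg.Agent.O8Standard47.RootCase
import Cfsg.Agent.O8Standard47.Twist

/-!
With a root of the central involution no conjugate of it acts as an inner automorphism.
-/

set_option autoImplicit false

namespace Cfsg.Agent.O8Standard47

open Subgroup
open Cfsg.Agent.O8Two50 (UM)

/-- The mask of two points. -/
def pairM (a c : Fin 8) : ℕ := ofB fun i => i == a || i == c

theorem pairM_lt (a c : Fin 8) : pairM a c < 256 := (ofB_spec _).2

theorem pairM_bits (a c i : Fin 8) : bits (pairM a c) i = (i == a || i == c) := by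
  rw [pairM, (ofB_spec _).1]

theorem two_bits_even : ∀ i j : Fin 8, i ≠ j →
    2 ^ i.val + 2 ^ j.val < 256 ∧ evenB (2 ^ i.val + 2 ^ j.val) = true := by decide +kernel

theorem trace_diag (v : ℕ) : Matrix.trace (diagS v).val = ∑ b : Fin 8, sgn v b := by
  refine Finset.sum_congr rfl fun b _ => ?_
  show mf id (bits v) b b = _
  simp [mf, sgn, bits]

theorem pair_trace : ∀ a c : Fin 8, a ≠ c →
    (∑ b : Fin 8, sgn (pairM a c) b) ≠ -(∑ b : Fin 8, sgn (pairM a c) b) := by decide +kernel

theorem pair_no_neg {b : UM} {a c : Fin 8} (hac : a ≠ c) :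
    b⁻¹ * diagS (pairM a c) * b ≠ -diagS (pairM a c) := by
  intro h
  have h1 := congrArg (fun u : UM => Matrix.trace u.val) h
  simp only [Units.val_mul, Units.val_neg, Matrix.trace_neg, Matrix.trace_units_conj'] at h1
  rw [trace_diag] at h1
  exact pair_trace a c hac h1

theorem diagS_comm_of_inv {x : UM} {f : Fin 8 → Fin 8} {s : Fin 8 → Bool} (e : x.val = mf f s) {t : ℕ}
    (ht : ∀ b, bits t (f b) = bits t b) : diagS t * x = x * diagS t := by
  refine Units.ext ?_
  rw [Units.val_mul, Units.val_mul, e, diagS_val, mf_mul, mf_mul]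
  congr 1
  funext b
  show xor (bits t (f b)) (s b) = xor (s (id b)) (bits t b)
  rw [ht, Bool.xor_comm]
  rfl

universe u

variable {G : Type u} [Group G] [Finite G] {ι : I →* G}

namespace Setting

variable (hS : Setting ι)
include hS

omit [Finite G] in
theorem e_mem_subgroupOf (K : Subgroup UM) (h : diagS 255 ∈ K) : hS.eI ∈ K.subgroupOf I := by
  rw [Subgroup.mem_subgroupOf]
  rwa [diagS_255] at h

omit [Finite G] in
theorem E0_two : IsPGroup 2 (E0.subgroupOf I) := fun ⟨t, ht⟩ =>
  ⟨1, Subtype.ext (Subtype.ext (by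
    show (t : UM) ^ 2 ^ 1 = 1
    rw [pow_one, pow_two]
    exact E_sq (E0_le_E ht)))⟩

/-- No conjugate of the involution acts as an inner automorphism. -/
theorem inner_root_false (hr : ∃ r ∈ centralizer (ι.range : Set G), r * r = hS.z) {g u : G}
    (hgu : g * hS.z * g⁻¹ = u) (hu : u * hS.z = hS.z * u) (hne : u ≠ hS.z)
    (hin : ∃ a : I, Acts ι u a) (hz' : ∃ a : I, Acts ι (g⁻¹ * hS.z * g) a) : False := by
  have hu2 : u * u = 1 := by
    rw [← hgu, show g * hS.z * g⁻¹ * (g * hS.z * g⁻¹) = g * (hS.z * hS.z) * g⁻¹ by group, hS.z_sq]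
    group
  have hu1 : u ≠ 1 := fun h => hS.z_ne (by
    rw [h] at hgu
    rw [show hS.z = g⁻¹ * (g * hS.z * g⁻¹) * g by group, hgu]; group)
  obtain ⟨a, ha⟩ := hin
  obtain ⟨c, hc, hac⟩ : ∃ c ∈ centralizer (ι.range : Set G), u = ι a * c :=
    ⟨_, split_inner ha, (mul_inv_cancel_left _ _).symm⟩
  have hcc := hS.pow_eq_one_parts hc (a := a) (n := 2) (by rw [← hac, pow_two, hu2])
  have haa : a * a = 1 ∨ a * a = hS.eI := by
    refine hS.mem_range_inf ?_
    have h : ι (a * a) = (c * c)⁻¹ := by
      refine eq_inv_of_mul_eq_one_left ?_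
      rw [map_mul]
      calc ι a * ι a * (c * c) = ι a * (ι a * c) * c := by group
        _ = ι a * (c * ι a) * c := by rw [(comm_range hc).eq]
        _ = u * u := by rw [hac]; group
        _ = 1 := hu2
    rw [h]
    exact inv_mem (mul_mem hc hc)
  -- conjugating by an element of the subgroup
  have move : ∀ g₁ : I, ∀ a₁ : I, a₁ = g₁ * a * g₁⁻¹ →
      ι g₁ * g * hS.z * (ι g₁ * g)⁻¹ = ι a₁ * c ∧ ι a₁ * c ≠ hS.z ∧
      ((ι g₁ * g)⁻¹ * hS.z * (ι g₁ * g) = g⁻¹ * hS.z * g) ∧ Acts ι (ι a₁ * c) a₁ := by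
    intro g₁ a₁ e
    have e1 : ι g₁ * u * (ι g₁)⁻¹ = ι a₁ * c := by
      rw [e, hac, map_mul, map_mul, map_inv]
      calc ι g₁ * (ι a * c) * (ι g₁)⁻¹ = ι g₁ * ι a * (c * (ι g₁)⁻¹) := by group
        _ = ι g₁ * ι a * ((ι g₁)⁻¹ * c) := by rw [((comm_range hc).inv_left).eq]
        _ = _ := by group
    refine ⟨by rw [← e1, ← hgu]; group, fun h => hne ?_, ?_, ?_⟩
    · rw [show u = (ι g₁)⁻¹ * (ι g₁ * u * (ι g₁)⁻¹) * ι g₁ by group, e1, h, mul_assoc,
        ← (show Commute (ι g₁) hS.z from hS.z_mem _ ⟨g₁, rfl⟩).eq, inv_mul_cancel_left]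
    · calc (ι g₁ * g)⁻¹ * hS.z * (ι g₁ * g) = g⁻¹ * ((ι g₁)⁻¹ * (hS.z * ι g₁)) * g := by group
        _ = _ := by
          rw [← (show Commute (ι g₁) hS.z from hS.z_mem _ ⟨g₁, rfl⟩).eq, inv_mul_cancel_left]
    · have h := (acts_iota a₁).mul (acts_centralizer hc) (one_mem W)
      rwa [mul_one] at h
  rcases haa with h1 | h2
  · -- an involution of the subgroup
    have hcc' : c * c = 1 := by
      have h : ι a * c * (ι a * c) = 1 := hac ▸ hu2
      rwa [show ι a * c * (ι a * c) = ι a * (c * ι a) * c by group, ← (comm_range hc).eq,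
        show ι a * (ι a * c) * c = ι a * ι a * (c * c) by group, ← map_mul, h1, map_one,
        one_mul] at h
    obtain ⟨g₁, hg₁, v, hv, hev, hd⟩ := hS.facts.inv_conj a a.2 (congrArg Subtype.val h1)
    set g' : I := ⟨g₁, hg₁⟩
    obtain ⟨d, hdu, hdE⟩ : ∃ d : I, g' * a * g'⁻¹ = d ∧ (d : UM) = diagS v := ⟨_, rfl, hd⟩
    obtain ⟨e1, e2, e3, hA⟩ := move g' d hdu.symm
    set u' := ι d * c
    have hu' : u' * hS.z = hS.z * u' := hS.acts_z hA
    have hcomm : ∀ t ∈ E0.subgroupOf I, ι t * u' = u' * ι t := by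
      intro t ht
      obtain ⟨w, hw, -, htw⟩ := (Subgroup.mem_subgroupOf.1 ht : (t : UM) ∈ E0)
      have h : t * d = d * t := Subtype.ext (show (t : UM) * d = d * t by
        rw [htw, hdE, diagS_mul, diagS_mul, Nat.xor_comm])
      rw [← mul_assoc, ← map_mul, h, map_mul, mul_assoc, (comm_range hc).eq, ← mul_assoc]
    obtain ⟨r', h2', hz, hconj⟩ := hS.lift_z hr e1 (by rwa [e3]) hS.E0_two hcomm
      (hS.e_mem_subgroupOf E0 ⟨255, by norm_num, by decide, rfl⟩)
    obtain ⟨b, hb, hab⟩ := hS.exists_acts hz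
    have hbb : b * b = (d : UM) ∨ b * b = -(d : UM) :=
      hS.acts_unique (I_le_W d.2) (mul_mem hb hb) hA (h2' ▸ hab.mul hab hb)
    have hd1 : (d : UM) ≠ 1 ∧ (d : UM) ≠ -1 := by
      refine ⟨fun h => ?_, fun h => ?_⟩
      · rcases hS.involution_eq hc hcc' with h' | h'
        · refine hu1 ?_
          have : a = 1 := by
            rw [show a = g'⁻¹ * (g' * a * g'⁻¹) * g' by group, hdu, show d = 1 from Subtype.ext h]
            group
          rw [hac, h', this, map_one, mul_one]
        · exact e2 (show ι d * c = hS.z by rw [show d = 1 from Subtype.ext h, h', map_one, one_mul])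
      · rcases hS.involution_eq hc hcc' with h' | h'
        · exact e2 (show ι d * c = hS.z by rw [show d = hS.eI from Subtype.ext h, h', mul_one]; rfl)
        · refine hu1 ?_
          have : a = hS.eI := by
            rw [show a = g'⁻¹ * (g' * a * g'⁻¹) * g' by group, hdu, show d = hS.eI from Subtype.ext h,
              mul_assoc, ← hS.eI_comm g', inv_mul_cancel_left]
          rw [hac, h', this]; exact hS.z_sq
    -- the twisted conjugation
    have htw : ∀ t < 256, evenB t = true → ∃ w < 256, b⁻¹ * diagS t * b = diagS w ∧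
        w ^^^ t ∈ [0, 255, v, v ^^^ 255] := by
      intro t ht het
      have hI : diagS t ∈ I := hS.facts.diag_mem t het
      have hneg : -diagS t = diagS (255 ^^^ t) := by rw [← diagS_mul, diagS_255, neg_mul, one_mul]
      have key : ∀ y : UM, diagS t * b * (diagS t)⁻¹ = b * y → b⁻¹ * diagS t * b = y * diagS t := by
        intro y hy
        calc b⁻¹ * diagS t * b = b⁻¹ * (diagS t * b * (diagS t)⁻¹) * diagS t := by group
          _ = _ := by rw [hy, inv_mul_cancel_left]
      have h4 := hS.twist hb hab (I_le_W d.2) hA (t := ⟨diagS t, hI⟩)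
        (hconj _ (Subgroup.mem_subgroupOf.2 ⟨t, ht, het, rfl⟩))
      rw [hdE] at h4
      rcases h4 with h | h | h | h
      · exact ⟨t, ht, by rw [key 1 (by rw [mul_one]; exact h), one_mul], by simp⟩
      · exact ⟨255 ^^^ t, xor_lt (by norm_num) ht,
          by rw [key (-1) (by rw [mul_neg, mul_one]; exact h), neg_mul, one_mul, hneg],
          by simp [Nat.xor_assoc]⟩
      · exact ⟨v ^^^ t, xor_lt hv ht, by rw [key _ h, diagS_mul], by simp [Nat.xor_assoc]⟩
      · exact ⟨v ^^^ 255 ^^^ t, xor_lt (xor_lt hv (by norm_num)) ht,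
          by rw [key (-diagS v) (by rw [mul_neg]; exact h), ← diagS_mul, ← diagS_mul, diagS_255, mul_neg,
            mul_one],
          by simp [Nat.xor_assoc]⟩
    obtain ⟨p, hp, s, hs⟩ := exists_mono (inv_mem hb) fun t ht het => by
      obtain ⟨w, hw, e, -⟩ := htw t ht het
      exact ⟨w, hw, by rwa [inv_inv]⟩
    have hinv : ∀ i, p (p i) = i := by
      intro i
      have hb2 : b * b = diagS v ∨ b * b = diagS (v ^^^ 255) := by
        rcases hbb with h | h <;> rw [h, hdE]
        · exact Or.inl rfl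
        · exact Or.inr (by rw [← diagS_mul, diagS_255, mul_neg, mul_one])
      have hkey : ∀ w : ℕ, b * b = diagS w → p (p i) = i := by
        intro w hw
        have h1 : (b⁻¹ * b⁻¹).val = (diagS w).val := by
          rw [← mul_inv_rev, hw, diagS_inv]
        rw [Units.val_mul, hs, mf_mul, diagS_val] at h1
        exact congrFun (mf_inj h1).1 i
      rcases hb2 with h | h <;> exact hkey _ h
    by_cases hp1 : p = 1
    · have hbE : b⁻¹ ∈ E := mem_E_of_comm (orth_of_mem_W (inv_mem hb)) fun t _ _ => by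
        have h := mono_conj_diag hs t
        rw [hp1, show permMask (1 : Equiv.Perm (Fin 8)) t = permMask 1 t from rfl] at h
        have h1 : diagS (permMask 1 t) = diagS t := by
          refine Units.ext ?_
          rw [diagS_val, diagS_val]
          congr 1
          funext i
          exact permMask_bits 1 t i
        rw [h1] at h
        exact mul_inv_eq_iff_eq_mul.1 h
      have hb1 : b * b = 1 := by
        have h := E_sq hbE
        rw [← mul_inv_rev] at h
        exact inv_eq_one.1 h
      rcases hbb with h | h <;> rw [hb1] at h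
      · exact hd1.1 h.symm
      · exact hd1.2 (by rw [← neg_neg (d : UM), ← h])
    refine twist_false_pairs (v := v) hp hinv hp1 fun i j hij => ?_
    obtain ⟨ht, het⟩ := two_bits_even i j hij
    obtain ⟨w, hw, e, hmem⟩ := htw _ ht het
    have e' := mono_conj_diag hs (2 ^ i.val + 2 ^ j.val)
    rw [inv_inv, e] at e'
    rwa [diagS_inj hw (Member.permMask_lt p _) e'] at hmem
  · -- an element squaring to the involution
    obtain ⟨g₁, hg₁, f, hf, hfn, s, hs⟩ := hS.facts.neg_conj a a.2 (congrArg Subtype.val h2)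
    set g' : I := ⟨g₁, hg₁⟩
    obtain ⟨a', hau, hae⟩ : ∃ a' : I, g' * a * g'⁻¹ = a' ∧ (a' : UM).val = mf f s := ⟨_, rfl, hs⟩
    obtain ⟨e1, -, e3, hA⟩ := move g' a' hau.symm
    set u' := ι a' * c
    have ha'2 : (a' : UM) * a' = -1 := by
      have h : a' * a' = hS.eI := by
        rw [← hau, show g' * a * g'⁻¹ * (g' * a * g'⁻¹) = g' * (a * a) * g'⁻¹ by group, h2, hS.eI_comm,
          mul_assoc, mul_inv_cancel, mul_one]
      exact congrArg Subtype.val h
    set T0 : Subgroup I := (E0 ⊓ centralizer ({(a' : UM)} : Set UM)).subgroupOf I with hT0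
    have hT0p : IsPGroup 2 T0 := hS.E0_two.to_le fun t ht => by
      rw [Subgroup.mem_subgroupOf] at ht ⊢
      exact (Subgroup.mem_inf.1 ht).1
    have hcomm : ∀ t ∈ T0, ι t * u' = u' * ι t := by
      intro t ht
      have h : t * a' = a' * t := Subtype.ext
        ((mem_centralizer_iff.1 (Subgroup.mem_inf.1 (Subgroup.mem_subgroupOf.1 ht)).2 _ rfl)).symm
      rw [← mul_assoc, ← map_mul, h, map_mul, mul_assoc, (comm_range hc).eq, ← mul_assoc]
    have heT : hS.eI ∈ T0 := by
      refine hS.e_mem_subgroupOf _ (Subgroup.mem_inf.2 ⟨⟨255, by norm_num, by decide, rfl⟩, ?_⟩)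
      rw [diagS_255, mem_centralizer_iff]
      intro y hy
      rw [Set.mem_singleton_iff.1 hy, mul_neg, mul_one, neg_mul, one_mul]
    obtain ⟨r', h2', hz, hconj⟩ := hS.lift_z hr e1 (by rwa [e3]) hT0p hcomm heT
    obtain ⟨b, hb, hab⟩ := hS.exists_acts hz
    have hbb : b * b = (a' : UM) ∨ b * b = -(a' : UM) :=
      hS.acts_unique (I_le_W a'.2) (mul_mem hb hb) hA (h2' ▸ hab.mul hab hb)
    have hcom : ∀ i : Fin 8, b * diagS (pairM i (f i)) = diagS (pairM i (f i)) * b := by
      intro i
      set t := pairM i (f i) with ht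
      have het : evenB t = true := two_mask _ _ (Ne.symm (hfn i))
      have hI : diagS t ∈ I := hS.facts.diag_mem t het
      have hta : diagS t * (a' : UM) = (a' : UM) * diagS t := diagS_comm_of_inv hae fun k => by
        rw [ht, pairM_bits, pairM_bits]
        have e1 : (f k == i) = (k == f i) := by
          rw [Bool.eq_iff_iff, beq_iff_eq, beq_iff_eq]
          exact ⟨fun h => by rw [← h, hf], fun h => by rw [h, hf]⟩
        have e2 : (f k == f i) = (k == i) := by
          rw [Bool.eq_iff_iff, beq_iff_eq, beq_iff_eq]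
          exact ⟨fun h => by rw [← hf k, h, hf], fun h => by rw [h]⟩
        rw [e1, e2, Bool.or_comm]
      have hmem : (⟨diagS t, hI⟩ : I) ∈ T0 := Subgroup.mem_subgroupOf.2 (Subgroup.mem_inf.2
        ⟨⟨t, pairM_lt _ _, het, rfl⟩, mem_centralizer_iff.2 fun y hy => by
          rw [Set.mem_singleton_iff.1 hy]; exact hta.symm⟩)
      have key : ∀ y : UM, diagS t * b * (diagS t)⁻¹ = b * y → b⁻¹ * diagS t * b = y * diagS t := by
        intro y hy
        calc b⁻¹ * diagS t * b = b⁻¹ * (diagS t * b * (diagS t)⁻¹) * diagS t := by group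
          _ = _ := by rw [hy, inv_mul_cancel_left]
      have bad : ∀ y : UM, y * y = -1 → Commute y (diagS t) → b⁻¹ * diagS t * b = y * diagS t → False := by
        intro y hy hyc h
        refine neg_one_ne ?_
        have h1 : (b⁻¹ * diagS t * b) * (b⁻¹ * diagS t * b) = 1 := by
          rw [show b⁻¹ * diagS t * b * (b⁻¹ * diagS t * b) = b⁻¹ * (diagS t * diagS t) * b by group,
            diagS_sq]
          group
        rw [h, show y * diagS t * (y * diagS t) = y * (diagS t * y) * diagS t by group, ← hyc.eq,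
          show y * (y * diagS t) * diagS t = y * y * (diagS t * diagS t) by group, hy, diagS_sq,
          mul_one] at h1
        exact h1
      rcases hS.twist hb hab (I_le_W a'.2) hA (t := ⟨diagS t, hI⟩) (hconj _ hmem) with h | h | h | h
      · exact (mul_inv_eq_iff_eq_mul.1 h).symm
      · exfalso
        refine pair_no_neg (b := b) (Ne.symm (hfn i)) ?_
        rw [key (-1) (by rw [mul_neg, mul_one]; exact h), neg_mul, one_mul]
      · exact absurd (key _ h) (fun h => bad _ ha'2 hta.symm h)
      · exact absurd (key (-(a' : UM)) (by rw [mul_neg]; exact h))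
          (fun h => bad _ (by rw [neg_mul_neg]; exact ha'2) (by
            show -(a' : UM) * diagS t = diagS t * -(a' : UM)
            rw [neg_mul, mul_neg, hta]) h)
    have hsupp : ∀ i j, i ≠ j → i ≠ f j → b.val i j = 0 := fun i j hij hfj =>
      comm_entry (hcom j) i j (by simp [pairM_bits, hij, hfj])
    have h0 := sq_offdiag (orth_of_mem_W hb) hf hfn hsupp 0
    have hent : (a' : UM).val (f 0) 0 ≠ 0 := by
      rw [hae]
      simp only [mf, if_true]
      cases s 0 <;> decide
    rcases hbb with h | h <;> rw [h] at h0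
    · exact hent h0
    · rw [Units.val_neg, Matrix.neg_apply, neg_eq_zero] at h0
      exact hent h0

end Setting

end Cfsg.Agent.O8Standard47
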