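import Cfsg.Agent.O8Standard47.Mono

/-!
The second class of elementary abelian subgroups of order `2^7`: signs constant on four pairs and
even numbers of swaps of the pairs.
-/

set_option autoImplicit false

namespace Cfsg.Agent.O8Standard47

open Cfsg.Agent.O8Two50 (UM)

/-- The generators: codes with masks (pair signs, double swaps). -/
def p1Gens : List (ℕ × ℕ) :=
  [(16434824, 3), (16434824, 12), (16434824, 48), (16434824, 192),
   (16434369, 0), (16406145, 0), (14599809, 0)]

/-- The subgroup. -/
def P1 : Subgroup UM := Subgroup.closure {u | ∃ q ∈ p1Gens, u.val = cm q.1 q.2}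

end Cfsg.Agent.O8Standard47
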