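import Cfsg.Agent.O8Standard47.Frame
import Cfsg.Agent.O8Standard47.InnerRoot
import Cfsg.Agent.O8Standard47.P1Def
import Cfsg.Agent.O8Standard47.Five

/-!
The frames of sign changes: the central involution is isolated and the standard subgroup is normal.
-/

set_option autoImplicit false
set_option linter.style.haveILetI false

namespace Cfsg.Agent.O8Standard47

open Subgroup
open Cfsg.Agent.O8Two50 (UM)

/-- The conjugacy statements used. -/
structure LocalFacts : Prop where
  inv_W : ∀ u ∈ W, u * u = 1 → ∃ g ∈ I, g * u * g⁻¹ ∈ E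
  sq_neg_W : ∀ u ∈ W, u * u = -1 → u ∈ I
  two_card_I : ∀ P : Subgroup UM, P ≤ I → IsPGroup 2 P → Nat.card P ≤ 2 ^ 13
  syl_le : Syl ≤ W
  elem_W : ∀ P : Subgroup UM, P ≤ W → (∀ x ∈ P, x * x = 1) → 256 ≤ Nat.card P →
    ∃ g ∈ W, ∀ x ∈ P, g * x * g⁻¹ ∈ E
  elem_I : ∀ P : Subgroup UM, P ≤ I → (∀ x ∈ P, x * x = 1) → 128 ≤ Nat.card P →
    ∃ g ∈ I, (∀ x ∈ P, g * x * g⁻¹ ∈ E0) ∨ P.map (MulAut.conj g).toMonoidHom = P1

/-- A sign change as an element of `I`. -/
noncomputable def maskOf (u : UM) : ℕ := ofB fun b => decide (u.val b b = -1)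

theorem maskOf_lt (u : UM) : maskOf u < 256 := (ofB_spec _).2

theorem maskOf_diagS {v : ℕ} (hv : v < 256) : maskOf (diagS v) = v := by
  refine bits_inj (maskOf_lt _) hv ?_
  rw [maskOf, (ofB_spec _).1]
  funext b
  rw [diagS_val]
  cases h : bits v b <;> simp [mf, h] <;> decide

theorem mem_E_mask {u : UM} (h : u ∈ E) : u = diagS (maskOf u) := by
  obtain ⟨v, hv, rfl⟩ := h
  rw [maskOf_diagS hv]

theorem neg_diagS (v : ℕ) : -diagS v = diagS (255 ^^^ v) := by
  rw [← diagS_mul, diagS_255, neg_mul, one_mul]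

theorem blocks_even : (blockL.all fun v => evenB v && decide (v < 256)) = true := by decide +kernel

universe u

variable {G : Type u} [Group G] [Finite G] {ι : I →* G}

namespace Setting

variable (hS : Setting ι)
include hS

omit [Finite G] in
theorem E0_le_I {k : UM} (h : k ∈ E0) : k ∈ I := by
  obtain ⟨v, -, hev, rfl⟩ := h
  exact hS.facts.diag_mem v hev

/-- A group of sign changes inside the centraliser of the involution that is unique there isolates it. -/
theorem isolated_of_frame (hno : ¬ ∃ r ∈ centralizer (ι.range : Set G), r * r = hS.z)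
    (K : Subgroup UM) (hK0 : E0 ≤ K) (hKE : K ≤ E) (hKW : K ≤ W)
    (Φ : K →* G) (hinj : Function.Injective Φ)
    (hΦI : ∀ (k : K) (h : (k : UM) ∈ I), Φ k = ι ⟨k, h⟩)
    (hΦA : ∀ k : K, Acts ι (Φ k) k)
    (hKn : ∀ p, PresBlocks p → ∀ (k : K), ∀ hp : mono p 0 ∈ I, ∃ hk : mono p 0 * k * (mono p 0)⁻¹ ∈ K,
      ι ⟨_, hp⟩ * Φ k * (ι ⟨_, hp⟩)⁻¹ = Φ ⟨_, hk⟩)
    (hinv : ∀ u : G, u * u = 1 → u * hS.z = hS.z * u → ∃ n, n * hS.z = hS.z * n ∧
      n * u * n⁻¹ ∈ Φ.range)
    (hbig : (∀ γ ∈ normalizer (Φ.range : Set G), γ * hS.z = hS.z * γ) → ∀ g : G,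
      g * hS.z * g⁻¹ ∈ Φ.range →
        ∃ n, n * hS.z = hS.z * n ∧ ∀ x ∈ Φ.range, n * (g⁻¹ * x * g) * n⁻¹ ∈ Φ.range)
    {g : G} (hu : g * hS.z * g⁻¹ * hS.z = hS.z * (g * hS.z * g⁻¹)) :
    g * hS.z * g⁻¹ = hS.z := by
  classical
  set V := Φ.range with hVdef
  choose pre hpre using fun x : V => MonoidHom.mem_range.1 x.2
  let ℓ : V → ℕ := fun x => maskOf (pre x : UM)
  have hval : ∀ x : V, (pre x : UM) = diagS (ℓ x) := fun x => mem_E_mask (hKE (pre x).2)
  have hpre' : ∀ (k : K) (h : Φ k ∈ V), pre ⟨Φ k, h⟩ = k := fun k h => hinj (hpre _)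
  have hmV : ∀ k, Φ k ∈ V := fun k => ⟨k, rfl⟩
  have hzK : (-1 : UM) ∈ K := hK0 ⟨255, by norm_num, by decide, diagS_255.symm⟩
  have hzΦ : Φ ⟨-1, hzK⟩ = hS.z := hΦI _ hS.facts.neg_mem
  set z' : V := ⟨hS.z, hzΦ ▸ hmV _⟩ with hz'def
  have hlz : ℓ z' = 255 := by
    have h : pre z' = ⟨-1, hzK⟩ := hinj ((hpre z').trans hzΦ.symm)
    show maskOf _ = 255
    rw [h, show ((⟨-1, hzK⟩ : K) : UM) = diagS 255 from diagS_255.symm, maskOf_diagS (by norm_num)]
  letI : MulDistribMulAction ↥(normalizer (V : Set G)) ↥V :=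
    MulDistribMulAction.compHom _ V.normalizerMonoidHom
  have hsmul : ∀ (γ : ↥(normalizer (V : Set G))) (a : V), ((γ • a : V) : G) = γ * a * (γ : G)⁻¹ :=
    fun γ a => rfl
  have hfix : ∀ γ ∈ normalizer (V : Set G), γ * hS.z = hS.z * γ := by
    have hstab : ∀ γ : ↥(normalizer (V : Set G)), γ • z' = z' →
        ∃ p, PresBlocks p ∧ ∀ a, ℓ (γ • a) = permMask p (ℓ a) := by
      intro γ hγ
      have hγz : (γ : G) * hS.z = hS.z * γ :=
        mul_inv_eq_iff_eq_mul.1 (show (γ : G) * hS.z * (γ : G)⁻¹ = hS.z from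
          (hsmul γ z').symm.trans (congrArg Subtype.val hγ))
      obtain ⟨b, hb, hab⟩ := hS.exists_acts hγz
      -- the action on the even part
      have heven : ∀ (k : K) (hkI : (k : UM) ∈ I) (hV : Φ k ∈ V),
          ((pre (γ • ⟨Φ k, hV⟩) : K) : UM) = b * k * b⁻¹ := by
        intro k hkI hV
        have hc : b * k * b⁻¹ ∈ I := conj_mem_I hb hkI
        have h1 : (γ : G) * Φ k * (γ : G)⁻¹ = ι ⟨_, hc⟩ := by
          rw [hΦI k hkI]; exact hab ⟨k, hkI⟩ ⟨_, hc⟩ rfl
        set k' := pre (γ • ⟨Φ k, hV⟩) with hk'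
        have h2 : Φ k' = ι ⟨_, hc⟩ := (hpre _).trans ((hsmul _ _).trans h1)
        have h3 : Acts ι (Φ k') (b * k * b⁻¹) := h2 ▸ acts_iota _
        rcases hS.acts_unique (hKW k'.2) (I_le_W hc) (hΦA k') h3 with e | e
        · exact e.symm
        · exfalso
          have hk'I : (k' : UM) ∈ I := by
            rw [← neg_neg (k' : UM), ← e, ← neg_one_mul]
            exact mul_mem hS.facts.neg_mem hc
          have h4 := (hΦI k' hk'I).symm.trans h2
          have h5 : (k' : UM) = b * k * b⁻¹ := congrArg Subtype.val (hS.inj h4)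
          rw [h5, eq_comm, ← neg_one_mul] at e
          exact neg_one_ne (mul_eq_right.1 e)
      obtain ⟨p, hp, s, hs⟩ := exists_mono hb fun v hv hev => by
        have hk : diagS v ∈ K := hK0 ⟨v, hv, hev, rfl⟩
        refine ⟨ℓ (γ • ⟨Φ ⟨_, hk⟩, hmV _⟩), maskOf_lt _, ?_⟩
        rw [← hval, heven ⟨_, hk⟩ (hS.facts.diag_mem v hev)]
      refine ⟨p, hp, fun a => ?_⟩
      have hpI : mono p 0 ∈ I := mono_mem_I hp (by decide)
      have hpval : (mono p 0).val = mf p fun i => (0 : ℕ).testBit i := rfl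
      by_cases haI : (pre a : UM) ∈ I
      · have h1 := heven (pre a) haI (hmV _)
        rw [show (⟨Φ (pre a), hmV _⟩ : V) = a from Subtype.ext (hpre a), hval, hval,
          mono_conj_diag hs] at h1
        exact diagS_inj (maskOf_lt _) (Member.permMask_lt _ _) h1
      · -- an odd sign change
        obtain ⟨hk₁, hk₁e⟩ := hKn p hp (pre a) hpI
        set k₁ : K := ⟨_, hk₁⟩
        have hk₁v : (k₁ : UM) = b * (pre a : UM) * b⁻¹ := by
          show mono p 0 * (pre a : UM) * (mono p 0)⁻¹ = _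
          rw [hval, mono_conj_diag hpval, mono_conj_diag hs]
        have hA1 : Acts ι ((γ : G) * Φ (pre a) * (γ : G)⁻¹) (k₁ : UM) := by
          rw [hk₁v]
          have hinvA : Acts ι (γ : G)⁻¹ b⁻¹ := fun y y' e => by
            have h := hab y' y (by rw [e]; group)
            rw [← h]; group
          exact (hab.mul (hΦA _) (hKW (pre a).2)).mul hinvA (inv_mem hb)
        set k' := pre (γ • a) with hk'
        have h2 : Φ k' = (γ : G) * Φ (pre a) * (γ : G)⁻¹ := by
          rw [hpre, hsmul, hpre]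
        have hk'v : (k' : UM) = k₁ := by
          rcases hS.acts_unique (hKW k'.2) (hKW hk₁) (hΦA k') (h2 ▸ hA1) with e | e
          · exact e.symm
          · -- the sign is excluded by an element of odd order
            exfalso
            set y : G := ι ⟨_, hpI⟩ with hy
            set t : G := Φ (pre a) with ht
            have hyinv : Acts ι y⁻¹ (mono p 0)⁻¹ := by
              rw [hy, ← map_inv]; exact acts_iota _
            set sM : ℕ := ofB s with hsM
            have hbs : (mono p 0)⁻¹ * b = diagS sM := by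
              rw [inv_mul_eq_iff_eq_mul]
              refine Units.ext ?_
              rw [Units.val_mul, hs, hpval, diagS_val, mf_mul, hsM, (ofB_spec _).1]
              congr 1
              funext i
              simp
            have hn : Acts ι (y⁻¹ * γ) (diagS sM) := hbs ▸ hyinv.mul hab hb
            have hodd : evenB (ℓ a) = false := by
              by_contra h
              rw [Bool.not_eq_false] at h
              exact haI (by rw [hval]; exact hS.facts.diag_mem _ h)
            have hsK : diagS sM ∈ K := by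
              cases hev : evenB sM
              · have h1 : diagS (sM ^^^ ℓ a) ∈ K :=
                  hK0 ⟨_, xor_lt (ofB_spec _).2 (maskOf_lt _), by rw [evenB_xor, hev, hodd]; rfl, rfl⟩
                have h2 := mul_mem h1 (pre a).2
                rwa [hval, diagS_mul, Nat.xor_assoc, Nat.xor_self, Nat.xor_zero] at h2
              · exact hK0 ⟨_, (ofB_spec _).2, hev, rfl⟩
            set d : K := ⟨_, hsK⟩ with hd
            set c : G := Φ d⁻¹ * (y⁻¹ * γ) with hc
            have hcA : Acts ι c ((1 : I) : UM) := by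
              have h := (hΦA d⁻¹).mul hn (diagS_mem_W sM)
              rwa [Subgroup.coe_inv, show (d : UM) = diagS sM from rfl, inv_mul_cancel] at h
            have hcC : c ∈ centralizer (ι.range : Set G) := by
              have h := split_inner hcA
              rwa [map_one, inv_one, one_mul] at h
            have hk'eq : k' = ⟨-1, hzK⟩ * k₁ := Subtype.ext (by
              show (k' : UM) = -1 * (k₁ : UM)
              rw [show (k₁ : UM) = -(k' : UM) from e, neg_one_mul, neg_neg])
            have hdt : Φ d⁻¹ * t * (Φ d⁻¹)⁻¹ = t := by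
              rw [ht, ← map_mul, ← map_inv, ← map_mul]
              refine congrArg Φ (Subtype.ext ?_)
              show (d : UM)⁻¹ * (pre a : UM) * ((d : UM)⁻¹)⁻¹ = _
              rw [hval, show (d : UM) = diagS sM from rfl, diagS_inv, diagS_inv, diagS_mul, diagS_mul,
                Nat.xor_comm sM, Nat.xor_assoc, Nat.xor_self, Nat.xor_zero]
            have hdz : Φ d⁻¹ * hS.z * (Φ d⁻¹)⁻¹ = hS.z := by
              rw [← hzΦ, ← map_mul, ← map_inv, ← map_mul]
              refine congrArg Φ (Subtype.ext ?_)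
              show (d : UM)⁻¹ * -1 * ((d : UM)⁻¹)⁻¹ = -1
              rw [mul_neg, mul_one, neg_mul, mul_inv_cancel]
            have hct : c * t * c⁻¹ = t * hS.z := by
              have h1 : (γ : G) * t * (γ : G)⁻¹ = hS.z * (y * t * y⁻¹) := by
                rw [← h2, hk'eq, map_mul, hzΦ, hk₁e]
              have hyz : Commute y hS.z := hS.z_mem _ ⟨_, rfl⟩
              have htz : Commute t hS.z := hS.acts_z (hΦA _)
              calc c * t * c⁻¹ = Φ d⁻¹ * (y⁻¹ * ((γ : G) * t * (γ : G)⁻¹) * y) * (Φ d⁻¹)⁻¹ := by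
                    rw [hc]; group
                _ = Φ d⁻¹ * (hS.z * t) * (Φ d⁻¹)⁻¹ := by
                    rw [h1, show y⁻¹ * (hS.z * (y * t * y⁻¹)) * y = y⁻¹ * hS.z * y * t by group,
                      mul_assoc y⁻¹ hS.z y, ← hyz.eq, inv_mul_cancel_left]
                _ = (Φ d⁻¹ * hS.z * (Φ d⁻¹)⁻¹) * (Φ d⁻¹ * t * (Φ d⁻¹)⁻¹) := by group
                _ = t * hS.z := by rw [hdz, hdt, htz.eq]
            have hcz : Commute c hS.z := (hcC _ ⟨hS.eI, rfl⟩).symm
            have hpow : ∀ j : ℕ, c ^ j * t * (c ^ j)⁻¹ = t * hS.z ^ j := by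
              intro j
              induction j with
              | zero => simp
              | succ j ih =>
                rw [pow_succ', show c * c ^ j * t * (c * c ^ j)⁻¹ = c * (c ^ j * t * (c ^ j)⁻¹) * c⁻¹ by
                  group, ih, show c * (t * hS.z ^ j) * c⁻¹ = (c * t * c⁻¹) * (c * hS.z ^ j * c⁻¹) by group,
                  hct, (hcz.pow_right j).eq, mul_inv_cancel_right, mul_assoc, pow_succ']
            obtain ⟨i, m, hm, hcm⟩ := Nat.exists_eq_pow_mul_and_not_dvd (orderOf_pos c).ne' 2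
              (by norm_num)
            have hcm2 : (c ^ m) ^ 2 ^ i = 1 := by
              rw [← pow_mul, mul_comm, ← hcm, pow_orderOf_eq_one]
            have hcmA : Acts ι (c ^ m) ((1 : I) : UM) := acts_centralizer (pow_mem hcC m)
            obtain ⟨bb, hbb⟩ := hS.two_mem_range hno hcmA hcm2
            have hcomm : c ^ m * t * (c ^ m)⁻¹ = t := by
              rcases hS.mem_range_inf (a := bb) (hbb ▸ pow_mem hcC m) with h | h <;> rw [hbb, h]
              · rw [map_one]; group
              · rw [mul_inv_eq_iff_eq_mul]; exact (hS.acts_z (hΦA _)).symm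
            rw [hpow, mul_eq_left] at hcomm
            rcases Nat.even_or_odd m with hm' | ⟨l, rfl⟩
            · exact hm (even_iff_two_dvd.1 hm')
            · rw [pow_succ, pow_mul, pow_two, hS.z_sq, one_pow, one_mul] at hcomm
              exact hS.z_ne hcomm
        show maskOf (k' : UM) = _
        rw [hk'v, hk₁v, hval, mono_conj_diag hs, maskOf_diagS (Member.permMask_lt _ _)]
    have hreal : ∀ p, PresBlocks p → ∃ γ : ↥(normalizer (V : Set G)), γ • z' = z' ∧
        ∀ a, ℓ (γ • a) = permMask p (ℓ a) := by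
      intro p hp
      have hpI : mono p 0 ∈ I := mono_mem_I hp (by decide)
      have hpval : (mono p 0).val = mf p fun i => (0 : ℕ).testBit i := rfl
      set y : G := ι ⟨_, hpI⟩
      have hsub : ∀ x ∈ V, y * x * y⁻¹ ∈ V := by
        rintro _ ⟨k, rfl⟩
        obtain ⟨hk, he⟩ := hKn p hp k hpI
        exact he ▸ hmV _
      have hmap : V.map (MulAut.conj y).toMonoidHom = V :=
        Subgroup.eq_of_le_of_card_ge (by rintro _ ⟨x, hx, rfl⟩; exact hsub x hx)
          (le_of_eq (Subgroup.card_map_of_injective (MulAut.conj y).injective).symm)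
      have hyN : y ∈ normalizer (V : Set G) := by
        rw [mem_normalizer_iff]
        refine fun x => ⟨hsub x, fun hx => ?_⟩
        rw [← hmap] at hx
        obtain ⟨x', hx', e⟩ := hx
        rwa [← (MulAut.conj y).injective (show MulAut.conj y x' = MulAut.conj y x from e)]
      refine ⟨⟨y, hyN⟩, Subtype.ext ?_, fun a => ?_⟩
      · rw [hsmul]
        show y * hS.z * y⁻¹ = hS.z
        rw [(show Commute y hS.z from hS.z_mem _ ⟨_, rfl⟩).eq, mul_inv_cancel_right]
      · obtain ⟨hk, he⟩ := hKn p hp (pre a) hpI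
        have h : pre ((⟨y, hyN⟩ : ↥(normalizer (V : Set G))) • a) = ⟨_, hk⟩ :=
          hinj (by rw [hpre, hsmul, ← he, hpre])
        show maskOf ((pre _ : K) : UM) = _
        rw [h, show ((⟨_, hk⟩ : K) : UM) = mono p 0 * (pre a : UM) * (mono p 0)⁻¹ from rfl, hval,
          mono_conj_diag hpval, maskOf_diagS (Member.permMask_lt _ _)]
    have hnoB : ∀ γ : ↥(normalizer (V : Set G)), ℓ (γ • z') ∉ blocks := by
      intro γ hv
      have h := List.all_eq_true.1 blocks_even _ ((mem_blockL _).2 hv)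
      rw [Bool.and_eq_true] at h
      have hI : diagS (ℓ (γ • z')) ∈ I := hS.facts.diag_mem _ h.1
      refine hS.no_block hno hv hI (g := γ) ?_
      rw [show (γ : G) * hS.z * (γ : G)⁻¹ = Φ (pre (γ • z')) by rw [hpre, hsmul],
        hΦI _ (by rw [hval]; exact hI)]
      exact congrArg ι (Subtype.ext (hval _))
    have hall := orbit_trivial ℓ (fun a => maskOf_lt _) (fun a b h => by
        have e : pre a = pre b := Subtype.ext (by rw [hval, hval, h])
        exact Subtype.ext (by rw [← hpre a, ← hpre b, e]))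
      (fun a b => by
        have e : pre (a * b) = pre a * pre b := hinj (by rw [map_mul, hpre, hpre, hpre]; rfl)
        have h : ((pre (a * b) : K) : UM) = diagS (ℓ a ^^^ ℓ b) := by
          rw [e, Subgroup.coe_mul, hval, hval, diagS_mul]
        rw [hval] at h
        exact diagS_inj (maskOf_lt _) (xor_lt (maskOf_lt _) (maskOf_lt _)) h)
      z' hlz hstab hreal hnoB
    intro γ hγ
    have h := congrArg Subtype.val (hall ⟨γ, hγ⟩)
    rw [hsmul] at h
    exact mul_inv_eq_iff_eq_mul.1 h
  -- the involution is isolated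
  set u := g * hS.z * g⁻¹ with hudef
  have hu2 : u * u = 1 := by
    rw [hudef, show g * hS.z * g⁻¹ * (g * hS.z * g⁻¹) = g * (hS.z * hS.z) * g⁻¹ by group, hS.z_sq]
    group
  obtain ⟨n, hn, hnu⟩ := hinv u hu2 hu
  have hx : n * g * hS.z * (n * g)⁻¹ ∈ V := by
    rwa [show n * g * hS.z * (n * g)⁻¹ = n * u * n⁻¹ by rw [hudef]; group]
  obtain ⟨n', hn', hsub⟩ := hbig hfix (n * g) hx
  set h := n' * (n * g)⁻¹ with hh
  have hsub' : ∀ x ∈ V, h * x * h⁻¹ ∈ V := by
    intro x hx'
    have := hsub x hx'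
    rwa [show h * x * h⁻¹ = n' * ((n * g)⁻¹ * x * (n * g)) * n'⁻¹ by rw [hh]; group]
  have hmap : V.map (MulAut.conj h).toMonoidHom = V :=
    Subgroup.eq_of_le_of_card_ge (by rintro _ ⟨x, hx', rfl⟩; exact hsub' x hx')
      (le_of_eq (Subgroup.card_map_of_injective (MulAut.conj h).injective).symm)
  have hhN : h ∈ normalizer (V : Set G) := by
    rw [mem_normalizer_iff]
    refine fun x => ⟨hsub' x, fun hx' => ?_⟩
    rw [← hmap] at hx'
    obtain ⟨x', hx'', e⟩ := hx'
    rwa [← (MulAut.conj h).injective (show MulAut.conj h x' = MulAut.conj h x from e)]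
  have hfixh := hfix h hhN
  have h1 : h⁻¹ * hS.z * h = hS.z := by
    rw [mul_assoc, ← hfixh, inv_mul_cancel_left]
  have h2 : n * u * n⁻¹ = hS.z := by
    rw [show n * u * n⁻¹ = (n * g) * (n'⁻¹ * (n' * hS.z)) * (n * g)⁻¹ by rw [hudef]; group, hn',
      show n * g * (n'⁻¹ * (hS.z * n')) * (n * g)⁻¹ = h⁻¹ * hS.z * h by rw [hh]; group, h1]
  rw [show u = n⁻¹ * (n * u * n⁻¹) * n by group, h2, mul_assoc, ← hn, inv_mul_cancel_left]

end Setting

end Cfsg.Agent.O8Standard47
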