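import Cfsg.Agent.O8Standard47.Aut
import Cfsg.Agent.O8Standard47.Diag
import Cfsg.Agent.O8Standard47.Member
import Cfsg.Agent.InvChar.ZStarApps
import Cfsg.Agent.S0215

/-!
A standard subgroup `I = 2.Omega8+(2)` with cyclic two-part in its centraliser: the setting, the action
of the centraliser of the central involution, and the case of a root of that involution.
-/

set_option autoImplicit false

namespace Cfsg.Agent.O8Standard47

open Subgroup
open Cfsg.Agent.O8Two50 (UM)

/-- The two-local facts used about the Weyl group. -/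
structure Facts : Prop where
  neg_mem : (-1 : UM) ∈ I
  diag_mem : ∀ v, evenB v = true → diagS v ∈ I
  orth : ∀ u ∈ W, u.val * u.val.transpose = 1
  W_cases : ∀ u, u ∈ W → u ∈ I ∨ wRefl * u ∈ I
  inv_conj : ∀ a ∈ I, a * a = 1 → ∃ g ∈ I, g * a * g⁻¹ ∈ E0
  neg_conj : ∀ a ∈ I, a * a = -1 → ∃ g ∈ I, ∃ f : Fin 8 → Fin 8, (∀ b, f (f b) = b) ∧
    (∀ b, f b ≠ b) ∧ ∃ s, (g * a * g⁻¹).val = mf f s

theorem conj_mem_I {b y : UM} (hb : b ∈ W) (hy : y ∈ I) : b * y * b⁻¹ ∈ I := by
  have hle : W ≤ normalizer (I : Set UM) := by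
    refine sup_le le_normalizer (zpowers_le.2 ?_)
    rw [mem_normalizer_iff]
    intro x
    have hw : wRefl⁻¹ = wRefl := inv_eq_of_mul_eq_one_right (diagS_sq 1)
    rw [hw]
    refine ⟨fun hx => wRefl_normalizes x hx, fun hx => ?_⟩
    have h := wRefl_normalizes _ hx
    rwa [show wRefl * (wRefl * x * wRefl) * wRefl = wRefl * wRefl * x * (wRefl * wRefl) by group,
      show wRefl * wRefl = 1 from diagS_sq 1, one_mul, mul_one] at h
  exact (mem_normalizer_iff.1 (hle hb) y).1 hy

theorem centralizer_I {x : UM} (h : ∀ y ∈ I, y * x = x * y) : x = 1 ∨ x = -1 :=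
  Bridge.comm_scalar fun r => h _ (Bridge.unitY_mem 0 r)

theorem neg_one_ne : (-1 : UM) ≠ 1 := Bridge.neg_one_ne_one

universe u

variable {G : Type u} [Group G] [Finite G] {ι : I →* G}

/-- The setting. -/
structure Setting (ι : I →* G) : Prop where
  inj : Function.Injective ι
  std : Cfsg.IsStandardSubgroup ι.range
  cyc : ∀ R : Sylow 2 ↥(centralizer (ι.range : Set G)),
    IsCyclic ↥(R : Subgroup ↥(centralizer (ι.range : Set G)))
  facts : Facts

/-- `x` acts on the subgroup as conjugation by `b`. -/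
def Acts (ι : I →* G) (x : G) (b : UM) : Prop :=
  ∀ y y' : I, (y' : UM) = b * y * b⁻¹ → x * ι y * x⁻¹ = ι y'

omit [Finite G] in
theorem Acts.mul {x x' : G} {b b' : UM} (h : Acts ι x b) (h' : Acts ι x' b') (hb' : b' ∈ W) :
    Acts ι (x * x') (b * b') := by
  intro y y' e
  rw [show x * x' * ι y * (x * x')⁻¹ = x * (x' * ι y * x'⁻¹) * x⁻¹ by group,
    h' y ⟨_, conj_mem_I hb' y.2⟩ rfl]
  exact h _ _ (by rw [e]; show _ = b * (b' * y * b'⁻¹) * b⁻¹; group)

omit [Finite G] in
theorem acts_iota (g : I) : Acts ι (ι g) g := fun y y' e => by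
  rw [show y' = g * y * g⁻¹ from Subtype.ext e, map_mul, map_mul, map_inv]

omit [Finite G] in
theorem acts_centralizer {c : G} (hc : c ∈ centralizer (ι.range : Set G)) : Acts ι c 1 := by
  intro y y' e
  rw [show y' = y from Subtype.ext (by simpa using e), ← hc _ ⟨y, rfl⟩, mul_inv_cancel_right]

namespace Setting

variable (hS : Setting ι)
include hS

/-- The central element. -/
def eI : I := ⟨-1, hS.facts.neg_mem⟩

/-- The central involution. -/
def z : G := ι hS.eI

omit [Finite G] in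
theorem eI_comm (y : I) : y * hS.eI = hS.eI * y :=
  Subtype.ext (show (y : UM) * -1 = -1 * y by rw [mul_neg, mul_one, neg_mul, one_mul])

omit [Finite G] in
theorem z_ne : hS.z ≠ 1 := fun h => neg_one_ne
  (congrArg Subtype.val (hS.inj (h.trans (map_one ι).symm) : hS.eI = 1))

omit [Finite G] in
theorem z_sq : hS.z * hS.z = 1 := by
  rw [z, ← map_mul, show hS.eI * hS.eI = 1 from Subtype.ext (show (-1 : UM) * -1 = 1 by
    rw [neg_mul, one_mul, neg_neg]), map_one]

omit [Finite G] in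
theorem z_mem : hS.z ∈ centralizer (ι.range : Set G) := by
  rintro _ ⟨y, rfl⟩
  rw [z, ← map_mul, ← map_mul, hS.eI_comm]

omit [Finite G] in
theorem mem_range_inf {a : I} (h : ι a ∈ centralizer (ι.range : Set G)) : a = 1 ∨ a = hS.eI := by
  rcases center_I a a.2 (fun y hy => congrArg Subtype.val (hS.inj (by
    rw [map_mul, map_mul]; exact h _ ⟨⟨y, hy⟩, rfl⟩) : (⟨y, hy⟩ : I) * a = a * ⟨y, hy⟩)) with h' | h'
  · exact Or.inl (Subtype.ext h')
  · exact Or.inr (Subtype.ext h')

theorem involution_eq {v : G} (hv : v ∈ centralizer (ι.range : Set G)) (h2 : v * v = 1) :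
    v = 1 ∨ v = hS.z := by
  by_cases h1 : v = 1
  · exact Or.inl h1
  · exact Or.inr (InvChar.involution_eq_of_rank_one (InvChar.prankLE_one_of_cyclic_sylow hS.cyc) hv
      hS.z_mem h2 h1 hS.z_sq hS.z_ne (hv _ ⟨hS.eI, rfl⟩).symm)

omit [Finite G] in
theorem z_order : orderOf hS.z = 2 := orderOf_eq_prime (by rw [pow_two]; exact hS.z_sq) hS.z_ne

omit [Finite G] in
/-- An element centralising the central involution acts as an element of the Weyl group. -/
theorem exists_acts {x : G} (hx : x * hS.z = hS.z * x) : ∃ b ∈ W, Acts ι x b := by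
  have hN : x ∈ normalizer (ι.range : Set G) :=
    InvChar.centralizer_involution_le hS.std hS.z_order hS.z_mem fun w hw => by
      rw [Set.mem_singleton_iff.1 hw]; exact hx.symm
  let ε : I ≃* ↥ι.range := MonoidHom.ofInjective hS.inj
  let φ : MulAut I := ε.trans ((ι.range.normalizerMonoidHom ⟨x, hN⟩).trans ε.symm)
  have hφ : ∀ y, ι (φ y) = x * ι y * x⁻¹ := fun y => by
    have h := ε.apply_symm_apply (ι.range.normalizerMonoidHom ⟨x, hN⟩ (ε y))
    exact congrArg Subtype.val h
  have hw : wRefl⁻¹ = wRefl := inv_eq_of_mul_eq_one_right (diagS_sq 1)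
  obtain ⟨b, hb | hb⟩ := aut_I φ
  · refine ⟨b, I_le_W b.2, fun y y' e => ?_⟩
    rw [← hφ, hb]
    exact congrArg ι (Subtype.ext e.symm)
  · refine ⟨(b : UM) * wRefl, mul_mem (I_le_W b.2) wRefl_mem_W, fun y y' e => ?_⟩
    rw [← hφ]
    refine congrArg ι (Subtype.ext ?_)
    rw [hb, e, mul_inv_rev, hw]
    group

omit [Finite G] in
/-- Two actions of the same element differ by a sign. -/
theorem acts_unique {x : G} {b b' : UM} (hb : b ∈ W) (hb' : b' ∈ W) (h : Acts ι x b)
    (h' : Acts ι x b') : b' = b ∨ b' = -b := by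
  have key : ∀ y ∈ I, b * y * b⁻¹ = b' * y * b'⁻¹ := fun y hy =>
    congrArg Subtype.val (hS.inj ((h ⟨y, hy⟩ ⟨_, conj_mem_I hb hy⟩ rfl).symm.trans
      (h' ⟨y, hy⟩ ⟨_, conj_mem_I hb' hy⟩ rfl)) :
        (⟨_, conj_mem_I hb hy⟩ : I) = ⟨_, conj_mem_I hb' hy⟩)
  rcases centralizer_I (x := b⁻¹ * b') fun y hy => by
      calc y * (b⁻¹ * b') = b⁻¹ * (b * y * b⁻¹) * b' := by group
        _ = b⁻¹ * (b' * y * b'⁻¹) * b' := by rw [key y hy]
        _ = _ := by group with e | e
  · exact Or.inl (inv_mul_eq_one.1 e).symm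
  · exact Or.inr (by rw [show b' = b * (b⁻¹ * b') from (mul_inv_cancel_left b b').symm, e, mul_neg,
      mul_one])

omit [Finite G] hS in
theorem comm_range {a : I} {c : G} (hc : c ∈ centralizer (ι.range : Set G)) : Commute (ι a) c :=
  hc _ ⟨a, rfl⟩

omit [Finite G] hS in
/-- An element acting as an element of the subgroup. -/
theorem split_inner {x : G} {a : I} (h : Acts ι x a) :
    (ι a)⁻¹ * x ∈ centralizer (ι.range : Set G) := by
  rintro _ ⟨y, rfl⟩
  have h1 := h y (a * y * a⁻¹) rfl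
  rw [map_mul, map_mul, map_inv] at h1
  calc ι y * ((ι a)⁻¹ * x) = (ι a)⁻¹ * (ι a * ι y * (ι a)⁻¹) * x := by group
    _ = (ι a)⁻¹ * (x * ι y * x⁻¹) * x := by rw [h1]
    _ = _ := by group

omit [Finite G] in
/-- A product with trivial power. -/
theorem pow_eq_one_parts {a : I} {c : G} (hc : c ∈ centralizer (ι.range : Set G)) {n : ℕ}
    (h : (ι a * c) ^ n = 1) : c ^ n = 1 ∨ c ^ n = hS.z := by
  rw [(comm_range hc).mul_pow] at h
  have e1 : c ^ n = ι (a ^ n)⁻¹ := by
    rw [map_inv, map_pow]; exact (eq_inv_of_mul_eq_one_right h)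
  rcases hS.mem_range_inf (a := (a ^ n)⁻¹) (e1 ▸ pow_mem hc n) with h' | h' <;> rw [h'] at e1
  · exact Or.inl (e1.trans (map_one ι))
  · exact Or.inr e1

omit [Finite G] in
theorem square_is_inner {b : UM} (hb : b ∈ W) : b * b ∈ I := by
  rcases hS.facts.W_cases b hb with h | h
  · exact mul_mem h h
  · have h2 : wRefl * (wRefl * b) * wRefl ∈ I := wRefl_normalizes _ h
    rw [show b * b = wRefl * (wRefl * b) * wRefl * (wRefl * b) by
      rw [← mul_assoc wRefl wRefl, show wRefl * wRefl = 1 from diagS_sq 1, one_mul, mul_assoc b,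
        ← mul_assoc wRefl wRefl, show wRefl * wRefl = 1 from diagS_sq 1, one_mul]]
    exact mul_mem h2 h

end Setting

end Cfsg.Agent.O8Standard47
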