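import Cfsg.Agent.O8Standard47.Checks
import Cfsg.Agent.O8Standard47.Root
import Cfsg.Agent.O8Standard47.WCard

/-!
Two-local facts about the Weyl group: its Sylow 2-subgroup, the conjugates of its involutions, of the
square roots of `-1` and of its large elementary abelian subgroups.
-/

set_option autoImplicit false

namespace Cfsg.Agent.O8Standard47

open Subgroup
open Cfsg.Agent.O8Two50 (UM)

namespace Locals

theorem w_inv : wRefl⁻¹ = wRefl := diagS_inv 1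

theorem evenB_of_diag_mem {v : ℕ} (h : diagS v ∈ I) : evenB v = true := by
  by_contra hv
  have he : evenB (v ^^^ 1) = true := by
    rw [evenB_xor, Bool.eq_false_iff.2 hv]; decide
  have h1 := mul_mem h (diagS_mem_I he)
  rw [diagS_mul, ← Nat.xor_assoc, Nat.xor_self, Nat.zero_xor] at h1
  exact wRefl_not_mem_I h1

theorem evenB_of_sm_mem {u : UM} (hu : u ∈ Syl) (hI : u ∈ I) {i v : ℕ} (hi : i < 64)
    (e : u.val = sm i v) : evenB v = true := by
  by_contra hv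
  have he : evenB (v ^^^ 1) = true := by
    rw [evenB_xor, Bool.eq_false_iff.2 hv]; decide
  have e1 : (u * wRefl).val = sm i (v ^^^ 1) := by
    rw [Units.val_mul, e, wRefl, diagS_val, sm, cm, mf_mul, sm, cm, bits_xor]
    rfl
  have h1 := sylI (mul_mem hu w_mem_Syl) hi e1 he
  exact wRefl_not_mem_I ((mul_mem_cancel_left hI).1 h1)

theorem isPGroup_of_pow {u : UM} {k : ℕ} (h : u ^ 2 ^ k = 1) : IsPGroup 2 (zpowers u) := by
  rintro ⟨x, hx⟩
  obtain ⟨n, rfl⟩ := mem_zpowers_iff.1 hx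
  exact ⟨k, Subtype.ext (show (u ^ n) ^ 2 ^ k = 1 by
    rw [← zpow_natCast, ← zpow_mul, mul_comm, zpow_mul, zpow_natCast, h, one_zpow])⟩

theorem isPGroup_elem {P : Subgroup UM} (h : ∀ x ∈ P, x * x = 1) : IsPGroup 2 P :=
  fun x => ⟨1, Subtype.ext (show (x : UM) ^ 2 ^ 1 = 1 by rw [pow_one, pow_two, h x x.2])⟩

/-- Conjugation by an element of the Weyl group into `E` is conjugation by an element of `I`. -/
theorem adjust {g x : UM} (hg : g ∈ W) (hx : g * x * g⁻¹ ∈ E) :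
    ∃ g' ∈ I, g' * x * g'⁻¹ = g * x * g⁻¹ := by
  rcases mem_W_iff.1 hg with h | h
  · exact ⟨g, h, rfl⟩
  · obtain ⟨v, -, e⟩ := hx
    refine ⟨wRefl * g, h, ?_⟩
    rw [show wRefl * g * x * (wRefl * g)⁻¹ = wRefl * (g * x * g⁻¹) * wRefl⁻¹ by group, e, w_inv,
      wRefl, diagS_mul, diagS_mul, Nat.xor_comm 1 v, Nat.xor_assoc, Nat.xor_self, Nat.xor_zero]

theorem conj_sq {g u c : UM} (h : u * u = c) (hc : g * c * g⁻¹ = c) :
    g * u * g⁻¹ * (g * u * g⁻¹) = c := by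
  rw [show g * u * g⁻¹ * (g * u * g⁻¹) = g * (u * u) * g⁻¹ by group, h, hc]

theorem conj_one (g : UM) : g * 1 * g⁻¹ = 1 := by group

theorem conj_neg_one (g : UM) : g * -1 * g⁻¹ = -1 := by
  rw [mul_neg, mul_one, neg_mul, mul_inv_cancel]

end Locals

open Locals

/-- The Sylow bound in `I`. -/
theorem two_card_I {P : Subgroup UM} (hP : P ≤ I) (h : IsPGroup 2 P) :
    Nat.card P ≤ 2 ^ 13 := by
  obtain ⟨k, hk⟩ := IsPGroup.iff_card.1 h
  have hd : 2 ^ k ∣ Nat.card I := hk ▸ card_dvd_of_le hP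
  rw [Nat.prime_two.pow_dvd_iff_le_factorization Nat.card_pos.ne', card_I_factorization] at hd
  rw [hk]
  exact Nat.pow_le_pow_right two_pos hd

/-- `Syl` meets every conjugacy class of 2-subgroups of the Weyl group. -/
theorem two_conj_W {P : Subgroup UM} (hP : P ≤ W) (h : IsPGroup 2 P) :
    ∃ g ∈ W, ∀ x ∈ P, g * x * g⁻¹ ∈ Syl := by
  have hc : Nat.card (Syl.subgroupOf W) = 2 ^ (Nat.card W).factorization 2 := by
    rw [Nat.card_congr (subgroupOfEquivOfLe Syl_le_W).toEquiv, card_Syl, card_W_factorization]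
  let S : Sylow 2 W := Sylow.ofCard (Syl.subgroupOf W) hc
  obtain ⟨Q, hQ⟩ := (h.of_equiv (subgroupOfEquivOfLe hP).symm).exists_le_sylow
  obtain ⟨g, hg⟩ := MulAction.exists_smul_eq W Q S
  refine ⟨g, g.2, fun x hx => ?_⟩
  have h2 : MulAut.conj g (⟨x, hP hx⟩ : W) ∈ (S : Subgroup W) := by
    rw [← hg, Sylow.coe_subgroup_smul]
    exact smul_mem_pointwise_smul _ _ _ (hQ hx)
  exact h2

/-- The same with a conjugating element of `I`. -/
theorem two_conj_I {P : Subgroup UM} (hP : P ≤ W) (h : IsPGroup 2 P) :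
    ∃ g ∈ I, ∀ x ∈ P, g * x * g⁻¹ ∈ Syl := by
  obtain ⟨g, hg, hS⟩ := two_conj_W hP h
  rcases mem_W_iff.1 hg with h' | h'
  · exact ⟨g, h', hS⟩
  · refine ⟨wRefl * g, h', fun x hx => ?_⟩
    rw [show wRefl * g * x * (wRefl * g)⁻¹ = wRefl * (g * x * g⁻¹) * wRefl⁻¹ by group]
    exact mul_mem (mul_mem w_mem_Syl (hS x hx)) (inv_mem w_mem_Syl)

/-- Involutions of the Weyl group are conjugate to sign changes. -/
theorem inv_W {u : UM} (hu : u ∈ W) (h : u * u = 1) : ∃ g ∈ I, g * u * g⁻¹ ∈ E := by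
  obtain ⟨g, hg, hS⟩ := two_conj_I (zpowers_le.2 hu)
    (isPGroup_of_pow (k := 1) (by rw [pow_one, pow_two, h]))
  obtain ⟨t, ht, v, hv, e⟩ := involution_diag (hS u (mem_zpowers u)) (conj_sq h (conj_one g))
  have hE : t * g * u * (t * g)⁻¹ ∈ E :=
    ⟨v, hv, by rw [show t * g * u * (t * g)⁻¹ = t * (g * u * g⁻¹) * t⁻¹ by group, e]⟩
  obtain ⟨g', hg', e'⟩ := adjust (mul_mem ht (I_le_W hg)) hE
  refine ⟨g', hg', ?_⟩
  rw [e']
  exact hE

namespace Locals

theorem neg_root {u : UM} (hu : u ∈ W) (h : u * u = -1) :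
    ∃ g ∈ I, g * u * g⁻¹ ∈ I ∧ ∃ f : Fin 8 → Fin 8, (∀ b, f (f b) = b) ∧ (∀ b, f b ≠ b) ∧
      ∃ s, (g * u * g⁻¹).val = mf f s := by
  obtain ⟨g, hg, hS⟩ := two_conj_I (zpowers_le.2 hu) (isPGroup_of_pow (k := 2) (by
    rw [show (2 : ℕ) ^ 2 = 2 * 2 by norm_num, pow_mul, pow_two u, h, pow_two, neg_mul, one_mul,
      neg_neg]))
  have hmem := hS u (mem_zpowers u)
  have hsq := conj_sq h (conj_neg_one g)
  obtain ⟨i, hi, v, hv, e⟩ := mem_Syl.1 hmem
  obtain ⟨hev, hfree⟩ := sq_neg_one hsq hi hv e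
  refine ⟨g, hg, sylI hmem hi e hev, pI (sy i), fun b => ?_, hfree, bits v, e⟩
  have h2 := congrArg Units.val hsq
  rw [Units.val_mul, e, sm, cm, mf_mul, ← diagS_255, diagS_val] at h2
  exact congrFun (mf_inj h2).1 b

end Locals

/-- Square roots of `-1` in the Weyl group lie in `I`. -/
theorem sq_neg_W {u : UM} (hu : u ∈ W) (h : u * u = -1) : u ∈ I := by
  obtain ⟨g, hg, hI, -⟩ := neg_root hu h
  rwa [mul_mem_cancel_right (inv_mem hg), mul_mem_cancel_left hg] at hI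

/-- The two-local facts. -/
theorem facts : Facts where
  neg_mem := by rw [← diagS_255]; exact diagS_mem_I (by decide)
  diag_mem _ h := diagS_mem_I h
  orth _ h := orth_of_mem_W h
  W_cases _ h := mem_W_iff.1 h
  inv_conj a ha h := by
    obtain ⟨g, hg, v, hv, e⟩ := inv_W (I_le_W ha) h
    refine ⟨g, hg, v, hv, evenB_of_diag_mem ?_, e⟩
    rw [← e]
    exact mul_mem (mul_mem hg ha) (inv_mem hg)
  neg_conj a ha h := by
    obtain ⟨g, hg, -, r⟩ := neg_root (I_le_W ha) h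
    exact ⟨g, hg, r⟩

/-- Elementary abelian subgroups of order at least `2^8` are conjugate into `E`. -/
theorem elem_W {P : Subgroup UM} (hP : P ≤ W) (h : ∀ x ∈ P, x * x = 1) (hc : 256 ≤ Nat.card P) :
    ∃ g ∈ W, ∀ x ∈ P, g * x * g⁻¹ ∈ E := by
  obtain ⟨g, hg, hS⟩ := two_conj_W hP (isPGroup_elem h)
  refine ⟨g, hg, fun x hx => ?_⟩
  refine elem_diag (P := P.map (MulAut.conj g).toMonoidHom) ?_ ?_ ?_ _
    (mem_map_of_mem (MulAut.conj g).toMonoidHom hx)
  · rintro _ ⟨y, hy, rfl⟩; exact hS y hy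
  · rintro _ ⟨y, hy, rfl⟩
    rw [← map_mul, h y hy, map_one]
  · rwa [card_map_of_injective (MulAut.conj g).injective]

/-- Elementary abelian subgroups of `I` of order at least `2^7`: two classes. -/
theorem elem_I {P : Subgroup UM} (hP : P ≤ I) (h : ∀ x ∈ P, x * x = 1) (hc : 128 ≤ Nat.card P) :
    ∃ g ∈ I, (∀ x ∈ P, g * x * g⁻¹ ∈ E0) ∨ P.map (MulAut.conj g).toMonoidHom = P1 := by
  obtain ⟨g, hg, hS⟩ := two_conj_I (hP.trans I_le_W) (isPGroup_elem h)
  refine ⟨g, hg, ?_⟩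
  have hle : P.map (MulAut.conj g).toMonoidHom ≤ Syl := by
    rintro _ ⟨y, hy, rfl⟩; exact hS y hy
  have hI : ∀ y ∈ P, g * y * g⁻¹ ∈ I := fun y hy => mul_mem (mul_mem hg (hP hy)) (inv_mem hg)
  rcases elem_even hle
    (by rintro _ ⟨y, hy, rfl⟩; rw [← map_mul, h y hy, map_one])
    (by
      rintro _ ⟨y, hy, rfl⟩ i v hi hv e
      exact evenB_of_sm_mem (hS y hy) (hI y hy) hi e)
    (by rwa [card_map_of_injective (MulAut.conj g).injective]) with hd | hd
  · refine Or.inl fun x hx => ?_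
    obtain ⟨v, hv, e⟩ := hd _ (mem_map_of_mem (MulAut.conj g).toMonoidHom hx)
    exact ⟨v, hv, evenB_of_diag_mem (e ▸ hI x hx), e⟩
  · exact Or.inr hd

end Cfsg.Agent.O8Standard47
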