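import Cfsg.Agent.O8Standard47.Isolated
import Cfsg.Agent.O8Standard47.Hat

/-!
The central involution is isolated in its centraliser, and so the standard subgroup is normal.
-/

set_option autoImplicit false
set_option linter.style.haveILetI false
set_option maxRecDepth 100000

namespace Cfsg.Agent.O8Standard47

open Subgroup
open Cfsg.Agent.O8Two50 (UM)

theorem E_le_W : E ≤ W := by
  rintro _ ⟨v, -, rfl⟩
  exact diagS_mem_W v

theorem E0_le_W : E0 ≤ W := E0_le_E.trans E_le_W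

theorem E0_even {v : ℕ} (hv : v < 256) (h : diagS v ∈ E0) : evenB v = true := by
  obtain ⟨w, hw, hev, e⟩ := h
  rwa [diagS_inj hv hw e]

theorem card_E : Nat.card E = 256 := by
  let f : Fin 256 → E := fun v => ⟨diagS v, v, v.isLt, rfl⟩
  have hf : Function.Bijective f := by
    refine ⟨fun a b h => Fin.ext (diagS_inj a.isLt b.isLt (congrArg Subtype.val h)), ?_⟩
    rintro ⟨_, v, hv, rfl⟩
    exact ⟨⟨v, hv⟩, rfl⟩
  rw [← Nat.card_congr (Equiv.ofBijective f hf), Nat.card_eq_fintype_card, Fintype.card_fin]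

theorem even_count : Fintype.card {v : Fin 256 // evenB v.val = true} = 128 := by decide +kernel

theorem card_E0 : Nat.card E0 = 128 := by
  let f : {v : Fin 256 // evenB v.val = true} → E0 := fun v => ⟨diagS v.1, v.1, v.1.isLt, v.2, rfl⟩
  have hf : Function.Bijective f := by
    refine ⟨fun a b h => Subtype.ext (Fin.ext (diagS_inj a.1.isLt b.1.isLt
      (congrArg Subtype.val h))), ?_⟩
    rintro ⟨_, v, hv, hev, rfl⟩
    exact ⟨⟨⟨v, hv⟩, hev⟩, rfl⟩
  rw [← Nat.card_congr (Equiv.ofBijective f hf), Nat.card_eq_fintype_card, even_count]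

/-- No nontrivial frame has period five. -/
def fiveB : Bool :=
  (List.range 8).all fun a => (List.range 8).all fun b => (List.range 8).all fun c =>
    (List.range 8).all fun d => !(Member.validB a b c d) ||
      !((List.range 8).all fun x => Nat.beq (Member.affN a b c d (Member.affN a b c d
        (Member.affN a b c d (Member.affN a b c d (Member.affN a b c d x))))) x) ||
      (List.range 8).all fun x => Nat.beq (Member.affN a b c d x) x

theorem fiveB_true : fiveB = true := by decide +kernel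

theorem pres_five {p : Equiv.Perm (Fin 8)} (hp : PresBlocks p) (h : ∀ x, p (p (p (p (p x)))) = x) :
    p = 1 := by
  have h0 := fiveB_true
  simp only [fiveB, List.all_eq_true, List.mem_range, Bool.or_eq_true, Bool.not_eq_true'] at h0
  have ha := Member.pres_aff hp
  rcases h0 _ (p 0).isLt _ (p 1).isLt _ (p 2).isLt _ (p 4).isLt with (e | e) | e
  · rw [Member.pres_valid hp] at e; exact Bool.noConfusion e
  · rw [List.all_eq_false] at e
    obtain ⟨x, hx, e⟩ := e
    refine absurd ?_ e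
    rw [Nat.beq_eq, ← ha ⟨x, List.mem_range.1 hx⟩, ← ha, ← ha, ← ha, ← ha, h]
  · refine Equiv.ext fun x => Fin.ext ?_
    rw [Equiv.Perm.one_apply, ha x]
    exact Nat.eq_of_beq_eq_true (e x.val x.isLt)

universe u

variable {G : Type u} [Group G] [Finite G] {ι : I →* G}

namespace Setting

variable (hS : Setting ι)
include hS

/-- The case of a root of the central involution. -/
theorem isolated_of_root (hL : LocalFacts) (hr : ∃ r ∈ centralizer (ι.range : Set G), r * r = hS.z)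
    {g : G} (hu : g * hS.z * g⁻¹ * hS.z = hS.z * (g * hS.z * g⁻¹)) : g * hS.z * g⁻¹ = hS.z := by
  have hinner : ∀ g' : G, g' * hS.z * g'⁻¹ * hS.z = hS.z * (g' * hS.z * g'⁻¹) →
      (∃ a : I, Acts ι (g' * hS.z * g'⁻¹) a) → g' * hS.z * g'⁻¹ = hS.z := by
    intro g' hg' hin
    by_contra hne
    have hcomm : g'⁻¹ * hS.z * g' * hS.z = hS.z * (g'⁻¹ * hS.z * g') := by
      calc g'⁻¹ * hS.z * g' * hS.z = g'⁻¹ * (hS.z * (g' * hS.z * g'⁻¹)) * g' := by group
        _ = g'⁻¹ * (g' * hS.z * g'⁻¹ * hS.z) * g' := by rw [hg']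
        _ = _ := by group
    exact hS.inner_root_false hr rfl hg' hne hin
      (hS.inner_of_inner hr (g := g'⁻¹) (u := g'⁻¹ * hS.z * g') (by rw [inv_inv]) hcomm
        (by rwa [inv_inv]))
  by_contra hne
  by_cases hin : ∃ a : I, Acts ι (g * hS.z * g⁻¹) a
  · exact hne (hinner g hu hin)
  · exact hS.outer_root_false hr hL.inv_W hL.sq_neg_W rfl hu hin hinner

omit [Finite G] in
theorem iota_inv_comm (y : I) : ι y * hS.z = hS.z * ι y := hS.acts_z (acts_iota y)

set_option maxHeartbeats 1000000 in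
/-- No root and no outer involution centralising the central involution. -/
theorem isolated_inner (hL : LocalFacts)
    (hno : ¬ ∃ r ∈ centralizer (ι.range : Set G), r * r = hS.z)
    (hout : ¬ ∃ t, t * t = 1 ∧ t * hS.z = hS.z * t ∧ ¬ ∃ a : I, Acts ι t a)
    {g : G} (hu : g * hS.z * g⁻¹ * hS.z = hS.z * (g * hS.z * g⁻¹)) : g * hS.z * g⁻¹ = hS.z := by
  have hle : E0 ≤ I := fun k hk => hS.E0_le_I hk
  set Φ : E0 →* G := ι.comp (Subgroup.inclusion hle) with hΦ
  have hΦk : ∀ (k : E0), Φ k = ι ⟨k, hle k.2⟩ := fun k => rfl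
  have hΦinj : Function.Injective Φ := hS.inj.comp (Subgroup.inclusion_injective hle)
  have hinv : ∀ u : G, u * u = 1 → u * hS.z = hS.z * u → ∃ b : I, u = ι b ∧ (b : UM) * b = 1 := by
    intro u hu2 huz
    have hin : ∃ a : I, Acts ι u a := by
      by_contra hn
      exact hout ⟨u, hu2, huz, hn⟩
    obtain ⟨a, ha⟩ := hin
    obtain ⟨b, rfl⟩ := hS.two_mem_range hno ha (n := 1) (by rw [pow_one, pow_two, hu2])
    exact ⟨b, rfl, congrArg Subtype.val (hS.inj (by rw [map_mul, hu2, map_one]) : b * b = 1)⟩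
  refine hS.isolated_of_frame hno E0 le_rfl E0_le_E E0_le_W Φ hΦinj (fun k h => hΦk k)
    (fun k => acts_iota _) ?_ ?_ ?_ hu
  · intro p hp k hpI
    have hpval : (mono p 0).val = mf p fun i => (0 : ℕ).testBit i := rfl
    have hk : mono p 0 * (k : UM) * (mono p 0)⁻¹ ∈ E0 := by
      obtain ⟨v, hv, hev, e⟩ := k.2
      have hm := mono_conj_diag hpval v
      rw [← e] at hm
      refine ⟨_, Member.permMask_lt p v, ?_, hm⟩
      by_contra h
      rw [Bool.not_eq_true] at h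
      exact odd_diag_not h (hm ▸ conj_mem_I (I_le_W hpI) (hle k.2))
    refine ⟨hk, ?_⟩
    rw [hΦk, hΦk, ← map_inv, ← map_mul, ← map_mul]
    rfl
  · intro u hu2 huz
    obtain ⟨b, rfl, hb⟩ := hinv u hu2 huz
    obtain ⟨h, hh, hhb⟩ := hS.facts.inv_conj b b.2 hb
    refine ⟨ι ⟨h, hh⟩, hS.iota_inv_comm _, ⟨⟨_, hhb⟩, ?_⟩⟩
    rw [hΦk, ← map_inv, ← map_mul, ← map_mul]
    rfl
  · intro hfix g' hg'
    set V := Φ.range with hV
    have hsq : ∀ x ∈ V, x * x = 1 := by
      rintro _ ⟨k, rfl⟩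
      rw [← map_mul, show k * k = 1 from Subtype.ext (by
        obtain ⟨v, hv, -, e⟩ := k.2
        show (k : UM) * k = 1
        rw [e, diagS_sq]), map_one]
    have hcom : ∀ x ∈ V, ∀ y ∈ V, x * y = y * x := fun x hx y hy => by
      calc x * y = (x * y)⁻¹ := eq_inv_of_mul_eq_one_left (hsq _ (mul_mem hx hy))
        _ = y⁻¹ * x⁻¹ := mul_inv_rev x y
        _ = y * x := by
          rw [inv_eq_of_mul_eq_one_right (hsq x hx), inv_eq_of_mul_eq_one_right (hsq y hy)]
    have hcz : ∀ x ∈ V, g'⁻¹ * x * g' * hS.z = hS.z * (g'⁻¹ * x * g') := fun x hx => by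
      calc g'⁻¹ * x * g' * hS.z = g'⁻¹ * (x * (g' * hS.z * g'⁻¹)) * g' := by group
        _ = g'⁻¹ * (g' * hS.z * g'⁻¹ * x) * g' := by rw [hcom x hx _ hg']
        _ = _ := by group
    have hpre : ∀ x ∈ V, ∃ b : I, g'⁻¹ * x * g' = ι b ∧ (b : UM) * b = 1 := fun x hx =>
      hinv _ (by
        rw [show g'⁻¹ * x * g' * (g'⁻¹ * x * g') = g'⁻¹ * (x * x) * g' by group, hsq x hx]
        group) (hcz x hx)
    set P : Subgroup G := V.map (MulAut.conj g'⁻¹).toMonoidHom with hP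
    have hPmem : ∀ {y : G}, y ∈ P ↔ ∃ x ∈ V, g'⁻¹ * x * g' = y := fun {y} => by
      rw [hP, Subgroup.mem_map]
      refine exists_congr fun x => and_congr_right fun _ => ?_
      show g'⁻¹ * x * g'⁻¹⁻¹ = y ↔ _
      rw [inv_inv]
    set P' : Subgroup UM := (P.comap ι).map I.subtype with hP'
    have hmem' : ∀ x ∈ V, ∀ b : I, g'⁻¹ * x * g' = ι b → (b : UM) ∈ P' := fun x hx b e =>
      ⟨b, hPmem.2 ⟨x, hx, e⟩, rfl⟩
    have hP'I : P' ≤ I := by
      rintro _ ⟨b, -, rfl⟩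
      exact b.2
    have hP'sq : ∀ y ∈ P', y * y = 1 := by
      rintro _ ⟨b, hb, rfl⟩
      obtain ⟨x, hx, e⟩ := hPmem.1 hb
      obtain ⟨b', e', hb'⟩ := hpre x hx
      rw [show b = b' from hS.inj (e.symm.trans e')]
      exact hb'
    have hrange : P ≤ ι.range := fun y hy => by
      obtain ⟨x, hx, rfl⟩ := hPmem.1 hy
      obtain ⟨b, e, -⟩ := hpre x hx
      exact ⟨b, e.symm⟩
    have hcard : Nat.card P' = 128 := by
      rw [hP', Subgroup.card_map_of_injective I.subtype_injective,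
        ← Subgroup.card_map_of_injective (f := ι) hS.inj, Subgroup.map_comap_eq_self hrange, hP,
        Subgroup.card_map_of_injective (MulAut.conj g'⁻¹).injective, hV,
        ← Nat.card_congr (MonoidHom.ofInjective hΦinj).toEquiv, card_E0]
    obtain ⟨h, hh, hcase⟩ := hL.elem_I P' hP'I hP'sq hcard.ge
    rcases hcase with hE | hP1
    · refine ⟨ι ⟨h, hh⟩, hS.iota_inv_comm _, fun x hx => ?_⟩
      obtain ⟨b, e, -⟩ := hpre x hx
      refine ⟨⟨_, hE _ (hmem' x hx b e)⟩, ?_⟩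
      rw [hΦk, e, ← map_inv, ← map_mul, ← map_mul]
      rfl
    · exfalso
      set κ : G := ι ⟨h, hh⟩ * g'⁻¹ with hκ
      -- the frame is carried onto the second class
      have hto : ∀ x ∈ V, ∃ b : I, (b : UM) ∈ P1 ∧ κ * x * κ⁻¹ = ι b := fun x hx => by
        obtain ⟨b, e, -⟩ := hpre x hx
        refine ⟨⟨h, hh⟩ * b * ⟨h, hh⟩⁻¹, hP1 ▸ ⟨_, hmem' x hx b e, rfl⟩, ?_⟩
        rw [map_mul, map_mul, map_inv, ← e, hκ]
        group
      have hfrom : ∀ b : I, (b : UM) ∈ P1 → ∃ x ∈ V, κ * x * κ⁻¹ = ι b := fun b hb => by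
        rw [← hP1] at hb
        obtain ⟨y, ⟨a, ha, rfl⟩, e⟩ := hb
        obtain ⟨x, hx, e'⟩ := hPmem.1 ha
        refine ⟨x, hx, ?_⟩
        rw [show b = ⟨h, hh⟩ * a * ⟨h, hh⟩⁻¹ from Subtype.ext e.symm, map_mul, map_mul, map_inv,
          ← e', hκ]
        group
      obtain ⟨d, hd, hd5, hdP, x₀, hx₀, hne⟩ := delta5
      set γ : G := κ⁻¹ * ι ⟨d, hd⟩ * κ with hγ
      have hγsub : ∀ x ∈ V, γ * x * γ⁻¹ ∈ V := fun x hx => by
        obtain ⟨b, hb, e⟩ := hto x hx
        obtain ⟨y, hy, e'⟩ := hfrom (⟨d, hd⟩ * b * ⟨d, hd⟩⁻¹) (by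
          simp only [Subgroup.coe_mul, Subgroup.coe_inv]
          exact hdP _ hb)
        rw [map_mul, map_mul, map_inv, ← e] at e'
        convert hy using 1
        calc γ * x * γ⁻¹ = κ⁻¹ * (ι ⟨d, hd⟩ * (κ * x * κ⁻¹) * (ι ⟨d, hd⟩)⁻¹) * κ := by
              rw [hγ]; group
          _ = y := by rw [← e']; group
      have hγmap : V.map (MulAut.conj γ).toMonoidHom = V :=
        Subgroup.eq_of_le_of_card_ge (by rintro _ ⟨x, hx, rfl⟩; exact hγsub x hx)
          (le_of_eq (Subgroup.card_map_of_injective (MulAut.conj γ).injective).symm)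
      have hγN : γ ∈ normalizer (V : Set G) := by
        rw [mem_normalizer_iff]
        refine fun x => ⟨hγsub x, fun hx => ?_⟩
        rw [← hγmap] at hx
        obtain ⟨x', hx', e⟩ := hx
        rwa [← (MulAut.conj γ).injective (show MulAut.conj γ x' = MulAut.conj γ x from e)]
      obtain ⟨b, hb, hab⟩ := hS.exists_acts (hfix γ hγN)
      have hstep : ∀ v, v < 256 → ∀ hev : evenB v = true, ∃ w, w < 256 ∧ ∃ hev' : evenB w = true,
          b * diagS v * b⁻¹ = diagS w ∧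
          γ * ι ⟨diagS v, diagS_mem_I hev⟩ * γ⁻¹ = ι ⟨diagS w, diagS_mem_I hev'⟩ := by
        intro v hv hev
        have hc : b * diagS v * b⁻¹ ∈ I := conj_mem_I hb (diagS_mem_I hev)
        have h1 : γ * ι ⟨diagS v, diagS_mem_I hev⟩ * γ⁻¹ = ι ⟨_, hc⟩ := hab _ ⟨_, hc⟩ rfl
        have h2 : ι ⟨_, hc⟩ ∈ V := h1 ▸ hγsub _ ⟨⟨diagS v, v, hv, hev, rfl⟩, rfl⟩
        obtain ⟨k, hk⟩ := h2
        obtain ⟨w, hw, hev', e⟩ := k.2
        have h3 : (k : UM) = b * diagS v * b⁻¹ := congrArg Subtype.val (hS.inj hk)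
        rw [e] at h3
        exact ⟨w, hw, hev', h3.symm, h1.trans (congrArg ι (Subtype.ext h3.symm))⟩
      obtain ⟨p, hp, s, hs⟩ := exists_mono hb fun v hv hev => by
        obtain ⟨w, hw, -, e, -⟩ := hstep v hv hev
        exact ⟨w, hw, e⟩
      have hstep' : ∀ v, v < 256 → ∀ hev : evenB v = true, ∃ hev' : evenB (permMask p v) = true,
          γ * ι ⟨diagS v, diagS_mem_I hev⟩ * γ⁻¹ = ι ⟨diagS (permMask p v), diagS_mem_I hev'⟩ := by
        intro v hv hev
        obtain ⟨w, hw, hev', e, e'⟩ := hstep v hv hev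
        have hwp : w = permMask p v :=
          diagS_inj hw (Member.permMask_lt p v) (e.symm.trans (mono_conj_diag hs v))
        subst hwp
        exact ⟨hev', e'⟩
      have hγ5 : γ ^ 5 = 1 := by
        rw [hγ, show (κ⁻¹ * ι ⟨d, hd⟩ * κ) ^ 5 = κ⁻¹ * (ι ⟨d, hd⟩ ^ 5) * κ by
          simp only [pow_succ, pow_zero, one_mul]; group, ← map_pow,
          show (⟨d, hd⟩ : I) ^ 5 = 1 from Subtype.ext hd5, map_one]
        group
      have hp5 : ∀ v, v < 256 → evenB v = true →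
          permMask p (permMask p (permMask p (permMask p (permMask p v)))) = v := by
        intro v hv hev
        obtain ⟨h1, e1⟩ := hstep' v hv hev
        obtain ⟨h2, e2⟩ := hstep' _ (Member.permMask_lt p _) h1
        obtain ⟨h3, e3⟩ := hstep' _ (Member.permMask_lt p _) h2
        obtain ⟨h4, e4⟩ := hstep' _ (Member.permMask_lt p _) h3
        obtain ⟨h5, e5⟩ := hstep' _ (Member.permMask_lt p _) h4
        rw [← e4, ← e3, ← e2, ← e1] at e5
        have h := hS.inj (e5.symm.trans (show _ = ι ⟨diagS v, diagS_mem_I hev⟩ by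
          calc _ = γ ^ 5 * ι ⟨diagS v, diagS_mem_I hev⟩ * (γ ^ 5)⁻¹ := by
                simp only [pow_succ, pow_zero, one_mul]; group
            _ = _ := by rw [hγ5, one_mul, inv_one, mul_one]))
        exact diagS_inj (Member.permMask_lt p _) hv (congrArg Subtype.val h)
      have hp1 : p = 1 := by
        refine pres_five hp fun j => ?_
        by_contra hne'
        set j' := p (p (p (p (p j))))
        obtain ⟨v, hv, hv'⟩ := List.any_eq_true.1 (pair_sep j j' (Ne.symm hne'))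
        rw [Bool.and_eq_true] at hv'
        have h := congrArg (fun m => bits m j') (hp5 v (List.mem_range.1 hv) hv'.1)
        simp only [j', permMask_bits] at h
        simp [bits] at hv' h
        exact hv'.2 h
      have hcent : ∀ x ∈ V, γ * x * γ⁻¹ = x := by
        rintro _ ⟨k, rfl⟩
        obtain ⟨v, hv, hev, e⟩ := k.2
        obtain ⟨hev', e'⟩ := hstep' v hv hev
        rw [hΦk]
        rw [show (⟨(k : UM), hle k.2⟩ : I) = ⟨diagS v, diagS_mem_I hev⟩ from Subtype.ext e, e']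
        refine congrArg ι (Subtype.ext ?_)
        show diagS (permMask p v) = diagS v
        refine Member.diagS_bits (funext fun i => ?_)
        have h := permMask_bits p v i
        rw [hp1, Equiv.Perm.one_apply] at h
        rw [hp1]
        exact h
      have hx₀I : x₀ ∈ I := by
        have h' := hx₀
        rw [← hP1] at h'
        obtain ⟨y, ⟨a, -, rfl⟩, ey⟩ := h'
        exact ey ▸ mul_mem (mul_mem hh a.2) (inv_mem hh)
      obtain ⟨x, hx, e⟩ := hfrom ⟨x₀, hx₀I⟩ hx₀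
      refine hne ?_
      have h1 : ι ⟨d, hd⟩ * ι ⟨x₀, hx₀I⟩ = ι ⟨x₀, hx₀I⟩ * ι ⟨d, hd⟩ := by
        rw [← e]
        calc ι ⟨d, hd⟩ * (κ * x * κ⁻¹) = κ * (γ * x * γ⁻¹) * κ⁻¹ * ι ⟨d, hd⟩ := by rw [hγ]; group
          _ = _ := by rw [hcent x hx]
      rw [← map_mul, ← map_mul] at h1
      exact congrArg Subtype.val (hS.inj h1)

/-- No root, with an outer involution centralising the central involution. -/
theorem isolated_outer (hL : LocalFacts)
    (hno : ¬ ∃ r ∈ centralizer (ι.range : Set G), r * r = hS.z)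
    (hout : ∃ t, t * t = 1 ∧ t * hS.z = hS.z * t ∧ ¬ ∃ a : I, Acts ι t a)
    {g : G} (hu : g * hS.z * g⁻¹ * hS.z = hS.z * (g * hS.z * g⁻¹)) : g * hS.z * g⁻¹ = hS.z := by
  obtain ⟨φ, hφinj, hφI, hφA, hsyl⟩ :=
    exists_hat hS hno hL.inv_W hL.sq_neg_W hL.two_card_I hL.syl_le hout
  set Φ : E →* G := φ.comp (Subgroup.inclusion E_le_W) with hΦ
  have hΦk : ∀ (k : E), Φ k = φ ⟨k, E_le_W k.2⟩ := fun k => rfl
  have hΦinj : Function.Injective Φ := hφinj.comp (Subgroup.inclusion_injective E_le_W)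
  have hφz : ∀ k : W, φ k * hS.z = hS.z * φ k := fun k => hS.acts_z (hφA k)
  refine hS.isolated_of_frame hno E E0_le_E le_rfl E_le_W Φ hΦinj (fun k h => hφI ⟨k, h⟩)
    (fun k => hφA _) ?_ ?_ ?_ hu
  · intro p hp k hpI
    have hpval : (mono p 0).val = mf p fun i => (0 : ℕ).testBit i := rfl
    obtain ⟨v, hv, e⟩ := k.2
    refine ⟨⟨_, Member.permMask_lt p v, by rw [e]; exact mono_conj_diag hpval v⟩, ?_⟩
    rw [hΦk, hΦk, ← hφI, ← map_inv, ← map_mul, ← map_mul]
    rfl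
  · intro u hu2 huz
    have h2 : IsPGroup 2 (zpowers u) := by
      rintro ⟨x, hx⟩
      obtain ⟨n, rfl⟩ := mem_zpowers_iff.1 hx
      refine ⟨1, Subtype.ext ?_⟩
      show (u ^ n) ^ (2 ^ 1) = 1
      rw [pow_one, pow_two, ← (Commute.refl u).mul_zpow, hu2, one_zpow]
    obtain ⟨n, hn, hsub⟩ := hsyl _ h2 fun x hx => by
      obtain ⟨m, rfl⟩ := mem_zpowers_iff.1 hx
      exact ((show Commute u hS.z from huz).zpow_left m).eq
    obtain ⟨s, -, e⟩ := hsub u (mem_zpowers u)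
    have hs : (s : UM) * s = 1 := congrArg Subtype.val (hφinj (by
      rw [map_mul, ← e, show n * u * n⁻¹ * (n * u * n⁻¹) = n * (u * u) * n⁻¹ by group, hu2, map_one]
      group) : s * s = 1)
    obtain ⟨h, hh, hhs⟩ := hL.inv_W s s.2 hs
    refine ⟨ι ⟨h, hh⟩ * n, ?_, ⟨⟨_, hhs⟩, ?_⟩⟩
    · rw [mul_assoc, hn, ← mul_assoc, hS.iota_inv_comm, mul_assoc]
    · rw [hΦk, show ι ⟨h, hh⟩ * n * u * (ι ⟨h, hh⟩ * n)⁻¹ = ι ⟨h, hh⟩ * (n * u * n⁻¹) * (ι ⟨h, hh⟩)⁻¹
        by group, e, ← hφI, ← map_inv, ← map_mul, ← map_mul]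
      rfl
  · intro _ g' hg'
    set V := Φ.range with hV
    have hsq : ∀ x ∈ V, x * x = 1 := by
      rintro _ ⟨k, rfl⟩
      rw [← map_mul, show k * k = 1 from Subtype.ext (by
        obtain ⟨v, hv, e⟩ := k.2
        show (k : UM) * k = 1
        rw [e, diagS_sq]), map_one]
    have hcom : ∀ x ∈ V, ∀ y ∈ V, x * y = y * x := by
      rintro _ ⟨k, rfl⟩ _ ⟨k', rfl⟩
      rw [← map_mul, ← map_mul]
      refine congrArg Φ (Subtype.ext ?_)
      obtain ⟨v, hv, e⟩ := k.2
      obtain ⟨w, hw, e'⟩ := k'.2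
      show (k : UM) * k' = k' * k
      rw [e, e', diagS_mul, diagS_mul, Nat.xor_comm]
    set P : Subgroup G := V.map (MulAut.conj g'⁻¹).toMonoidHom with hP
    have hPmem : ∀ {y : G}, y ∈ P ↔ ∃ x ∈ V, g'⁻¹ * x * g' = y := fun {y} => by
      rw [hP, Subgroup.mem_map]
      refine exists_congr fun x => and_congr_right fun _ => ?_
      show g'⁻¹ * x * g'⁻¹⁻¹ = y ↔ _
      rw [inv_inv]
    have hPsq : ∀ y ∈ P, y * y = 1 := fun y hy => by
      obtain ⟨x, hx, rfl⟩ := hPmem.1 hy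
      rw [show g'⁻¹ * x * g' * (g'⁻¹ * x * g') = g'⁻¹ * (x * x) * g' by group, hsq x hx]
      group
    obtain ⟨n, hn, hsub⟩ := hsyl P (fun ⟨y, hy⟩ => ⟨1, Subtype.ext (by
      show y ^ 2 ^ 1 = 1
      rw [pow_one, pow_two, hPsq y hy])⟩) fun y hy => by
      obtain ⟨x, hx, rfl⟩ := hPmem.1 hy
      calc g'⁻¹ * x * g' * hS.z = g'⁻¹ * (x * (g' * hS.z * g'⁻¹)) * g' := by group
        _ = g'⁻¹ * (g' * hS.z * g'⁻¹ * x) * g' := by rw [hcom x hx _ hg']
        _ = _ := by group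
    set Pn : Subgroup G := P.map (MulAut.conj n).toMonoidHom with hPn
    set P' : Subgroup UM := (Pn.comap φ).map W.subtype with hP'
    have hmem' : ∀ x ∈ V, ∀ s : W, n * (g'⁻¹ * x * g') * n⁻¹ = φ s → (s : UM) ∈ P' := fun x hx s e =>
      ⟨s, ⟨_, hPmem.2 ⟨x, hx, rfl⟩, e⟩, rfl⟩
    have hP'W : P' ≤ W := by
      rintro _ ⟨s, -, rfl⟩
      exact s.2
    have hP'sq : ∀ y ∈ P', y * y = 1 := by
      rintro _ ⟨s, hs, rfl⟩
      obtain ⟨y, hy, e⟩ := hs
      refine congrArg Subtype.val (hφinj (?_ : φ (s * s) = φ 1))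
      rw [map_mul, map_one, ← e]
      show n * y * n⁻¹ * (n * y * n⁻¹) = 1
      rw [show n * y * n⁻¹ * (n * y * n⁻¹) = n * (y * y) * n⁻¹ by group, hPsq y hy]
      group
    have hrange : Pn ≤ φ.range := by
      rintro _ ⟨y, hy, rfl⟩
      obtain ⟨s, -, e⟩ := hsub y hy
      exact ⟨s, e.symm⟩
    have hcard : Nat.card P' = 256 := by
      rw [hP', Subgroup.card_map_of_injective W.subtype_injective,
        ← Subgroup.card_map_of_injective (f := φ) hφinj, Subgroup.map_comap_eq_self hrange, hPn,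
        Subgroup.card_map_of_injective (MulAut.conj n).injective, hP,
        Subgroup.card_map_of_injective (MulAut.conj g'⁻¹).injective, hV,
        ← Nat.card_congr (MonoidHom.ofInjective hΦinj).toEquiv, card_E]
    obtain ⟨h, hh, hE⟩ := hL.elem_W P' hP'W hP'sq hcard.ge
    refine ⟨φ ⟨h, hh⟩ * n, ?_, fun x hx => ?_⟩
    · rw [mul_assoc, hn, ← mul_assoc, hφz, mul_assoc]
    · obtain ⟨s, -, e⟩ := hsub _ (hPmem.2 ⟨x, hx, rfl⟩)
      refine ⟨⟨_, hE _ (hmem' x hx s e)⟩, ?_⟩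
      rw [hΦk, show φ ⟨h, hh⟩ * n * (g'⁻¹ * x * g') * (φ ⟨h, hh⟩ * n)⁻¹
        = φ ⟨h, hh⟩ * (n * (g'⁻¹ * x * g') * n⁻¹) * (φ ⟨h, hh⟩)⁻¹ by group, e, ← map_inv, ← map_mul,
        ← map_mul]
      rfl

/-- The standard subgroup is normal. -/
theorem normal (hL : LocalFacts) (hO : Cfsg.oddCore G = ⊥) : ι.range.Normal := by
  have hiso : ∀ g : G, Commute hS.z (g * hS.z * g⁻¹) → g * hS.z * g⁻¹ = hS.z := fun g hg => by
    by_cases hr : ∃ r ∈ centralizer (ι.range : Set G), r * r = hS.z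
    · exact hS.isolated_of_root hL hr hg.eq.symm
    · by_cases hout : ∃ t, t * t = 1 ∧ t * hS.z = hS.z * t ∧ ¬ ∃ a : I, Acts ι t a
      · exact hS.isolated_outer hL hr hout hg.eq.symm
      · exact hS.isolated_inner hL hr hout hg.eq.symm
  obtain ⟨P, hzP, hP⟩ := InvChar.exists_sylow_isolated hS.z_order hiso
  obtain ⟨N, hN, hodd, hcomm⟩ := S0215.result P hS.z hS.z_order hzP hP
  have hNbot : N = ⊥ := by
    rw [eq_bot_iff, ← hO]; exact InvChar.le_oddCore hN hodd
  refine ⟨fun n hn x => ?_⟩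
  have h := hcomm x
  rw [hNbot, mem_bot] at h
  have hxz : x * hS.z = hS.z * x := by
    rw [mul_inv_eq_one, mul_inv_eq_iff_eq_mul] at h
    exact h.symm
  have hxN : x ∈ normalizer (ι.range : Set G) :=
    InvChar.centralizer_involution_le hS.std hS.z_order hS.z_mem fun w hw => by
      rw [Set.mem_singleton_iff.1 hw]; exact hxz.symm
  exact (mem_normalizer_iff.1 hxN n).1 hn

end Setting

end Cfsg.Agent.O8Standard47
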