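import Cfsg.Agent.O8Standard47.Mono
import Cfsg.Agent.O8Standard47.OrbitData
import Cfsg.Agent.O8Two50.CoverMat

/-!
Words for the monomial part of `I` (helper97, for helper47's S3144; generated).
-/

set_option autoImplicit false

namespace Cfsg.Agent.O8Standard47.Member

open Cfsg.Agent.O8Two50 (entN lineP mtx)

/-- A code with a mask and a word in the monomial generators. -/
def repTab : List (ℕ × ℕ × List ℕ) := [
  (16434824, 0, []),
  (14570689, 207, [10]),
  (11788826, 175, [5]),
  (9924691, 144, [10, 5]),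
  (6852524, 17, [5, 3]),
  (4988389, 237, [10, 5, 3]),
  (2206526, 235, [3]),
  (342391, 24, [10, 3]),
  (16434824, 0, []),
  (10212048, 111, [9, 5, 1]),
  (12305048, 240, [5, 1]),
  (3538080, 226, [11, 6, 3, 0]),
  (3272360, 99, [6, 3, 0]),
  (4053168, 189, [11, 3, 0]),
  (3787448, 60, [3, 0]),
  (16434824, 0, []),
  (16405704, 63, [9]),
  (16362248, 125, [2]),
  (14526792, 126, [11, 2]),
  (11644808, 160, [6, 2]),
  (9809352, 163, [11, 6, 2]),
  (16434824, 0, []),
  (14571144, 3, [11]),
  (11789960, 245, [6]),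
  (9926280, 246, [11, 6])]

/-- The signs with a word. -/
def diagTab : List (ℕ × List ℕ) := [
  (129, [10, 0, 13, 3, 0]),
  (130, [4, 3]),
  (132, [3, 1, 13, 4, 10, 1]),
  (136, [8, 5, 4, 3]),
  (144, [3, 1, 13, 10, 3, 1]),
  (160, [3, 8, 5, 3]),
  (192, [3, 13, 0, 10, 0])]

/-- The value of a word: the permutation and the signs. -/
def wf : List ℕ → (Fin 8 → Fin 8) × (Fin 8 → Bool)
  | [] => (id, fun _ => false)
  | k :: w => (pI (genPerm.getD k (0, 0, 0)).2.1 ∘ (wf w).1,
      fun b => xor (bits (genPerm.getD k (0, 0, 0)).2.2 ((wf w).1 b)) ((wf w).2 b))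

theorem gen_ok : ∀ k : Fin 15, ∃ r : Fin 24, r.val = (genPerm.getD k.val (0, 0, 0)).1 ∧
    ∀ p : Fin 8 × Fin 8, mtx 0 r p.1 p.2 =
      mf (pI (genPerm.getD k.val (0, 0, 0)).2.1) (bits (genPerm.getD k.val (0, 0, 0)).2.2) p.1 p.2 := by
  decide +kernel

theorem rep_ok : ∀ n : Fin 25,
    (repTab.getD n.val (0, 0, [])).2.2.all (fun k => decide (k < 15)) = true ∧
    evenB (repTab.getD n.val (0, 0, [])).2.1 = true ∧
    (∀ b : Fin 8, (wf (repTab.getD n.val (0, 0, [])).2.2).1 b = pI (repTab.getD n.val (0, 0, [])).1 b ∧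
      (wf (repTab.getD n.val (0, 0, [])).2.2).2 b = bits (repTab.getD n.val (0, 0, [])).2.1 b) := by
  decide +kernel

theorem diag_ok : ∀ n : Fin 7, (diagTab.getD n.val (0, [])).1 = 2 ^ n.val + 128 ∧
    (diagTab.getD n.val (0, [])).2.all (fun k => decide (k < 15)) = true ∧
    (∀ b : Fin 8, (wf (diagTab.getD n.val (0, [])).2).1 b = b ∧
      (wf (diagTab.getD n.val (0, [])).2).2 b = bits (diagTab.getD n.val (0, [])).1 b) := by
  decide +kernel

/-- The sum of the basis elements of an even mask. -/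
def evenSum (v : ℕ) : ℕ :=
  (List.range 7).foldl (fun m k => bif v.testBit k then m ^^^ (2 ^ k + 128) else m) 0

theorem evenSum_ok : ∀ v : Fin 256, evenB v.val = true → evenSum v.val = v.val := by decide +kernel

/-- The affine map with given images of `0, 1, 2, 4`, as numbers. -/
def affN (a b c d x : ℕ) : ℕ :=
  a ^^^ (bif x.testBit 0 then a ^^^ b else 0) ^^^ (bif x.testBit 1 then a ^^^ c else 0) ^^^
    (bif x.testBit 2 then a ^^^ d else 0)

/-- A frame. -/
def validB (a b c d : ℕ) : Bool :=
  !(Nat.beq a b || Nat.beq a c || Nat.beq b c || Nat.beq a d || Nat.beq b d || Nat.beq c d ||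
    Nat.beq d (a ^^^ b ^^^ c))

/-- The code of a representative. -/
def rc (n : ℕ) : ℕ := (repTab.getD n (0, 0, [])).1

/-- The image of a number under a code. -/
def pN (c x : ℕ) : ℕ := (c >>> (3 * x)) % 8

/-- The composite of four representatives. -/
def quadN (a j k l x : ℕ) : ℕ := pN (rc a) (pN (rc (8 + j)) (pN (rc (15 + k)) (pN (rc (21 + l)) x)))

/-- Every affine permutation is a composite. -/
def affB : Bool :=
  (List.range 8).all fun a => (List.range 8).all fun b => (List.range 8).all fun c =>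
    (List.range 8).all fun d => !(validB a b c d) ||
      (List.range 6).any fun k => Nat.beq (quadN a ((a ^^^ b) - 1) k 0 2) c &&
        (List.range 4).any fun l => Nat.beq (quadN a ((a ^^^ b) - 1) k l 4) d &&
          (List.range 8).all fun x => Nat.beq (quadN a ((a ^^^ b) - 1) k l x) (affN a b c d x)

theorem affB_true : affB = true := by decide +kernel

/-- The support of a line. -/
def suppL (i : Fin 120) : ℕ := ofB fun a => !(Nat.beq (entN (lineP i.val) a.val % 3) 0)

theorem supp_four : ∀ i : Fin 120,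
    (Finset.univ.filter fun a : Fin 8 => bits (suppL i) a = true).card = 4 → suppL i ∈ blockL := by
  decide +kernel

theorem block_line : ∀ b ∈ blockL, b < 256 ∧ ∃ i : Fin 120, suppL i = b := by decide +kernel

theorem blockL_card : ∀ b ∈ blockL,
    (Finset.univ.filter fun a : Fin 8 => bits b a = true).card = 4 := by
  decide +kernel


theorem wline_ok : ∀ i : Fin 120, ∃ j : Fin 120,
    (∀ a : Fin 8, (bif Nat.beq a.val 0 then 2 * entN (lineP i.val) a.val else entN (lineP i.val) a.val) % 3 =
      entN (lineP j.val) a.val % 3) ∨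
    (∀ a : Fin 8, (bif Nat.beq a.val 0 then 2 * entN (lineP i.val) a.val else entN (lineP i.val) a.val) % 3 =
      2 * entN (lineP j.val) a.val % 3) := by
  decide +kernel

theorem mtx_symm : ∀ r : Fin 24, ∀ p : Fin 8 × Fin 8, mtx 0 r p.1 p.2 = mtx 0 r p.2 p.1 := by
  decide +kernel

theorem syl_aff : ∀ i : Fin 64,
    validB (pN (sy i.val) 0) (pN (sy i.val) 1) (pN (sy i.val) 2) (pN (sy i.val) 4) = true ∧
    ∀ x : Fin 8, pN (sy i.val) x.val =
      affN (pN (sy i.val) 0) (pN (sy i.val) 1) (pN (sy i.val) 2) (pN (sy i.val) 4) x.val := by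
  decide +kernel

end Cfsg.Agent.O8Standard47.Member
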