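import Cfsg.Agent.O8Standard47.Defs
import Cfsg.Agent.O8Standard47.Data

/-!
Signed permutations from tables; the Sylow 2-subgroup `2^8 : P` of the Weyl group of type `E8`.
-/

set_option autoImplicit false

namespace Cfsg.Agent.O8Standard47

open Cfsg.Agent.O8Two50 (UM unitY)

/-- The signed matrix of a function. -/
def mf (f : Fin 8 → Fin 8) (s : Fin 8 → Bool) : Matrix (Fin 8) (Fin 8) (ZMod 3) :=
  fun a b => if a = f b then (bif s b then -1 else 1) else 0

theorem mf_mul (f g : Fin 8 → Fin 8) (s t : Fin 8 → Bool) :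
    mf f s * mf g t = mf (f ∘ g) fun b => xor (s (g b)) (t b) := by
  ext a b
  rw [Matrix.mul_apply, Finset.sum_eq_single (g b)]
  · by_cases h : a = f (g b)
    · cases h1 : s (g b) <;> cases h2 : t b <;> simp [mf, h, h1, h2]
    · simp [mf, h]
  · intro c _ hc
    simp [mf, hc]
  · intro h; exact absurd (Finset.mem_univ _) h

theorem mf_one : mf id (fun _ => false) = 1 := by
  ext a b
  simp [mf, Matrix.one_apply]

theorem mf_inj {f g : Fin 8 → Fin 8} {s t : Fin 8 → Bool} (h : mf f s = mf g t) : f = g ∧ s = t := by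
  have key : ∀ b, f b = g b ∧ s b = t b := fun b => by
    have h1 := congrFun (congrFun h (f b)) b
    simp only [mf, if_true] at h1
    by_cases e : f b = g b
    · refine ⟨e, ?_⟩
      rw [if_pos e] at h1
      cases hs : s b <;> cases ht : t b <;> simp [hs, ht] at h1 ⊢
      · exact absurd h1 (by decide)
      · exact absurd h1 (by decide)
    · rw [if_neg e] at h1
      cases hs : s b <;> simp [hs] at h1
  exact ⟨funext fun b => (key b).1, funext fun b => (key b).2⟩

theorem mono_val (p : Equiv.Perm (Fin 8)) (v : ℕ) :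
    (mono p v).val = mf p fun b => v.testBit b := rfl

/-- The permutation of a code, three bits per image. -/
def pI (c : ℕ) (b : Fin 8) : Fin 8 := ⟨(c >>> (3 * b.val)) % 8, Nat.mod_lt _ (by norm_num)⟩

/-- The bits of a mask. -/
def bits (v : ℕ) (b : Fin 8) : Bool := v.testBit b.val

/-- A mask from its bits. -/
def ofB (f : Fin 8 → Bool) : ℕ :=
  (bif f 0 then 1 else 0) + (bif f 1 then 2 else 0) + (bif f 2 then 4 else 0) +
  (bif f 3 then 8 else 0) + (bif f 4 then 16 else 0) + (bif f 5 then 32 else 0) +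
  (bif f 6 then 64 else 0) + (bif f 7 then 128 else 0)

theorem ofB_spec (f : Fin 8 → Bool) : bits (ofB f) = f ∧ ofB f < 256 := by
  have h : ∀ a b c d e g i j : Bool, (∀ k : Fin 8, bits (ofB ![a, b, c, d, e, g, i, j]) k =
      ![a, b, c, d, e, g, i, j] k) ∧ ofB ![a, b, c, d, e, g, i, j] < 256 := by decide +kernel
  have hf : f = ![f 0, f 1, f 2, f 3, f 4, f 5, f 6, f 7] := by
    funext k; fin_cases k <;> rfl
  rw [hf]
  exact ⟨funext (h _ _ _ _ _ _ _ _).1, (h _ _ _ _ _ _ _ _).2⟩

/-- A mask pulled back along a permutation. -/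
def pull (v c : ℕ) : ℕ := ofB fun b => bits v (pI c b)

theorem bits_xor (v w : ℕ) : bits (v ^^^ w) = fun b => xor (bits v b) (bits w b) :=
  funext fun b => Nat.testBit_xor v w b.val

theorem bits_inj {v w : ℕ} (hv : v < 256) (hw : w < 256) (h : bits v = bits w) : v = w := by
  refine Nat.eq_of_testBit_eq fun i => ?_
  by_cases hi : i < 8
  · exact congrFun h ⟨i, hi⟩
  · have hp : (256 : ℕ) ≤ 2 ^ i := le_of_eq_of_le (by norm_num) (Nat.pow_le_pow_right (n := 2) (by norm_num) (Nat.le_of_not_lt hi))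
    rw [Nat.testBit_eq_false_of_lt (hv.trans_le hp), Nat.testBit_eq_false_of_lt (hw.trans_le hp)]

/-- A code with a mask as a matrix. -/
def cm (c v : ℕ) : Matrix (Fin 8) (Fin 8) (ZMod 3) := mf (pI c) (bits v)

theorem cm_mul (c d e v w : ℕ) (h : pI e = pI c ∘ pI d) :
    cm c v * cm d w = cm e (pull v d ^^^ w) := by
  rw [cm, cm, mf_mul, cm, h, bits_xor, pull, (ofB_spec _).1]

/-- The code of a listed permutation. -/
def sy (i : ℕ) : ℕ := (sylPack >>> (24 * i)) % 16777216

/-- An even number of signs. -/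
def evenB (v : ℕ) : Bool :=
  !(xor (xor (xor (v.testBit 0) (v.testBit 1)) (xor (v.testBit 2) (v.testBit 3)))
    (xor (xor (v.testBit 4) (v.testBit 5)) (xor (v.testBit 6) (v.testBit 7))))

/-- An element of the Sylow subgroup. -/
def sm (i v : ℕ) : Matrix (Fin 8) (Fin 8) (ZMod 3) := cm (sy i) v

/-- The product of indices. -/
def si (i j : ℕ) : ℕ := (mulRow.getD i 0 >>> (6 * j)) % 64

/-- The images of a listed permutation, as numbers. -/
def sp (i b : ℕ) : ℕ := (sy i >>> (3 * b)) % 8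

/-- The checks on the tables. -/
def sylB : Bool :=
  (List.range 64).all fun i =>
    (Nat.blt (invTab.getD i 0) 64 && Nat.beq (si i (invTab.getD i 0)) 0) &&
    ((List.range 64).all fun j =>
      Nat.blt (si i j) 64 && (List.range 8).all fun b => Nat.beq (sp (si i j) b) (sp i (sp j b))) &&
    ((List.range 8).all fun b => Nat.beq (sp 0 b) b) &&
    (List.range 64).all fun j => Nat.beq (sy i) (sy j) == Nat.beq i j

theorem sylB_true : sylB = true := by decide +kernel

/-- A code is the packing of its eight images. -/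
def packB : Bool :=
  (List.range 64).all fun i =>
    Nat.beq ((List.range 8).foldl (fun m b => m + (sp i b <<< (3 * b))) 0) (sy i)

theorem packB_true : packB = true := by decide +kernel

theorem syl_checks :
    (∀ i < 64, ∀ j < 64, si i j < 64 ∧
      ∀ b, pI (sy (si i j)) b = pI (sy i) (pI (sy j) b)) ∧
    (∀ i < 64, invTab.getD i 0 < 64 ∧ si i (invTab.getD i 0) = 0) ∧
    (∀ b, pI (sy 0) b = b) ∧
    (∀ i < 64, ∀ j < 64, (∀ b, pI (sy i) b = pI (sy j) b) → i = j) := by
  have h := sylB_true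
  simp only [sylB, List.all_eq_true, List.mem_range, Bool.and_eq_true, Nat.blt_eq, Nat.beq_eq,
    beq_iff_eq] at h
  refine ⟨fun i hi j hj => ⟨((h i hi).1.1.2 j hj).1, fun b => Fin.ext ?_⟩,
    fun i hi => (h i hi).1.1.1, fun b => Fin.ext ((h 0 (by norm_num)).1.2 b.val b.isLt), ?_⟩
  · exact ((h i hi).1.1.2 j hj).2 b.val b.isLt
  · intro i hi j hj e
    have e' : ∀ b < 8, sp i b = sp j b := fun b hb => congrArg Fin.val (e ⟨b, hb⟩)
    have hp := packB_true
    simp only [packB, List.all_eq_true, List.mem_range, Nat.beq_eq] at hp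
    have hcode : sy i = sy j := by
      rw [← hp i hi, ← hp j hj]
      simp [List.range_succ, e']
    refine Nat.eq_of_beq_eq_true ?_
    rw [← (h i hi).2 j hj, hcode]
    exact Nat.beq_refl _

theorem sm_mul {i j : ℕ} (hi : i < 64) (hj : j < 64) (v w : ℕ) :
    sm i v * sm j w = sm (si i j) (pull v (sy j) ^^^ w) :=
  cm_mul _ _ _ _ _ (funext fun b => (syl_checks.1 i hi j hj).2 b)

theorem sm_zero : sm 0 0 = 1 := by
  rw [sm, cm, show pI (sy 0) = id from funext syl_checks.2.2.1,
    show bits 0 = fun _ => false from funext fun b => Nat.zero_testBit _, mf_one]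

theorem sm_inj {i j v w : ℕ} (hi : i < 64) (hj : j < 64) (hv : v < 256) (hw : w < 256)
    (h : sm i v = sm j w) : i = j ∧ v = w :=
  ⟨syl_checks.2.2.2 i hi j hj fun b => congrFun (mf_inj h).1 b, bits_inj hv hw (mf_inj h).2⟩

theorem pull_lt (v c : ℕ) : pull v c < 256 := (ofB_spec _).2

theorem xor_lt {v w : ℕ} (hv : v < 256) (hw : w < 256) : v ^^^ w < 256 :=
  Nat.xor_lt_two_pow (n := 8) hv hw

/-- The Sylow subgroup. -/
def Syl : Subgroup UM where
  carrier := {u | ∃ i < 64, ∃ v < 256, u.val = sm i v}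
  one_mem' := ⟨0, by norm_num, 0, by norm_num, sm_zero.symm⟩
  mul_mem' := by
    rintro a b ⟨i, hi, v, hv, ha⟩ ⟨j, hj, w, hw, hb⟩
    exact ⟨_, (syl_checks.1 i hi j hj).1, _, xor_lt (pull_lt _ _) hw,
      by rw [Units.val_mul, ha, hb, sm_mul hi hj]⟩
  inv_mem' := by
    rintro a ⟨i, hi, v, hv, ha⟩
    obtain ⟨hj, hij⟩ := syl_checks.2.1 i hi
    refine ⟨_, hj, _, pull_lt v (sy (invTab.getD i 0)), ?_⟩
    refine Units.inv_eq_of_mul_eq_one_right ?_
    rw [ha, sm_mul hi hj, hij, Nat.xor_self, sm_zero]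

theorem mem_Syl {u : UM} : u ∈ Syl ↔ ∃ i < 64, ∃ v < 256, u.val = sm i v := Iff.rfl

theorem card_Syl : Nat.card Syl = 2 ^ 14 := by
  have hval : ∀ (i : Fin 64) (v : Fin 256), ∃ u : Syl, u.1.val = sm i.val v.val := by
    intro i v
    obtain ⟨hj, hij⟩ := syl_checks.2.1 i.val i.isLt
    have h1 : sm i.val v.val *
        sm (invTab.getD i.val 0) (pull v.val (sy (invTab.getD i.val 0))) = 1 := by
      rw [sm_mul i.isLt hj, hij, Nat.xor_self, sm_zero]
    exact ⟨⟨Units.mk _ _ h1 (mul_eq_one_comm.1 h1), i.val, i.isLt, v.val, v.isLt, rfl⟩, rfl⟩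
  choose f hf using hval
  have hbij : Function.Bijective fun p : Fin 64 × Fin 256 => f p.1 p.2 := by
    refine ⟨fun p q h => ?_, ?_⟩
    · have h' := congrArg (fun u : Syl => u.1.val) h
      simp only [hf] at h'
      obtain ⟨e1, e2⟩ := sm_inj p.1.isLt q.1.isLt p.2.isLt q.2.isLt h'
      exact Prod.ext (Fin.ext e1) (Fin.ext e2)
    · rintro ⟨u, i, hi, v, hv, hu⟩
      exact ⟨(⟨i, hi⟩, ⟨v, hv⟩), Subtype.ext (Units.ext ((hf _ _).trans hu.symm))⟩
  rw [← Nat.card_congr (Equiv.ofBijective _ hbij), Nat.card_prod, Nat.card_fin, Nat.card_fin]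
  norm_num

end Cfsg.Agent.O8Standard47
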