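import Cfsg.Agent.O8Standard47.RootCase
import Cfsg.Agent.O8Standard47.Twist

/-!
With a root of the central involution no conjugate of it acts as an outer automorphism, provided none
acts as an inner one.
-/

set_option autoImplicit false

namespace Cfsg.Agent.O8Standard47

open Subgroup
open Cfsg.Agent.O8Two50 (UM)

/-- Commutators of the Weyl group lie in `I`. -/
theorem comm_mem_I {a b : UM} (ha : a ∈ W) (hb : b ∈ W) : a * b * a⁻¹ * b⁻¹ ∈ I := by
  have hw : wRefl⁻¹ = wRefl := inv_eq_of_mul_eq_one_right (diagS_sq 1)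
  have hc : ∀ y ∈ I, wRefl * y * wRefl ∈ I := fun y hy => wRefl_normalizes y hy
  have hI : ∀ {x : UM}, x ∈ W → x ∈ I ∨ ∃ y ∈ I, x = wRefl * y := fun {x} hx => by
    rcases mem_W_iff.1 hx with h | h
    · exact Or.inl h
    · exact Or.inr ⟨_, h, by rw [← mul_assoc, show wRefl * wRefl = 1 from diagS_sq 1, one_mul]⟩
  rcases hI ha with ha' | ⟨a', ha', rfl⟩ <;> rcases hI hb with hb' | ⟨b', hb', rfl⟩
  · exact mul_mem (mul_mem (mul_mem ha' hb') (inv_mem ha')) (inv_mem hb')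
  · rw [show a * (wRefl * b') * a⁻¹ * (wRefl * b')⁻¹ =
        a * (wRefl * (b' * a⁻¹ * b'⁻¹) * wRefl⁻¹) by group, hw]
    exact mul_mem ha' (hc _ (mul_mem (mul_mem hb' (inv_mem ha')) (inv_mem hb')))
  · rw [show wRefl * a' * b * (wRefl * a')⁻¹ * b⁻¹ = (wRefl * (a' * b * a'⁻¹) * wRefl⁻¹) * b⁻¹ by group,
      hw]
    exact mul_mem (hc _ (mul_mem (mul_mem ha' hb') (inv_mem ha'))) (inv_mem hb')
  · rw [show wRefl * a' * (wRefl * b') * (wRefl * a')⁻¹ * (wRefl * b')⁻¹ =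
        wRefl * (a' * (wRefl * (b' * a'⁻¹) * wRefl⁻¹) * b'⁻¹) * wRefl⁻¹ by group, hw]
    exact hc _ (mul_mem (mul_mem ha' (hc _ (mul_mem hb' (inv_mem ha')))) (inv_mem hb'))

theorem diagS_ext {v w : ℕ} (h : ∀ i, bits v i = bits w i) : diagS v = diagS w := by
  refine Units.ext ?_
  rw [diagS_val, diagS_val, funext h]

/-- An odd sign change lies outside `I`. -/
theorem odd_diag_not {v : ℕ} (h : evenB v = false) : diagS v ∉ I := by
  intro hv
  refine wRefl_not_mem_I ?_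
  have h1 : evenB (1 ^^^ v) = true := by rw [evenB_xor, h]; decide
  have h2 := mul_mem (diagS_mem_I h1) hv
  rwa [diagS_mul, Nat.xor_assoc, Nat.xor_self, Nat.xor_zero] at h2

universe u

variable {G : Type u} [Group G] [Finite G] {ι : I →* G}

namespace Setting

variable (hS : Setting ι)
include hS

/-- No conjugate of the involution acts as an outer automorphism. -/
theorem outer_root_false (hr : ∃ r ∈ centralizer (ι.range : Set G), r * r = hS.z)
    (hinv : ∀ b ∈ W, b * b = 1 → ∃ h ∈ I, h * b * h⁻¹ ∈ E) (hneg : ∀ b ∈ W, b * b = -1 → b ∈ I)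
    {g u : G} (hgu : g * hS.z * g⁻¹ = u) (hu : u * hS.z = hS.z * u)
    (hout : ¬ ∃ a : I, Acts ι u a)
    (hinner : ∀ g' : G, g' * hS.z * g'⁻¹ * hS.z = hS.z * (g' * hS.z * g'⁻¹) →
      (∃ a : I, Acts ι (g' * hS.z * g'⁻¹) a) → g' * hS.z * g'⁻¹ = hS.z) : False := by
  have hu2 : u * u = 1 := by
    rw [← hgu, show g * hS.z * g⁻¹ * (g * hS.z * g⁻¹) = g * (hS.z * hS.z) * g⁻¹ by group, hS.z_sq]
    group
  obtain ⟨b, hb, hab⟩ := hS.exists_acts hu
  have hb2 : b * b = 1 := by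
    have h1 : Acts ι (u * u) (1 : UM) := by
      rw [hu2]; exact acts_centralizer (one_mem _)
    rcases hS.acts_unique (one_mem W) (mul_mem hb hb) h1 (hab.mul hab hb) with h | h
    · exact h
    · exact absurd ⟨⟨b, hneg b hb h⟩, hab⟩ hout
  obtain ⟨h₁, hh₁, v, hv, hd⟩ := hinv b hb hb2
  set g₁ : I := ⟨h₁, hh₁⟩
  set g' := ι g₁ * g with hg'
  set w := g' * hS.z * g'⁻¹ with hw
  have hwu : w = ι g₁ * u * (ι g₁)⁻¹ := by rw [hw, hg', ← hgu]; group
  have hgb : (g₁ : UM) * b * (g₁ : UM)⁻¹ = diagS v := hd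
  have hAw : Acts ι w (diagS v) := by
    rw [hwu, ← map_inv, ← hgb]
    exact ((acts_iota g₁).mul hab hb).mul (acts_iota g₁⁻¹) (I_le_W (g₁⁻¹).2)
  have hodd : evenB v = false := by
    by_contra h
    rw [Bool.not_eq_false] at h
    refine hout ⟨g₁⁻¹ * ⟨_, hS.facts.diag_mem v h⟩ * g₁, ?_⟩
    have hh : Acts ι ((ι g₁⁻¹) * w * ι g₁) (((g₁⁻¹ : I) : UM) * diagS v * (g₁ : UM)) :=
      ((acts_iota g₁⁻¹).mul hAw (diagS_mem_W v)).mul (acts_iota g₁) (I_le_W g₁.2)
    rwa [show ι g₁⁻¹ * w * ι g₁ = u by rw [hwu, map_inv]; group] at hh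
  have hwz : w * hS.z = hS.z * w := hS.acts_z hAw
  have houtw : ¬ ∃ a : I, Acts ι w a := by
    rintro ⟨a, ha⟩
    have hh : Acts ι (ι g₁⁻¹ * w * ι g₁) ((g₁⁻¹ * a * g₁ : I) : UM) :=
      ((acts_iota g₁⁻¹).mul ha (I_le_W a.2)).mul (acts_iota g₁) (I_le_W g₁.2)
    rw [show ι g₁⁻¹ * w * ι g₁ = u by rw [hwu, map_inv]; group] at hh
    exact hout ⟨_, hh⟩
  obtain ⟨m, hm, hm0, hm255, hmev, ⟨q, hq, hqv⟩, l, hl, hlm⟩ := outer_witness hv hodd
  -- the two-group of even sign changes commuting with `w`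
  have hdw : ∀ y : I, (y : UM) * diagS v = diagS v * y → ι y * w = w * ι y := by
    intro y hy
    refine (mul_inv_eq_iff_eq_mul.1 (hAw y y ?_)).symm
    rw [← hy, mul_inv_cancel_right]
  have hcomm : ∀ t ∈ E0.subgroupOf I, ι t * w = w * ι t := by
    intro t ht
    obtain ⟨x, -, -, hx⟩ := (Subgroup.mem_subgroupOf.1 ht : (t : UM) ∈ E0)
    exact hdw t (by rw [hx, diagS_mul, diagS_mul, Nat.xor_comm])
  obtain ⟨r', h2', hlift⟩ := hS.lift hr hw.symm (T := E0.subgroupOf I)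
    (fun ⟨t, ht⟩ => ⟨1, Subtype.ext (Subtype.ext (by
      show (t : UM) ^ 2 ^ 1 = 1
      rw [pow_one, pow_two]; exact E_sq (E0_le_E ht)))⟩) hcomm
  have heT : hS.eI ∈ E0.subgroupOf I := by
    rw [Subgroup.mem_subgroupOf]
    exact ⟨255, by norm_num, by decide, diagS_255.symm⟩
  -- the root exchanges `z` and `z * w`
  have hrz : r' * hS.z * r'⁻¹ = hS.z * w := by
    rcases (hlift _ heT).1 with h | h
    · exfalso
      have hz : r' * hS.z = hS.z * r' := (mul_inv_eq_iff_eq_mul.1 h).symm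
      obtain ⟨c, hc, hac⟩ := hS.exists_acts hz
      exact houtw ⟨⟨c * c, hS.square_is_inner hc⟩, h2' ▸ hac.mul hac hc⟩
    · have h' : hS.z * r' = r' * w * hS.z := mul_inv_eq_iff_eq_mul.1 h
      have hwr : r' * w = w * r' := by rw [← h2', mul_assoc]
      have hwi : w⁻¹ = w := by
        refine inv_eq_of_mul_eq_one_right ?_
        rw [hwu, show ι g₁ * u * (ι g₁)⁻¹ * (ι g₁ * u * (ι g₁)⁻¹) = ι g₁ * (u * u) * (ι g₁)⁻¹ by
          group, hu2]
        group
      have e : hS.z = w * (r' * hS.z * r'⁻¹) := by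
        calc hS.z = hS.z * r' * r'⁻¹ := (mul_inv_cancel_right _ _).symm
          _ = r' * w * hS.z * r'⁻¹ := by rw [h']
          _ = _ := by rw [hwr]; group
      calc r' * hS.z * r'⁻¹ = w⁻¹ * (w * (r' * hS.z * r'⁻¹)) := (inv_mul_cancel_left _ _).symm
        _ = w⁻¹ * hS.z := by rw [← e]
        _ = _ := by rw [hwi, hwz]
  have hrw : r' * w = w * r' := by rw [← h2', mul_assoc]
  -- the root fixes the sign changes that are products of commutators
  have hfix : ∀ k : ℕ, k < 256 → ∀ hk : diagS k ∈ I,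
      (∃ x ∈ l, k = x.2 ^^^ permMask x.1 x.2) → ι ⟨_, hk⟩ * r' = r' * ι ⟨_, hk⟩ := by
    rintro k hk256 hk ⟨x, hx, rfl⟩
    obtain ⟨hp, hev, hx256, hxv⟩ := hl x hx
    have hmI : mono x.1 0 ∈ I := mono_mem_I hp (by decide)
    have hval : (mono x.1 0).val = mf x.1 fun b => (0 : ℕ).testBit b := rfl
    set y1 : I := ⟨_, hmI⟩
    set y2 : I := ⟨_, hS.facts.diag_mem x.2 hev⟩
    have hy1 : (y1 : UM) * diagS v = diagS v * y1 := by
      have h := mono_conj_diag hval v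
      rw [hxv] at h
      exact mul_inv_eq_iff_eq_mul.1 h
    have hy2 : (y2 : UM) * diagS v = diagS v * y2 := by
      show diagS x.2 * diagS v = diagS v * diagS x.2
      rw [diagS_mul, diagS_mul, Nat.xor_comm]
    have hkk : (⟨_, hk⟩ : I) = y1 * y2 * y1⁻¹ * y2⁻¹ := by
      refine Subtype.ext ?_
      show diagS _ = mono x.1 0 * diagS x.2 * (mono x.1 0)⁻¹ * (diagS x.2)⁻¹
      rw [mono_conj_diag hval, diagS_inv, diagS_mul, Nat.xor_comm]
    have hev' : evenB (x.2 ^^^ permMask x.1 x.2) = true := by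
      by_contra hc
      rw [Bool.not_eq_true] at hc
      exact odd_diag_not hc hk
    refine (hlift _ (Subgroup.mem_subgroupOf.2 ⟨_, hk256, hev', rfl⟩)).2 ?_
    have hpull : ∀ y : I, (y : UM) * diagS v = diagS v * y →
        ∃ c ∈ W, Acts ι (g'⁻¹ * ι y * g') c := by
      intro y hy
      refine hS.exists_acts ?_
      calc g'⁻¹ * ι y * g' * hS.z = g'⁻¹ * (ι y * w) * g' := by rw [hw]; group
        _ = g'⁻¹ * (w * ι y) * g' := by rw [hdw y hy]
        _ = _ := by rw [hw]; group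
    obtain ⟨c1, hc1, ha1⟩ := hpull y1 hy1
    obtain ⟨c2, hc2, ha2⟩ := hpull y2 hy2
    obtain ⟨c3, hc3, ha3⟩ := hpull y1⁻¹ (by
      rw [Subgroup.coe_inv]; exact ((show Commute (y1 : UM) (diagS v) from hy1).inv_left).eq)
    obtain ⟨c4, hc4, ha4⟩ := hpull y2⁻¹ (by
      rw [Subgroup.coe_inv]; exact ((show Commute (y2 : UM) (diagS v) from hy2).inv_left).eq)
    have h3 : c3 = c1⁻¹ ∨ c3 = -c1⁻¹ := by
      have hi : Acts ι ((g'⁻¹ * ι y1 * g') * (g'⁻¹ * ι y1⁻¹ * g')) (1 : UM) := by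
        rw [show g'⁻¹ * ι y1 * g' * (g'⁻¹ * ι y1⁻¹ * g') = 1 by rw [map_inv]; group]
        exact acts_centralizer (one_mem _)
      rcases hS.acts_unique (one_mem W) (mul_mem hc1 hc3) hi (ha1.mul ha3 hc3) with h | h
      · exact Or.inl (eq_inv_of_mul_eq_one_right h)
      · exact Or.inr (by rw [← inv_mul_cancel_left c1 c3, h, mul_neg, mul_one])
    have h4 : c4 = c2⁻¹ ∨ c4 = -c2⁻¹ := by
      have hi : Acts ι ((g'⁻¹ * ι y2 * g') * (g'⁻¹ * ι y2⁻¹ * g')) (1 : UM) := by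
        rw [show g'⁻¹ * ι y2 * g' * (g'⁻¹ * ι y2⁻¹ * g') = 1 by rw [map_inv]; group]
        exact acts_centralizer (one_mem _)
      rcases hS.acts_unique (one_mem W) (mul_mem hc2 hc4) hi (ha2.mul ha4 hc4) with h | h
      · exact Or.inl (eq_inv_of_mul_eq_one_right h)
      · exact Or.inr (by rw [← inv_mul_cancel_left c2 c4, h, mul_neg, mul_one])
    have hcI : c1 * c2 * c3 * c4 ∈ I := by
      have h0 := comm_mem_I hc1 hc2
      rcases h3 with rfl | rfl <;> rcases h4 with rfl | rfl <;>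
        (try simp only [mul_neg, neg_mul, neg_neg])
      · exact h0
      · rw [← neg_one_mul]; exact mul_mem hS.facts.neg_mem h0
      · rw [← neg_one_mul]; exact mul_mem hS.facts.neg_mem h0
      · exact h0
    refine ⟨⟨_, hcI⟩, ?_⟩
    have hh := ((ha1.mul ha2 hc2).mul ha3 hc3).mul ha4 hc4
    rwa [show g'⁻¹ * ι y1 * g' * (g'⁻¹ * ι y2 * g') * (g'⁻¹ * ι y1⁻¹ * g') * (g'⁻¹ * ι y2⁻¹ * g') =
      g'⁻¹ * ι ⟨_, hk⟩ * g' by rw [hkk, map_mul, map_mul, map_mul]; group] at hh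
  -- hence it fixes the witness
  obtain ⟨hmI, hmr⟩ : ∃ hmI : diagS m ∈ I, ι ⟨_, hmI⟩ * r' = r' * ι ⟨_, hmI⟩ := by
    have hfold : ∀ (l' : List (Equiv.Perm (Fin 8) × ℕ)), (∀ x ∈ l', x ∈ l) → ∀ acc,
        (∃ h : diagS acc ∈ I, ι ⟨_, h⟩ * r' = r' * ι ⟨_, h⟩) →
        ∃ h : diagS (l'.foldl (fun acc x => acc ^^^ (x.2 ^^^ permMask x.1 x.2)) acc) ∈ I,
          ι ⟨_, h⟩ * r' = r' * ι ⟨_, h⟩ := by
      intro l'
      induction l' with
      | nil => exact fun _ acc h => h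
      | cons x l' ih =>
        intro hsub acc ⟨hacc, hc⟩
        rw [List.foldl_cons]
        refine ih (fun y hy => hsub y (List.mem_cons_of_mem _ hy)) _ ?_
        obtain ⟨hp, hev, hx256, -⟩ := hl x (hsub x (List.mem_cons_self ..))
        have hval : (mono x.1 0).val = mf x.1 fun b => (0 : ℕ).testBit b := rfl
        have hk : diagS (x.2 ^^^ permMask x.1 x.2) ∈ I := by
          rw [← diagS_mul, ← mono_conj_diag hval]
          exact mul_mem (hS.facts.diag_mem _ hev) (mul_mem (mul_mem (mono_mem_I hp (by decide))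
            (hS.facts.diag_mem _ hev)) (inv_mem (mono_mem_I hp (by decide))))
        have h : diagS (acc ^^^ (x.2 ^^^ permMask x.1 x.2)) ∈ I := by
          rw [← diagS_mul]; exact mul_mem hacc hk
        refine ⟨h, ?_⟩
        rw [show (⟨_, h⟩ : I) = ⟨_, hacc⟩ * ⟨_, hk⟩ from Subtype.ext (diagS_mul _ _).symm, map_mul,
          mul_assoc, hfix _ (xor_lt hx256 (Member.permMask_lt _ _)) hk ⟨x, hsub x (List.mem_cons_self ..), rfl⟩,
          ← mul_assoc, hc, mul_assoc]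
    have h1 : diagS 0 ∈ I := by rw [diagS_zero]; exact one_mem I
    obtain ⟨h2, h3⟩ := hfold l (fun _ h => h) 0 ⟨h1, by
      rw [show (⟨_, h1⟩ : I) = 1 from Subtype.ext diagS_zero, map_one, one_mul, mul_one]⟩
    subst hlm
    exact ⟨h2, h3⟩
  -- a conjugate of `w`
  have hqI : mono q 0 ∈ I := mono_mem_I hq (by decide)
  have hqval : (mono q 0).val = mf q fun b => (0 : ℕ).testBit b := rfl
  set y : I := ⟨_, hqI⟩
  set mI : I := ⟨_, hmI⟩
  have hneI : mI ≠ 1 ∧ mI ≠ hS.eI := by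
    refine ⟨fun h => hm0 (diagS_inj hm (by norm_num) (by rw [diagS_zero]; exact congrArg Subtype.val h)),
      fun h => hm255 (diagS_inj hm (by norm_num) (by rw [diagS_255]; exact congrArg Subtype.val h))⟩
  have hbad : ∀ g₂ : G, g₂ * hS.z * g₂⁻¹ = hS.z * ι mI ∨ g₂ * hS.z * g₂⁻¹ = ι mI → False := by
    intro g₂ h
    rcases h with h | h
    · have he : g₂ * hS.z * g₂⁻¹ = ι (hS.eI * mI) := by rw [h, map_mul]; rfl
      have h0 := hinner g₂ (by rw [he]; exact hS.z_mem _ ⟨_, rfl⟩) ⟨_, he ▸ acts_iota _⟩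
      rw [h, mul_eq_left] at h0
      exact hneI.1 (hS.inj (h0.trans (map_one ι).symm))
    · have h0 := hinner g₂ (by rw [h]; exact hS.z_mem _ ⟨_, rfl⟩) ⟨_, h ▸ acts_iota _⟩
      rw [h] at h0
      exact hneI.2 (hS.inj h0)
  -- the conjugate exactly
  have hyw : ι y * w * (ι y)⁻¹ = w * ι mI ∨ ι y * w * (ι y)⁻¹ = w * ι mI * hS.z := by
    have hconj := hAw y ⟨_, conj_mem_I (diagS_mem_W v) y.2⟩ rfl
    set y' : I := ⟨diagS v * (y : UM) * (diagS v)⁻¹, conj_mem_I (diagS_mem_W v) y.2⟩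
    have hw2 : w * w = 1 := by
      rw [hwu, show ι g₁ * u * (ι g₁)⁻¹ * (ι g₁ * u * (ι g₁)⁻¹) = ι g₁ * (u * u) * (ι g₁)⁻¹ by group,
        hu2]
      group
    have e1 : ι y * w * (ι y)⁻¹ = w * ι (y' * y⁻¹) := by
      rw [map_mul, map_inv, ← hconj]
      calc ι y * w * (ι y)⁻¹ = (w * w) * (ι y * (w * (ι y)⁻¹)) := by rw [hw2]; group
        _ = w * (w * ι y * w⁻¹ * (ι y)⁻¹) := by
          rw [show w⁻¹ = w from inv_eq_of_mul_eq_one_right hw2]; group
    have e2 : ((y' * y⁻¹ : I) : UM) = diagS (v ^^^ permMask q v) := by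
      show diagS v * mono q 0 * (diagS v)⁻¹ * (mono q 0)⁻¹ = _
      rw [show diagS v * mono q 0 * (diagS v)⁻¹ * (mono q 0)⁻¹ =
        diagS v * (mono q 0 * (diagS v)⁻¹ * (mono q 0)⁻¹) by group, diagS_inv, mono_conj_diag hqval,
        diagS_mul]
    rcases hqv with h | h <;> rw [h] at e2
    · left
      rw [e1]; congr 2
      refine Subtype.ext (e2.trans ?_)
      rw [← Nat.xor_assoc, Nat.xor_self, Nat.zero_xor]
    · right
      have e3 : y' * y⁻¹ = mI * hS.eI := by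
        refine Subtype.ext (e2.trans ?_)
        rw [← Nat.xor_assoc, ← Nat.xor_assoc, Nat.xor_self, Nat.zero_xor, ← diagS_mul, diagS_255]
        rfl
      rw [e1, e3, map_mul]
      exact (mul_assoc w (ι mI) hS.z).symm
  have hrm : r' * ι mI * r'⁻¹ = ι mI := by rw [← hmr, mul_inv_cancel_right]
  rcases hyw with h | h
  · refine hbad (r' * (ι y * r')) (Or.inl ?_)
    calc r' * (ι y * r') * hS.z * (r' * (ι y * r'))⁻¹
        = r' * (ι y * (r' * hS.z * r'⁻¹) * (ι y)⁻¹) * r'⁻¹ := by group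
      _ = r' * ((ι y * hS.z * (ι y)⁻¹) * (ι y * w * (ι y)⁻¹)) * r'⁻¹ := by rw [hrz]; group
      _ = r' * (hS.z * (w * ι mI)) * r'⁻¹ := by
        rw [h, (show Commute (ι y) hS.z from hS.z_mem _ ⟨y, rfl⟩).eq, mul_inv_cancel_right]
      _ = (r' * hS.z * r'⁻¹) * (r' * w * r'⁻¹) * (r' * ι mI * r'⁻¹) := by group
      _ = hS.z * w * w * ι mI := by rw [hrz, hrm, hrw, mul_inv_cancel_right]
      _ = _ := by
        rw [mul_assoc hS.z w w, hwu,
          show ι g₁ * u * (ι g₁)⁻¹ * (ι g₁ * u * (ι g₁)⁻¹) = ι g₁ * (u * u) * (ι g₁)⁻¹ by group, hu2]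
        group
  · refine hbad (r' * (ι y * g')) (Or.inl ?_)
    calc r' * (ι y * g') * hS.z * (r' * (ι y * g'))⁻¹
        = r' * (ι y * w * (ι y)⁻¹) * r'⁻¹ := by rw [hw]; group
      _ = (r' * w * r'⁻¹) * (r' * ι mI * r'⁻¹) * (r' * hS.z * r'⁻¹) := by rw [h]; group
      _ = w * ι mI * (hS.z * w) := by rw [hrz, hrm, hrw, mul_inv_cancel_right]
      _ = w * (ι mI * hS.z) * w := by group
      _ = w * (hS.z * ι mI) * w := by
        rw [(show Commute (ι mI) hS.z from hS.z_mem _ ⟨mI, rfl⟩).eq]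
      _ = (hS.z * ι mI) * (w * w) := by
        have hc : Commute w (hS.z * ι mI) := (show Commute w hS.z from hwz).mul_right
          (hdw mI (by show diagS m * diagS v = diagS v * diagS m; rw [diagS_mul, diagS_mul, Nat.xor_comm])).symm
        rw [hc.eq, mul_assoc]
      _ = _ := by
        rw [hwu, show ι g₁ * u * (ι g₁)⁻¹ * (ι g₁ * u * (ι g₁)⁻¹) = ι g₁ * (u * u) * (ι g₁)⁻¹ by group,
          hu2]
        group

end Setting

end Cfsg.Agent.O8Standard47
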