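import Cfsg.Agent.O8Standard47.Diag
import Mathlib.LinearAlgebra.Matrix.ToLin
import Mathlib.LinearAlgebra.FiniteDimensional.Basic

/-!
Two commuting quaternion groups in dimension eight modulo three centralize only elements whose
fourth power is trivial with square `±1`; a witness inside the image of the double cover.
-/

set_option autoImplicit false

namespace Cfsg.Agent.O8Standard47

open Cfsg.Agent.O8Two50 (UM unitY mtx)

section linear

variable {V : Type*} [AddCommGroup V] [Module (ZMod 3) V]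

/-- A square of order dividing two in `GL(2,3)` is central. -/
theorem sq_two_by_two : ∀ a b c d : ZMod 3,
    !![a, b; c, d] * !![a, b; c, d] * (!![a, b; c, d] * !![a, b; c, d]) = 1 →
      !![a, b; c, d] * !![a, b; c, d] = 1 ∨ !![a, b; c, d] * !![a, b; c, d] = -1 := by
  decide +kernel

/-- An operator on a plane with fourth power one has square `±1`. -/
theorem sq_plane {U : Type*} [AddCommGroup U] [Module (ZMod 3) U] [Module.Finite (ZMod 3) U]
    (hU : Module.finrank (ZMod 3) U = 2) (f : Module.End (ZMod 3) U) (h : f * f * (f * f) = 1) :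
    f * f = 1 ∨ f * f = -1 := by
  set e := LinearMap.toMatrixAlgEquiv (Module.finBasisOfFinrankEq (ZMod 3) U hU) with he
  have hm : e f = !![e f 0 0, e f 0 1; e f 1 0, e f 1 1] := Matrix.eta_fin_two _
  have h' : e f * e f * (e f * e f) = 1 := by rw [← map_mul, ← map_mul, h, map_one]
  rw [hm] at h'
  rcases sq_two_by_two _ _ _ _ h' with h2 | h2 <;> rw [← hm, ← map_mul] at h2
  · exact Or.inl (e.injective (h2.trans (map_one e).symm))
  · exact Or.inr (e.injective (h2.trans (by rw [map_neg, map_one])))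

theorem four_eq_one {M : Type*} [AddCommGroup M] [Module (ZMod 3) M] (x : M) :
    x + x + x + x = x := by
  have h : ((1 + 1 + 1 + 1 : ZMod 3)) • x = x := by
    rw [show (1 + 1 + 1 + 1 : ZMod 3) = 1 by decide, one_smul]
  simpa [add_smul] using h

/-- The centralizer of two commuting quaternion pairs in dimension eight. -/
theorem quat_square_end [Module.Finite (ZMod 3) V] (hV : Module.finrank (ZMod 3) V = 8)
    (i j k l p : Module.End (ZMod 3) V) (hi : i * i = -1) (hj : j * j = -1) (hk : k * k = -1)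
    (hl : l * l = -1) (hji : j * i = -(i * j)) (hlk : l * k = -(k * l)) (hik : i * k = k * i)
    (hil : i * l = l * i) (hjk : j * k = k * j) (hjl : j * l = l * j) (hpi : p * i = i * p)
    (hpj : p * j = j * p) (hpk : p * k = k * p) (hpl : p * l = l * p)
    (hp : p * p * (p * p) = 1) : p * p = 1 ∨ p * p = -1 := by
  set a := i * k with ha
  set b := j * l with hb
  have Hi : ∀ x, i (i x) = -x := fun x => by rw [← Module.End.mul_apply, hi]; simp
  have Hj : ∀ x, j (j x) = -x := fun x => by rw [← Module.End.mul_apply, hj]; simp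
  have Hk : ∀ x, k (k x) = -x := fun x => by rw [← Module.End.mul_apply, hk]; simp
  have Hl : ∀ x, l (l x) = -x := fun x => by rw [← Module.End.mul_apply, hl]; simp
  have cm : ∀ {f g : Module.End (ZMod 3) V}, f * g = g * f → ∀ x, f (g x) = g (f x) :=
    fun {f g} h x => by rw [← Module.End.mul_apply, h, Module.End.mul_apply]
  have Hji : ∀ x, j (i x) = -i (j x) := fun x => by rw [← Module.End.mul_apply, hji]; simp
  have Hlk : ∀ x, l (k x) = -k (l x) := fun x => by rw [← Module.End.mul_apply, hlk]; simp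
  have Aa : ∀ x, a (a x) = x := fun x => by
    simp only [ha, Module.End.mul_apply]
    rw [cm hik.symm, Hi, Hk, neg_neg]
  have Bb : ∀ x, b (b x) = x := fun x => by
    simp only [hb, Module.End.mul_apply]
    rw [cm hjl.symm, Hj, Hl, neg_neg]
  have Ab : ∀ x, a (b x) = b (a x) := fun x => by
    simp only [ha, hb, Module.End.mul_apply]
    rw [cm hjk.symm, cm hil.symm, Hji, Hlk, map_neg, map_neg, neg_neg]
  have Ai : ∀ x, a (i x) = i (a x) := fun x => by
    simp only [ha, Module.End.mul_apply]; rw [cm hik.symm]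
  have Bi : ∀ x, b (i x) = -i (b x) := fun x => by
    simp only [hb, Module.End.mul_apply]; rw [cm hil.symm, Hji]
  have Aj : ∀ x, a (j x) = -j (a x) := fun x => by
    simp only [ha, Module.End.mul_apply]; rw [cm hjk.symm, Hji, neg_neg]
  have Bj : ∀ x, b (j x) = j (b x) := fun x => by
    simp only [hb, Module.End.mul_apply]; rw [cm hjl.symm]
  set U : Submodule (ZMod 3) V := LinearMap.ker (a - 1) ⊓ LinearMap.ker (b - 1) with hU
  have memU : ∀ {x}, x ∈ U ↔ a x = x ∧ b x = x := fun {x} => by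
    simp [hU, sub_eq_zero]
  set π : Module.End (ZMod 3) V := 1 + a + b + a * b with hπ
  have Hπ : ∀ x, π x = x + a x + b x + a (b x) := fun x => rfl
  have πU : ∀ x, π x ∈ U := fun x => by
    refine memU.2 ⟨?_, ?_⟩ <;> simp only [Hπ, map_add]
    · rw [Aa, Aa]; abel
    · simp only [← Ab, Bb]; abel
  let Φ : V →ₗ[ZMod 3] U × U × U × U :=
    (π.codRestrict U πU).prod (((π * i).codRestrict U fun x => πU _).prod
      (((π * j).codRestrict U fun x => πU _).prod ((π * (i * j)).codRestrict U fun x => πU _)))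
  let Ψ : U × U × U × U →ₗ[ZMod 3] V :=
    U.subtype ∘ₗ LinearMap.fst _ _ _
      - (i ∘ₗ U.subtype ∘ₗ LinearMap.fst _ _ _) ∘ₗ LinearMap.snd _ _ _
      - (j ∘ₗ U.subtype ∘ₗ LinearMap.fst _ _ _) ∘ₗ LinearMap.snd _ _ _ ∘ₗ LinearMap.snd _ _ _
      - (i ∘ₗ j ∘ₗ U.subtype) ∘ₗ LinearMap.snd _ _ _ ∘ₗ LinearMap.snd _ _ _ ∘ₗ LinearMap.snd _ _ _
  have hΨΦ : ∀ x, Ψ (Φ x) = x := fun x => by
    show π x - i (π (i x)) - j (π (j x)) - i (j (π (i (j x)))) = x
    simp only [Hπ, map_add, Ab, Ai, Bi, Aj, Bj, map_neg, neg_neg, Hi, Hj, Hji]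
    conv_rhs => rw [← four_eq_one x]
    abel
  have hΦΨ : ∀ q, Φ (Ψ q) = q := by
    rintro ⟨⟨u, hu⟩, ⟨v, hv⟩, ⟨w, hw⟩, ⟨z, hz⟩⟩
    obtain ⟨hu1, hu2⟩ := memU.1 hu
    obtain ⟨hv1, hv2⟩ := memU.1 hv
    obtain ⟨hw1, hw2⟩ := memU.1 hw
    obtain ⟨hz1, hz2⟩ := memU.1 hz
    refine Prod.ext (Subtype.ext ?_) (Prod.ext (Subtype.ext ?_)
      (Prod.ext (Subtype.ext ?_) (Subtype.ext ?_)))
    · show π (u - i v - j w - i (j z)) = u
      simp only [Hπ, map_sub, Ai, Bi, Aj, Bj, map_neg, neg_neg, hu1, hu2, hv1, hv2, hw1, hw2, hz1, hz2]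
      conv_rhs => rw [← four_eq_one u]
      abel
    · show π (i (u - i v - j w - i (j z))) = v
      simp only [Hπ, map_sub, Ai, Bi, Aj, Bj, map_neg, neg_neg, Hi, hu1, hu2, hv1, hv2, hw1, hw2, hz1, hz2]
      conv_rhs => rw [← four_eq_one v]
      abel
    · show π (j (u - i v - j w - i (j z))) = w
      simp only [Hπ, map_sub, Ai, Bi, Aj, Bj, map_neg, neg_neg, Hi, Hj, Hji, hu1, hu2, hv1, hv2, hw1, hw2, hz1,
        hz2]
      conv_rhs => rw [← four_eq_one w]
      abel
    · show π (i (j (u - i v - j w - i (j z)))) = z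
      simp only [Hπ, map_sub, Ai, Bi, Aj, Bj, map_neg, neg_neg, Hi, Hj, Hji, hu1, hu2, hv1, hv2, hw1, hw2, hz1,
        hz2]
      conv_rhs => rw [← four_eq_one z]
      abel
  have hdim : Module.finrank (ZMod 3) U = 2 := by
    have h := (LinearEquiv.ofLinear Φ Ψ (LinearMap.ext hΦΨ) (LinearMap.ext hΨΦ)).finrank_eq
    rw [hV, Module.finrank_prod, Module.finrank_prod, Module.finrank_prod] at h
    omega
  have Pa : ∀ x, p (a x) = a (p x) := fun x => by
    simp only [ha, Module.End.mul_apply]; rw [cm hpi, cm hpk]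
  have Pb : ∀ x, p (b x) = b (p x) := fun x => by
    simp only [hb, Module.End.mul_apply]; rw [cm hpj, cm hpl]
  have pU : ∀ x ∈ U, p x ∈ U := fun x hx => by
    obtain ⟨h1, h2⟩ := memU.1 hx
    exact memU.2 ⟨by rw [← Pa, h1], by rw [← Pb, h2]⟩
  have hq : p.restrict pU * p.restrict pU * (p.restrict pU * p.restrict pU) = 1 :=
    LinearMap.ext fun x => Subtype.ext (LinearMap.congr_fun hp x.1)
  have spread : ∀ c : ZMod 3, (∀ u ∈ U, p (p u) = c • u) → ∀ x, p (p x) = c • x := by
    intro c hc x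
    rw [← hΨΦ x]
    show p (p (π x - i (π (i x)) - j (π (j x)) - i (j (π (i (j x)))))) =
      c • (π x - i (π (i x)) - j (π (j x)) - i (j (π (i (j x)))))
    simp only [map_sub, cm hpi, cm hpj, hc _ (πU _), map_smul, smul_sub]
  rcases sq_plane hdim _ hq with h | h
  · left
    refine LinearMap.ext fun x => ?_
    have := spread 1 (fun u hu => by simpa using congrArg Subtype.val (LinearMap.congr_fun h ⟨u, hu⟩)) x
    simpa using this
  · right
    refine LinearMap.ext fun x => ?_
    have := spread (-1)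
      (fun u hu => by simpa using congrArg Subtype.val (LinearMap.congr_fun h ⟨u, hu⟩)) x
    simpa using this

end linear

/-- Two commuting quaternion pairs and an element commuting with them. -/
theorem quat_square (i j i' j' p : UM) (hi : i * i = -1) (hj : j * j = -1) (hi' : i' * i' = -1)
    (hj' : j' * j' = -1) (hji : j * i = -(i * j)) (hji' : j' * i' = -(i' * j'))
    (hii : i * i' = i' * i) (hij : i * j' = j' * i) (hjj : j * i' = i' * j) (hjj' : j * j' = j' * j)
    (hpi : p * i = i * p) (hpj : p * j = j * p) (hpi' : p * i' = i' * p) (hpj' : p * j' = j' * p)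
    (hp : p * p * (p * p) = 1) : p * p = 1 ∨ p * p = -1 := by
  set e := Matrix.toLinAlgEquiv' (R := ZMod 3) (n := Fin 8) with he
  have key : ∀ {x y : UM}, x = y → e x.val = e y.val := fun h => by rw [h]
  have hmul : ∀ x y : UM, e (x * y).val = e x.val * e y.val := fun x y => by
    rw [Units.val_mul, map_mul]
  have hneg : ∀ x : UM, e (-x).val = -e x.val := fun x => by rw [Units.val_neg, map_neg]
  have hone : e (1 : UM).val = 1 := by rw [Units.val_one, map_one]
  have h := quat_square_end (V := Fin 8 → ZMod 3) (Module.finrank_fin_fun _) (e i.val) (e j.val)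
    (e i'.val) (e j'.val) (e p.val)
    (by simpa [hmul, hneg, hone] using key hi) (by simpa [hmul, hneg, hone] using key hj)
    (by simpa [hmul, hneg, hone] using key hi') (by simpa [hmul, hneg, hone] using key hj')
    (by simpa [hmul, hneg, hone] using key hji) (by simpa [hmul, hneg, hone] using key hji')
    (by simpa [hmul, hneg, hone] using key hii) (by simpa [hmul, hneg, hone] using key hij)
    (by simpa [hmul, hneg, hone] using key hjj) (by simpa [hmul, hneg, hone] using key hjj')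
    (by simpa [hmul, hneg, hone] using key hpi) (by simpa [hmul, hneg, hone] using key hpj)
    (by simpa [hmul, hneg, hone] using key hpi') (by simpa [hmul, hneg, hone] using key hpj')
    (by simpa [hmul, hneg, hone] using key hp)
  rcases h with h | h
  · exact Or.inl (Units.ext (e.injective (by rw [hmul, hone]; exact h)))
  · exact Or.inr (Units.ext (e.injective (by rw [hmul, hneg, hone]; exact h)))

section witness

/-- A monomial generator as code and mask. -/
def qGen (r : Fin 24) : ℕ × ℕ :=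
  match r.val with
  | 5 => (15918602, 95)
  | 14 => (11788826, 175)
  | 15 => (11789960, 245)
  | 16 => (16434824, 85)
  | 17 => (11788826, 165)
  | 19 => (14570689, 207)
  | 20 => (14571144, 3)
  | 21 => (16434824, 195)
  | 22 => (14570689, 51)
  | _ => (0, 0)

theorem qGen_val : ∀ r ∈ [5, 14, 15, 16, 17, 19, 20, 21, 22],
    mtx 0 (Fin.ofNat 24 r) = cm (qGen (Fin.ofNat 24 r)).1 (qGen (Fin.ofNat 24 r)).2 := by
  decide +kernel

/-- The monomial form of a word. -/
def qEval : List ℕ → (Fin 8 → Fin 8) × (Fin 8 → Bool)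
  | [] => (id, fun _ => false)
  | r :: w =>
    (pI (qGen (Fin.ofNat 24 r)).1 ∘ (qEval w).1,
      fun b => xor (bits (qGen (Fin.ofNat 24 r)).2 ((qEval w).1 b)) ((qEval w).2 b))

theorem qWord (w : List ℕ) (h : ∀ r ∈ w, r ∈ [5, 14, 15, 16, 17, 19, 20, 21, 22]) :
    ∃ u ∈ I, u.val = mf (qEval w).1 (qEval w).2 := by
  induction w with
  | nil => exact ⟨1, I.one_mem, by rw [Units.val_one]; exact mf_one.symm⟩
  | cons r w ih =>
    obtain ⟨u, hu, huv⟩ := ih fun s hs => h s (List.mem_cons_of_mem _ hs)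
    refine ⟨unitY 0 (Fin.ofNat 24 r) * u,
      I.mul_mem (Subgroup.subset_closure ⟨_, rfl⟩) hu, ?_⟩
    rw [Units.val_mul, huv]
    show mtx 0 (Fin.ofNat 24 r) * _ = _
    rw [qGen_val r (h r List.mem_cons_self), cm, mf_mul]
    rfl

/-- The word of a product. -/
theorem qMul {u v : UM} {f g : (Fin 8 → Fin 8) × (Fin 8 → Bool)} (hu : u.val = mf f.1 f.2)
    (hv : v.val = mf g.1 g.2) :
    (u * v).val = mf (f.1 ∘ g.1) fun b => xor (f.2 (g.1 b)) (g.2 b) := by
  rw [Units.val_mul, hu, hv, mf_mul]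

theorem block_witness : ∃ i ∈ I, ∃ j ∈ I, ∃ i' ∈ I, ∃ j' ∈ I, ∃ p ∈ I,
    i * i = diagS 15 ∧ j * j = diagS 15 ∧ i' * i' = diagS 15 ∧ j' * j' = diagS 15 ∧
    j * i = i * j * diagS 15 ∧ j' * i' = i' * j' * diagS 15 ∧
    i * i' = i' * i ∧ i * j' = j' * i ∧ j * i' = i' * j ∧ j * j' = j' * j ∧
    p * i = i * p ∧ p * j = j * p ∧ p * i' = i' * p ∧ p * j' = j' * p ∧ p * p = diagS 240 := by
  obtain ⟨i, hi, vi⟩ := qWord [14, 17, 19, 20, 21] (by decide)
  obtain ⟨j, hj, vj⟩ := qWord [15, 17, 19, 16, 22] (by decide)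
  obtain ⟨k, hk, vk⟩ := qWord [17, 20, 22, 14, 21] (by decide)
  obtain ⟨l, hl, vl⟩ := qWord [14, 15, 19, 16, 22] (by decide)
  obtain ⟨p, hp, vp⟩ := qWord [5, 19, 16, 22, 5, 20] (by decide)
  have eq : ∀ {x y : UM} {f g : (Fin 8 → Fin 8) × (Fin 8 → Bool)}, x.val = mf f.1 f.2 →
      y.val = mf g.1 g.2 → f = g → x = y := fun hx hy h => Units.ext (by rw [hx, hy, h])
  have d : ∀ v, (diagS v).val = mf ((id : Fin 8 → Fin 8), bits v).1
      ((id : Fin 8 → Fin 8), bits v).2 := diagS_val
  have m : ∀ {x y : UM} {f g : (Fin 8 → Fin 8) × (Fin 8 → Bool)}, x.val = mf f.1 f.2 →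
      y.val = mf g.1 g.2 → (x * y).val =
        mf ((f.1 ∘ g.1, fun b => xor (f.2 (g.1 b)) (g.2 b)) :
          (Fin 8 → Fin 8) × (Fin 8 → Bool)).1
          ((f.1 ∘ g.1, fun b => xor (f.2 (g.1 b)) (g.2 b)) :
          (Fin 8 → Fin 8) × (Fin 8 → Bool)).2 := fun hx hy => qMul hx hy
  refine ⟨i, hi, j, hj, k, hk, l, hl, p, hp, eq (m vi vi) (d 15) ?_, eq (m vj vj) (d 15) ?_,
    eq (m vk vk) (d 15) ?_, eq (m vl vl) (d 15) ?_, eq (m vj vi) (m (m vi vj) (d 15)) ?_,
    eq (m vl vk) (m (m vk vl) (d 15)) ?_, eq (m vi vk) (m vk vi) ?_, eq (m vi vl) (m vl vi) ?_,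
    eq (m vj vk) (m vk vj) ?_, eq (m vj vl) (m vl vj) ?_, eq (m vp vi) (m vi vp) ?_,
    eq (m vp vj) (m vj vp) ?_, eq (m vp vk) (m vk vp) ?_, eq (m vp vl) (m vl vp) ?_,
    eq (m vp vp) (d 240) ?_⟩ <;> decide +kernel

end witness

end Cfsg.Agent.O8Standard47
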