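import Cfsg.Agent.O8Standard47.Root
import Cfsg.Agent.O8Standard47.MonoConj

/-!
The case where the central involution has a square root in the centraliser of the subgroup.
-/

set_option autoImplicit false
set_option linter.style.haveILetI false

namespace Cfsg.Agent.O8Standard47

open Subgroup
open Cfsg.Agent.O8Two50 (UM)

universe u

variable {G : Type u} [Group G] [Finite G] {ι : I →* G}

namespace Setting

variable (hS : Setting ι)
include hS

/-- An inner two-element inverting a root commutes with it. -/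
theorem inner_comm {r t : G} (hr : r ∈ centralizer (ι.range : Set G)) (hr2 : r * r = hS.z) {T : Subgroup G}
    {ht : t ∈ T} (hp : ∃ k : ℕ, (⟨t, ht⟩ : T) ^ 2 ^ k = 1) {a : I} (ha : Acts ι t a)
    (hc : t * r * t⁻¹ = r ∨ t * r * t⁻¹ = r * hS.z) : t * r = r * t := by
  classical
  haveI : Fact (Nat.Prime 2) := ⟨Nat.prime_two⟩
  set C := centralizer (ι.range : Set G) with hC
  obtain ⟨k, hk⟩ := hp
  set c := (ι a)⁻¹ * t with hcdef
  have hcC : c ∈ C := split_inner ha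
  have htc : t = ι a * c := (mul_inv_cancel_left _ _).symm
  have hrc : c * r * c⁻¹ = r ∨ c * r * c⁻¹ = r * hS.z := by
    have e : c * r * c⁻¹ = (ι a)⁻¹ * (t * r * t⁻¹) * ι a := by rw [hcdef]; group
    have hfix : ∀ w ∈ C, (ι a)⁻¹ * w * ι a = w := fun w hw => by
      rw [mul_assoc, ← (comm_range hw).eq, inv_mul_cancel_left]
    rcases hc with h | h
    · exact Or.inl (by rw [e, h, hfix r hr])
    · exact Or.inr (by rw [e, h, hfix _ (mul_mem hr hS.z_mem)])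
  have hc2 : c ^ 2 ^ (k + 1) = 1 := by
    rw [pow_succ, pow_mul]
    rcases hS.pow_eq_one_parts hcC (a := a) (n := 2 ^ k) (by
      rw [← htc]; exact congrArg Subtype.val hk) with h | h <;> rw [h]
    · exact one_pow 2
    · rw [pow_two]; exact hS.z_sq
  have hcp : IsPGroup 2 (zpowers (⟨c, hcC⟩ : C)) := by
    obtain ⟨j, -, hj⟩ := (Nat.dvd_prime_pow Nat.prime_two).1
      (orderOf_dvd_of_pow_eq_one (x := (⟨c, hcC⟩ : C)) (Subtype.ext hc2))
    exact IsPGroup.of_card (n := j) (by rw [Nat.card_zpowers, hj])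
  have hr4 : (⟨r, hr⟩ : C) ^ 2 ^ 2 = 1 := Subtype.ext (by
    show r ^ 2 ^ 2 = 1
    rw [show 2 ^ 2 = 2 + 2 by norm_num, pow_add, pow_two, hr2, hS.z_sq])
  have hrp : IsPGroup 2 (zpowers (⟨r, hr⟩ : C)) := by
    obtain ⟨j, -, hj⟩ := (Nat.dvd_prime_pow Nat.prime_two).1 (orderOf_dvd_of_pow_eq_one hr4)
    exact IsPGroup.of_card (n := j) (by rw [Nat.card_zpowers, hj])
  have hconjr : (⟨c, hcC⟩ : C) * ⟨r, hr⟩ * (⟨c, hcC⟩ : C)⁻¹ ∈ zpowers (⟨r, hr⟩ : C) := by
    rcases hrc with h | h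
    · exact mem_zpowers_iff.2 ⟨1, Subtype.ext (by rw [zpow_one]; exact h.symm)⟩
    · exact mem_zpowers_iff.2 ⟨3, Subtype.ext (by
        show r ^ (3 : ℤ) = c * r * c⁻¹
        rw [h, ← hr2, zpow_ofNat, pow_succ, pow_two, mul_assoc])⟩
  have hle : zpowers (⟨c, hcC⟩ : C) ≤ normalizer (zpowers (⟨r, hr⟩ : C) : Set C) := by
    rw [zpowers_le, mem_normalizer_iff]
    set γ : C := ⟨c, hcC⟩
    set ρ : C := ⟨r, hr⟩
    set φ := (MulAut.conj γ).toMonoidHom
    have hmap : (zpowers ρ).map φ ≤ zpowers ρ := by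
      rw [MonoidHom.map_zpowers, zpowers_le]; exact hconjr
    have heq : (zpowers ρ).map φ = zpowers ρ := Subgroup.eq_of_le_of_card_ge hmap
      (le_of_eq (Subgroup.card_map_of_injective (MulAut.conj γ).injective).symm)
    intro w
    refine ⟨fun hw => hmap ⟨w, hw, rfl⟩, fun hw => ?_⟩
    rw [← heq] at hw
    obtain ⟨u, hu, e⟩ := hw
    rwa [← (MulAut.conj γ).injective (show MulAut.conj γ u = MulAut.conj γ w from e)]
  obtain ⟨R, hR⟩ := (hcp.to_sup_of_normal_right' hrp hle).exists_le_sylow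
  haveI := hS.cyc R
  let _ : CommGroup ↥(R : Subgroup ↥C) := IsCyclic.commGroup
  have hcomm : c * r = r * c :=
    congrArg (fun x : ↥(R : Subgroup ↥C) => ((x : ↥C) : G))
      (mul_comm (⟨_, hR (mem_sup_left (mem_zpowers _))⟩ : ↥(R : Subgroup ↥C))
        ⟨_, hR (mem_sup_right (mem_zpowers _))⟩)
  calc t * r = ι a * (c * r) := by rw [htc, mul_assoc]
    _ = ι a * r * c := by rw [hcomm, mul_assoc]
    _ = r * ι a * c := by rw [(comm_range hr).eq]
    _ = _ := by rw [htc, mul_assoc]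

/-- A square root of the involution that each element of a given two-group fixes or inverts. -/
theorem exists_root (hr : ∃ r ∈ centralizer (ι.range : Set G), r * r = hS.z) {T : Subgroup G}
    (hT : IsPGroup 2 T) (hTz : ∀ t ∈ T, t * hS.z = hS.z * t) :
    ∃ r ∈ centralizer (ι.range : Set G), r * r = hS.z ∧
      (∀ t ∈ T, t * r * t⁻¹ = r ∨ t * r * t⁻¹ = r * hS.z) ∧
      ∀ t ∈ T, (∃ a : I, Acts ι t a) → t * r = r * t := by
  classical
  haveI : Fact (Nat.Prime 2) := ⟨Nat.prime_two⟩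
  set C := centralizer (ι.range : Set G) with hC
  have hTn : T ≤ normalizer (C : Set G) := fun t ht => by
    have hN : t ∈ normalizer (ι.range : Set G) :=
      InvChar.centralizer_involution_le hS.std hS.z_order hS.z_mem fun w hw => by
        rw [Set.mem_singleton_iff.1 hw]; exact (hTz t ht).symm
    rwa [hS.std.2.2.2] at hN
  set K := T ⊔ C with hK
  have hKn : K ≤ normalizer (C : Set G) := sup_le hTn le_normalizer
  have hKz : ∀ k ∈ K, k * hS.z = hS.z * k := by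
    have hle : K ≤ centralizer ({hS.z} : Set G) :=
      sup_le (fun t ht w hw => by rw [Set.mem_singleton_iff.1 hw]; exact (hTz t ht).symm)
        (fun c hc w hw => by rw [Set.mem_singleton_iff.1 hw]; exact hc _ ⟨hS.eI, rfl⟩)
    exact fun k hk => (hle hk hS.z rfl).symm
  obtain ⟨P, hP⟩ := (hT.comap_subtype (K := K)).exists_le_sylow
  obtain ⟨r, hrC, hr2⟩ := hr
  have hrK : r ∈ K := le_sup_right (a := T) hrC
  have hrp : IsPGroup 2 (zpowers (⟨r, hrK⟩ : K)) := by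
    refine IsPGroup.of_card (n := 2) ?_
    rw [Nat.card_zpowers, orderOf_mk]
    refine orderOf_eq_prime_pow ?_ ?_
    · rw [pow_one, pow_two, hr2]; exact hS.z_ne
    · rw [show 2 ^ (1 + 1) = 2 + 2 by norm_num, pow_add, pow_two, hr2, hS.z_sq]
  obtain ⟨P', hP'⟩ := hrp.exists_le_sylow
  obtain ⟨k, hk⟩ := MulAction.exists_smul_eq K P' P
  set r' : G := k * r * (k : G)⁻¹ with hr'
  have hr'P : k * ⟨r, hrK⟩ * k⁻¹ ∈ (P : Subgroup K) := by
    have h1 : k * ⟨r, hrK⟩ * k⁻¹ ∈ ((k • P' : Sylow 2 K) : Subgroup K) :=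
      ⟨_, hP' (mem_zpowers _), rfl⟩
    rwa [hk] at h1
  have hr'C : r' ∈ C := (mem_normalizer_iff.1 (hKn k.2) r).1 hrC
  have hr'2 : r' * r' = hS.z := by
    rw [hr', show (k : G) * r * (k : G)⁻¹ * (k * r * (k : G)⁻¹) = k * (r * r) * (k : G)⁻¹ by group,
      hr2, hKz k k.2, mul_inv_cancel_right]
  suffices hconj : ∀ t ∈ T, t * r' * t⁻¹ = r' ∨ t * r' * t⁻¹ = r' * hS.z by
    exact ⟨r', hr'C, hr'2, hconj, fun t ht ⟨a, ha⟩ => hS.inner_comm hr'C hr'2 (hT ⟨t, ht⟩) ha (hconj t ht)⟩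
  intro t ht
  have htK : t ∈ K := le_sup_left (b := C) ht
  have htP : (⟨t, htK⟩ : K) ∈ (P : Subgroup K) := hP ht
  have hs : (⟨t, htK⟩ * (k * ⟨r, hrK⟩ * k⁻¹) * ⟨t, htK⟩⁻¹ : K) ∈ (P : Subgroup K) :=
    mul_mem (mul_mem htP hr'P) (inv_mem htP)
  set s : G := t * r' * t⁻¹ with hsdef
  have hsC : s ∈ C := (mem_normalizer_iff.1 (hTn ht) r').1 hr'C
  set Q : Subgroup ↥C := ((P : Subgroup K).map K.subtype).comap C.subtype with hQ
  have hQp : IsPGroup 2 Q := (P.isPGroup'.map K.subtype).comap_subtype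
  obtain ⟨R, hR⟩ := hQp.exists_le_sylow
  have hsR : (⟨s, hsC⟩ : C) ∈ (R : Subgroup C) := hR ⟨_, hs, rfl⟩
  have hrR : (⟨r', hr'C⟩ : C) ∈ (R : Subgroup C) := hR ⟨_, hr'P, rfl⟩
  haveI := hS.cyc R
  let _ : CommGroup ↥(R : Subgroup ↥C) := IsCyclic.commGroup
  have hcomm : s * r' = r' * s :=
    congrArg (fun x : ↥(R : Subgroup ↥C) => ((x : ↥C) : G))
      (mul_comm (⟨_, hsR⟩ : ↥(R : Subgroup ↥C)) ⟨_, hrR⟩)
  have hs2 : s * s = hS.z := by
    rw [hsdef, show t * r' * t⁻¹ * (t * r' * t⁻¹) = t * (r' * r') * t⁻¹ by group, hr'2, hTz t ht,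
      mul_inv_cancel_right]
  have h1 : (r'⁻¹ * s) * (r'⁻¹ * s) = 1 := by
    have hc' : Commute r'⁻¹ s := (show Commute r' s from hcomm.symm).inv_left
    rw [show r'⁻¹ * s * (r'⁻¹ * s) = r'⁻¹ * (s * r'⁻¹) * s by group, ← hc'.eq,
      show r'⁻¹ * (r'⁻¹ * s) * s = (r' * r')⁻¹ * (s * s) by group, hr'2, hs2, inv_mul_cancel]
  rcases hS.involution_eq (mul_mem (inv_mem hr'C) hsC) h1 with h | h
  · exact Or.inl (inv_mul_eq_one.1 h).symm
  · exact Or.inr (by rw [← h, mul_inv_cancel_left])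

omit [Finite G] in
/-- The central element is fixed by the conjugations of the Weyl group. -/
theorem acts_z {x : G} {b : UM} (h : Acts ι x b) : x * hS.z = hS.z * x :=
  mul_inv_eq_iff_eq_mul.1 (h hS.eI hS.eI (by
    show (-1 : UM) = b * -1 * b⁻¹
    rw [mul_neg, mul_one, neg_mul, mul_inv_cancel]))

/-- A square root of a conjugate of the involution, fixed or inverted by a given two-group. -/
theorem lift (hr : ∃ r ∈ centralizer (ι.range : Set G), r * r = hS.z) {g u : G}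
    (hgu : g * hS.z * g⁻¹ = u) {T : Subgroup I} (hT : IsPGroup 2 T) (hTu : ∀ t ∈ T, ι t * u = u * ι t) :
    ∃ r', r' * r' = u ∧ ∀ t ∈ T, (ι t * r' * (ι t)⁻¹ = r' ∨ ι t * r' * (ι t)⁻¹ = r' * u) ∧
      ((∃ a : I, Acts ι (g⁻¹ * ι t * g) a) → ι t * r' = r' * ι t) := by
  subst hgu
  set T' : Subgroup G := (T.map ι).map (MulAut.conj g⁻¹).toMonoidHom with hT'
  have hTp : IsPGroup 2 T' := (hT.map ι).map _
  have hTz : ∀ t ∈ T', t * hS.z = hS.z * t := by
    rintro _ ⟨_, ⟨k, hk, rfl⟩, rfl⟩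
    show g⁻¹ * ι k * g⁻¹⁻¹ * hS.z = hS.z * (g⁻¹ * ι k * g⁻¹⁻¹)
    calc g⁻¹ * ι k * g⁻¹⁻¹ * hS.z = g⁻¹ * (ι k * (g * hS.z * g⁻¹)) * g := by group
      _ = g⁻¹ * (g * hS.z * g⁻¹ * ι k) * g := by rw [hTu k hk]
      _ = _ := by group
  obtain ⟨r, -, hr2, hconj, hexact⟩ := hS.exists_root hr hTp hTz
  refine ⟨g * r * g⁻¹, by rw [← hr2]; group, fun t ht => ?_⟩
  have hmem : g⁻¹ * ι t * g⁻¹⁻¹ ∈ T' := ⟨_, ⟨t, ht, rfl⟩, rfl⟩
  refine ⟨?_, fun hin => ?_⟩
  · rcases hconj _ hmem with h | h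
    · refine Or.inl ?_
      calc ι t * (g * r * g⁻¹) * (ι t)⁻¹
          = g * (g⁻¹ * ι t * g⁻¹⁻¹ * r * (g⁻¹ * ι t * g⁻¹⁻¹)⁻¹) * g⁻¹ := by group
        _ = _ := by rw [h]
    · refine Or.inr ?_
      calc ι t * (g * r * g⁻¹) * (ι t)⁻¹
          = g * (g⁻¹ * ι t * g⁻¹⁻¹ * r * (g⁻¹ * ι t * g⁻¹⁻¹)⁻¹) * g⁻¹ := by group
        _ = g * (r * hS.z) * g⁻¹ := by rw [h]
        _ = _ := by group
  · have h := hexact _ hmem (by rwa [inv_inv])
    calc ι t * (g * r * g⁻¹) = g * (g⁻¹ * ι t * g⁻¹⁻¹ * r) * g⁻¹ := by group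
      _ = g * (r * (g⁻¹ * ι t * g⁻¹⁻¹)) * g⁻¹ := by rw [h]
      _ = _ := by group

/-- The lifted root commutes with the central involution. -/
theorem lift_z (hr : ∃ r ∈ centralizer (ι.range : Set G), r * r = hS.z) {g u : G}
    (hgu : g * hS.z * g⁻¹ = u) (hz' : ∃ a : I, Acts ι (g⁻¹ * hS.z * g) a)
    {T : Subgroup I} (hT : IsPGroup 2 T) (hTu : ∀ t ∈ T, ι t * u = u * ι t) (heT : hS.eI ∈ T) :
    ∃ r', r' * r' = u ∧ r' * hS.z = hS.z * r' ∧
      ∀ t ∈ T, ι t * r' * (ι t)⁻¹ = r' ∨ ι t * r' * (ι t)⁻¹ = r' * u := by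
  obtain ⟨r', h2, h⟩ := hS.lift hr hgu hT hTu
  exact ⟨r', h2, ((h _ heT).2 hz').symm, fun t ht => (h t ht).1⟩

omit [Finite G] in
theorem two_zpowers_e : IsPGroup 2 (zpowers hS.eI) := by
  haveI : Fact (Nat.Prime 2) := ⟨Nat.prime_two⟩
  refine IsPGroup.of_card (n := 1) ?_
  rw [Nat.card_zpowers, pow_one, orderOf_eq_prime (p := 2)]
  · rw [pow_two]; exact hS.inj (by rw [map_mul, map_one]; exact hS.z_sq)
  · exact fun h => hS.z_ne (by rw [z, h, map_one])

/-- If the central involution is inner with respect to a conjugate, that conjugate is inner. -/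
theorem inner_of_inner (hr : ∃ r ∈ centralizer (ι.range : Set G), r * r = hS.z) {g u : G}
    (hgu : g * hS.z * g⁻¹ = u) (hu : u * hS.z = hS.z * u)
    (hz' : ∃ a : I, Acts ι (g⁻¹ * hS.z * g) a) : ∃ a : I, Acts ι u a := by
  obtain ⟨r', h2, hz, -⟩ := hS.lift_z hr hgu hz' hS.two_zpowers_e (fun t ht => by
    obtain ⟨n, rfl⟩ := mem_zpowers_iff.1 ht
    rw [map_zpow]
    exact ((show Commute hS.z u from hu.symm).zpow_left n).eq) (mem_zpowers _)
  obtain ⟨b, hb, hab⟩ := hS.exists_acts hz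
  exact ⟨⟨b * b, hS.square_is_inner hb⟩, h2 ▸ hab.mul hab hb⟩

omit [Finite G] in
/-- The action of a lifted root intertwines the sign changes up to sign and the image of the square. -/
theorem twist {r' : G} {b : UM} (hb : b ∈ W) (hab : Acts ι r' b) {u : G} {a : UM} (ha : a ∈ W)
    (hau : Acts ι u a) {t : I}
    (h : ι t * r' * (ι t)⁻¹ = r' ∨ ι t * r' * (ι t)⁻¹ = r' * u) :
    (t : UM) * b * (t : UM)⁻¹ = b ∨ (t : UM) * b * (t : UM)⁻¹ = -b ∨
      (t : UM) * b * (t : UM)⁻¹ = b * a ∨ (t : UM) * b * (t : UM)⁻¹ = -(b * a) := by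
  have hW : (t : UM) * b * (t : UM)⁻¹ ∈ W :=
    mul_mem (mul_mem (I_le_W t.2) hb) (inv_mem (I_le_W t.2))
  have hA : Acts ι (ι t * r' * (ι t)⁻¹) ((t : UM) * b * (t : UM)⁻¹) := by
    rw [← map_inv]
    exact ((acts_iota t).mul hab hb).mul (acts_iota t⁻¹) (I_le_W (t⁻¹).2)
  rcases h with h | h <;> rw [h] at hA
  · rcases hS.acts_unique hb hW hab hA with e | e
    · exact Or.inl e
    · exact Or.inr (Or.inl e)
  · rcases hS.acts_unique (mul_mem hb ha) hW (hab.mul hau ha) hA with e | e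
    · exact Or.inr (Or.inr (Or.inl e))
    · exact Or.inr (Or.inr (Or.inr e))

end Setting

end Cfsg.Agent.O8Standard47
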